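import Mathlib
import Cfsg.Agent.ClassTwoFusion.Ess

/-!
# Essential subgroups: the strongly embedded subgroup of the automizer, transvections

`X` essential in the Sylow `p`-subgroup `S` of `G`, `M₀ = starSub S X`:
* `mem_star_of_map_le`: `X < Q ≤ S`, `k ∈ N(X)`, `Q ≤ N(X)`, `Q^k ≤ S` imply `k ∈ M₀`;
* `mem_star_of_mem`: a subgroup of `N(X)` acting on `X` as a `p`-group does not contain elements `u ∈ S - X` and
  `m v m⁻¹`, `v ∈ S - X`, with `m ∈ N(X) - M₀`;
* `Tr.mem_star`: transvections.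
-/

set_option autoImplicit false
set_option linter.style.haveILetI false
set_option linter.unusedVariables false

namespace Cfsg.Agent.OddHalf.D3.EssSE

open Subgroup Cfsg.Agent.Lib.GoldschmidtFusion Cfsg.Agent.ClassTwoFusion.Ess

variable {G : Type*} [Group G]

section Gen

variable [Finite G] {p : ℕ} [hp : Fact p.Prime]

/-- `M₀` controls the fusion of the subgroups `Q > X`. -/
theorem mem_star_of_map_le {S : Sylow p G} {X : Subgroup G} (hX : IsEss p (S : Subgroup G) X) :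
    ∀ (n : ℕ) (Q : Subgroup G), Nat.card (S : Subgroup G) ≤ Nat.card Q + n → X < Q → Q ≤ S →
      Q ≤ normalizer (X : Set G) → ∀ k ∈ normalizer (X : Set G),
      Q.map (MulAut.conj k).toMonoidHom ≤ S → k ∈ starSub (S : Subgroup G) X := by
  intro n
  induction n using Nat.strong_induction_on with
  | _ n ih =>
    intro Q hcard hXQ hQS hQN k hk hQk
    set N : Subgroup G := normalizer (X : Set G) with hN
    set P : Subgroup G := (S : Subgroup G) ⊓ N with hP
    have hSp : IsPGroup p (S : Subgroup G) := S.isPGroup'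
    have hPp : IsPGroup p P := hSp.to_le inf_le_left
    have hQP : Q ≤ P := le_inf hQS hQN
    have hQkN : Q.map (MulAut.conj k).toMonoidHom ≤ N := by
      rintro _ ⟨q, hq, rfl⟩
      exact mul_mem (mul_mem hk (hQN hq)) (inv_mem hk)
    have hQkP : Q.map (MulAut.conj k).toMonoidHom ≤ P := le_inf hQk hQkN
    have hstarN : ∀ Q' : Subgroup G, X < Q' → Q' ≤ S → N ⊓ normalizer (Q' : Set G) ≤
        starSub (S : Subgroup G) X := fun Q' h1 h2 => inf_normalizer_le_starSub h1 h2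
    by_cases hQeq : Q = P
    · have h1 : Q.map (MulAut.conj k).toMonoidHom = Q := by
        refine map_conj_le_of_le_normalizer ?_
        calc Q.map (MulAut.conj k).toMonoidHom ≤ P := hQkP
          _ = Q := hQeq.symm
      exact hstarN Q hXQ hQS ⟨hk, mem_normalizer_iff_map_conj.2 h1⟩
    have hQltP : Q < P := lt_of_le_of_ne hQP hQeq
    set P' : Subgroup G := P.map (MulAut.conj k⁻¹).toMonoidHom with hP'
    have hP'p : IsPGroup p P' := hPp.map _
    have hQP' : Q ≤ P' := by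
      have h1 := map_conj_mono hQkP k⁻¹
      rw [map_conj_map_conj, inv_mul_cancel, map_conj_one] at h1
      exact h1
    have hQltP' : Q < P' := by
      refine lt_of_le_of_ne hQP' fun h1 => ?_
      have h2 : Nat.card Q = Nat.card P := by
        rw [h1, hP', card_map_conj]
      exact hQltP.ne (Subgroup.eq_of_le_of_card_ge hQP h2.ge)
    have hT1 := lt_inf_normalizer hPp hQltP
    have hT2 := lt_inf_normalizer hP'p hQltP'
    set T1 : Subgroup G := P ⊓ normalizer (Q : Set G) with hT1d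
    set T2 : Subgroup G := P' ⊓ normalizer (Q : Set G) with hT2d
    have hP'N : P' ≤ N := by
      rintro _ ⟨q, hq, rfl⟩
      exact mul_mem (mul_mem (inv_mem hk) hq.2) (inv_mem (inv_mem hk))
    have hT1N : T1 ≤ N ⊓ normalizer (Q : Set G) := inf_le_inf_right _ inf_le_right
    have hT2N : T2 ≤ N ⊓ normalizer (Q : Set G) := inf_le_inf_right _ hP'N
    obtain ⟨R, hR1, hR2, hR3, hR4⟩ := exists_sylow_in (p := p) hT1N (hPp.to_le inf_le_left)
    obtain ⟨b, hb, hbR⟩ := exists_conj_le_in (p := p) hR3 hR4 hT2N (hP'p.to_le inf_le_left)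
    obtain ⟨a, ha, haP⟩ := exists_conj_le_in (p := p) hPp hX.fully (hR2.trans inf_le_left) hR3
    have hlt : ∀ Q' : Subgroup G, Nat.card Q < Nat.card Q' → Q' ≤ S → ∃ n' < n,
        Nat.card (S : Subgroup G) ≤ Nat.card Q' + n' := by
      intro Q' h1 h2
      have h3 : Nat.card Q' ≤ Nat.card (S : Subgroup G) := Subgroup.card_le_of_le h2
      refine ⟨Nat.card (S : Subgroup G) - Nat.card Q', ?_, by omega⟩
      omega
    have hcT1 : Nat.card Q < Nat.card T1 := by
      exact Set.ncard_lt_ncard (by exact_mod_cast hT1) (Set.toFinite _)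
    have hcT2 : Nat.card Q < Nat.card T2 := by
      exact Set.ncard_lt_ncard (by exact_mod_cast hT2) (Set.toFinite _)
    -- a ∈ M₀
    have haM : a ∈ starSub (S : Subgroup G) X := by
      have hT1S : T1 ≤ S := inf_le_left.trans inf_le_left
      obtain ⟨n', hn', hc'⟩ := hlt T1 hcT1 hT1S
      exact ih n' hn' T1 hc' (hXQ.trans hT1) hT1S (hT1N.trans inf_le_left) a ha
        ((map_conj_mono hR1 a).trans (haP.trans inf_le_left))
    have hbM : b ∈ starSub (S : Subgroup G) X := hstarN Q hXQ hQS hb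
    -- the conjugate of T2
    set Q' : Subgroup G := T2.map (MulAut.conj k).toMonoidHom with hQ'
    have hQ'P : Q' ≤ P := by
      have h1 := map_conj_mono (inf_le_left : T2 ≤ P') k
      rw [hP', map_conj_map_conj, mul_inv_cancel, map_conj_one] at h1
      exact h1
    have hcQ' : Nat.card Q' = Nat.card T2 := card_map_conj _ _
    have hXQ' : X < Q' := by
      refine lt_of_le_of_ne ?_ fun h1 => ?_
      · have h1 := map_conj_mono (hXQ.le.trans hT2.le) k
        rwa [mem_normalizer_iff_map_conj.1 hk] at h1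
      · have h2 : Nat.card X < Nat.card Q := by
          exact Set.ncard_lt_ncard (by exact_mod_cast hXQ) (Set.toFinite _)
        rw [← h1] at hcQ'
        omega
    have hfin : a * b * k⁻¹ ∈ starSub (S : Subgroup G) X := by
      obtain ⟨n', hn', hc'⟩ := hlt Q' (by omega) (hQ'P.trans inf_le_left)
      refine ih n' hn' Q' hc' hXQ' (hQ'P.trans inf_le_left) (hQ'P.trans inf_le_right) (a * b * k⁻¹)
        (mul_mem (mul_mem ha hb.1) (inv_mem hk)) ?_
      rw [hQ', map_conj_map_conj]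
      have e : a * b * k⁻¹ * k = a * b := by group
      rw [e, ← map_conj_map_conj]
      exact (map_conj_mono hbR a).trans (haP.trans inf_le_left)
    have h5 := mul_mem (inv_mem hfin) (mul_mem haM hbM)
    have e : (a * b * k⁻¹)⁻¹ * (a * b) = k := by group
    rwa [e] at h5

/-- conjugation by the part acting trivially -/
theorem exists_conj_centralizer {X Y R Q : Subgroup G} (hXN : Y ≤ normalizer (X : Set G))
    (hYC : ∀ y ∈ Y, ∃ n : ℕ, y ^ p ^ n ∈ centralizer (X : Set G)) (hRY : R ≤ Y) (hR : IsPGroup p R)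
    (hRi : ¬ p ∣ R.relIndex Y) (hQY : Q ≤ Y) (hQ : IsPGroup p Q) :
    ∃ c ∈ centralizer (X : Set G), c ∈ Y ∧ Q.map (MulAut.conj c).toMonoidHom ≤ R := by
  obtain ⟨g, hg, hgR⟩ := exists_conj_le_in (p := p) hR hRi hQY hQ
  set C : Subgroup Y := (centralizer (X : Set G)).subgroupOf Y with hC
  haveI hCn : C.Normal := by
    refine ⟨fun c hc y => ?_⟩
    rw [hC, mem_subgroupOf] at hc ⊢
    have hy := hXN y.2
    rw [mem_centralizer_iff] at hc ⊢
    intro x hx
    have h1 : (y : G)⁻¹ * x * y ∈ X := (mem_normalizer_iff''.1 hy x).1 hx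
    have h2 := hc _ h1
    have h3 := congrArg (fun t => (y : G) * t * (y : G)⁻¹) h2
    simpa [mul_assoc] using h3
  have h1 : IsPGroup p (Y ⧸ C) := by
    intro q
    obtain ⟨y, rfl⟩ := QuotientGroup.mk_surjective q
    obtain ⟨n, hn⟩ := hYC y y.2
    refine ⟨n, ?_⟩
    rw [← QuotientGroup.mk_pow, QuotientGroup.eq_one_iff, hC, mem_subgroupOf]
    simpa using hn
  have h2 : R.subgroupOf Y ⊔ C = ⊤ := by
    rw [← Subgroup.index_eq_one]
    obtain ⟨k, hk⟩ := IsPGroup.iff_card.1 h1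
    have h3 : (R.subgroupOf Y ⊔ C).index ∣ p ^ k := by
      have h4 := Subgroup.index_dvd_of_le (le_sup_right : C ≤ R.subgroupOf Y ⊔ C)
      have h5 : C.index = p ^ k := hk
      rwa [h5] at h4
    have h4 : (R.subgroupOf Y ⊔ C).index ∣ (R.subgroupOf Y).index :=
      Subgroup.index_dvd_of_le le_sup_left
    obtain ⟨j, -, hj⟩ := (Nat.dvd_prime_pow hp.1).1 h3
    rw [hj]
    rcases Nat.eq_zero_or_pos j with hj0 | hj0
    · rw [hj0, pow_zero]
    · exfalso
      apply hRi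
      refine dvd_trans ?_ (hj ▸ h4)
      exact dvd_pow_self p hj0.ne'
  have h3 : (⟨g, hg⟩ : Y) ∈ R.subgroupOf Y ⊔ C := by rw [h2]; exact mem_top _
  rw [Subgroup.mem_sup_of_normal_right] at h3
  obtain ⟨r, hr, c, hc, hrc⟩ := h3
  refine ⟨c, hc, c.2, ?_⟩
  have e : (c : G) = (r : G)⁻¹ * g := by
    have := congrArg Subtype.val hrc
    simp only [Subgroup.coe_mul] at this
    rw [← this]; group
  rw [e, ← map_conj_map_conj]
  refine (map_conj_mono hgR _).trans ?_
  rintro _ ⟨x, hx, rfl⟩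
  have hr' : (r : G) ∈ R := hr
  exact mul_mem (mul_mem (inv_mem hr') hx) (inv_mem (inv_mem hr'))

/-- The subgroup `M₀` is strongly embedded modulo `X C(X)`. -/
theorem mem_star_of_mem {S : Sylow p G} {X : Subgroup G} (hX : IsEss p (S : Subgroup G) X) {Y : Subgroup G}
    (hYN : Y ≤ normalizer (X : Set G)) (hXY : X ≤ Y)
    (hYC : ∀ y ∈ Y, ∃ n : ℕ, y ^ p ^ n ∈ centralizer (X : Set G)) {u v m : G} (hu : u ∈ S) (huX : u ∉ X)
    (huY : u ∈ Y) (hv : v ∈ S) (hvX : v ∉ X) (hvN : v ∈ normalizer (X : Set G))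
    (hm : m ∈ normalizer (X : Set G)) (hmv : m * v * m⁻¹ ∈ Y) : m ∈ starSub (S : Subgroup G) X := by
  have hSp : IsPGroup p (S : Subgroup G) := S.isPGroup'
  have hXS : X ≤ S := hX.lt.le
  obtain ⟨R, hR1, hR2, hR3, hR4⟩ := exists_sylow_in (p := p) hXY (hSp.to_le hXS)
  obtain ⟨a, ha, haP⟩ := exists_conj_le_in (p := p) (hSp.to_le inf_le_left) hX.fully (hR2.trans hYN) hR3
  have key : ∀ (w k : G), w ∈ S → w ∉ X → w ∈ normalizer (X : Set G) → k ∈ normalizer (X : Set G) →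
      k * w * k⁻¹ ∈ Y → ∃ c ∈ centralizer (X : Set G), a * c * k ∈ starSub (S : Subgroup G) X := by
    intro w k hw hwX hwN hk hkw
    set Q : Subgroup G := X ⊔ zpowers w with hQ
    have hQS : Q ≤ S := sup_le hXS (by rw [zpowers_le]; exact hw)
    have hQN : Q ≤ normalizer (X : Set G) := sup_le le_normalizer (by rw [zpowers_le]; exact hwN)
    have hXQ : X < Q := by
      refine lt_of_le_of_ne le_sup_left fun h1 => hwX ?_
      rw [h1]; exact mem_sup_right (mem_zpowers w)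
    have hQk : Q.map (MulAut.conj k).toMonoidHom ≤ Y := by
      rw [hQ, Subgroup.map_sup, mem_normalizer_iff_map_conj.1 hk]
      refine sup_le hXY ?_
      rw [MonoidHom.map_zpowers, zpowers_le]
      exact hkw
    have hQkp : IsPGroup p (Q.map (MulAut.conj k).toMonoidHom : Subgroup G) := (hSp.to_le hQS).map _
    obtain ⟨c, hc, hcY, hcR⟩ := exists_conj_centralizer hYN hYC hR2 hR3 hR4 hQk hQkp
    refine ⟨c, hc, mem_star_of_map_le hX (Nat.card (S : Subgroup G)) Q (by omega) hXQ hQS hQN (a * c * k)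
      (mul_mem (mul_mem ha (centralizer_le_normalizer _ hc)) hk) ?_⟩
    have h1 := map_conj_mono hcR a
    rw [map_conj_map_conj, map_conj_map_conj] at h1
    exact h1.trans (haP.trans inf_le_left)
  obtain ⟨c1, hc1, h1⟩ := key u 1 hu huX (hYN huY) (one_mem _) (by simpa using huY)
  obtain ⟨c2, hc2, h2⟩ := key v m hv hvX hvN hm hmv
  have hcs : ∀ c ∈ centralizer (X : Set G), c ∈ starSub (S : Subgroup G) X := fun c hc =>
    centralizer_le_starSub _ _ hc
  have h3 := mul_mem (mul_mem (inv_mem (hcs _ hc2)) (hcs _ hc1)) (mul_mem (inv_mem h1) h2)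
  have e : c2⁻¹ * c1 * ((a * c1 * 1)⁻¹ * (a * c2 * m)) = m := by group
  rwa [e] at h3

end Gen

/-! ### groups acting as 2-groups -/

/-- if `K` acts as a `p`-group and the `p`-group `X` normalises `K`, then `K X` acts as a `p`-group. -/
theorem exists_pow_of_sup {p : ℕ} [hp : Fact p.Prime] {X K : Subgroup G} (hX : IsPGroup p X)
    (hKN : K ≤ normalizer (X : Set G)) (hKC : ∀ k ∈ K, ∃ n : ℕ, k ^ p ^ n ∈ centralizer (X : Set G))
    (hXK : ∀ x ∈ X, ∀ k ∈ K, x * k * x⁻¹ ∈ K) :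
    ∀ y ∈ (K ⊔ X : Subgroup G), ∃ n : ℕ, y ^ p ^ n ∈ centralizer (X : Set G) := by
  set N : Subgroup G := normalizer (X : Set G) with hN
  have hXN : X ≤ N := le_normalizer
  set φ : ↥N →* MulAut ↥X := X.normalizerMonoidHom with hφ
  have hker : ∀ y : ↥N, φ y = 1 ↔ (y : G) ∈ centralizer (X : Set G) := by
    intro y
    rw [← MonoidHom.mem_ker, hφ, Subgroup.normalizerMonoidHom_ker, mem_subgroupOf]
  have hA : IsPGroup p ((K.subgroupOf N).map φ : Subgroup (MulAut ↥X)) := by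
    rintro ⟨_, ⟨k, hk, rfl⟩⟩
    obtain ⟨n, hn⟩ := hKC k hk
    refine ⟨n, ?_⟩
    apply Subtype.ext
    change (φ k) ^ p ^ n = 1
    rw [← map_pow, hker]
    simpa using hn
  have hB : IsPGroup p ((X.subgroupOf N).map φ : Subgroup (MulAut ↥X)) :=
    (hX.comap_of_injective N.subtype N.subtype_injective).map _
  have hBN : (X.subgroupOf N).map φ ≤ normalizer (((K.subgroupOf N).map φ : Subgroup (MulAut ↥X)) : Set (MulAut ↥X)) := by
    rintro _ ⟨x, hx, rfl⟩
    have h1 : ∀ z : ↥N, (z : G) ∈ X → ∀ w ∈ (K.subgroupOf N).map φ, φ z * w * (φ z)⁻¹ ∈ (K.subgroupOf N).map φ := by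
      rintro z hz _ ⟨k, hk, rfl⟩
      exact ⟨z * k * z⁻¹, hXK z hz k hk, by simp⟩
    rw [mem_normalizer_iff]
    intro w
    refine ⟨fun hw => h1 x hx w hw, fun hw => ?_⟩
    have hx' : ((x⁻¹ : ↥N) : G) ∈ X := X.inv_mem hx
    have h2 := h1 x⁻¹ hx' _ hw
    have e : φ x⁻¹ * (φ x * w * (φ x)⁻¹) * (φ x⁻¹)⁻¹ = w := by
      rw [map_inv]; group
    rwa [e] at h2
  have hAB : IsPGroup p ((K.subgroupOf N).map φ ⊔ (X.subgroupOf N).map φ : Subgroup (MulAut ↥X)) :=
    hA.to_sup_of_normal_left' hB hBN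
  intro y hy
  have hyN : y ∈ N := (sup_le hKN hXN) hy
  have h1 : φ ⟨y, hyN⟩ ∈ (K.subgroupOf N).map φ ⊔ (X.subgroupOf N).map φ := by
    rw [← Subgroup.map_sup, ← Subgroup.subgroupOf_sup hKN hXN]
    exact ⟨⟨y, hyN⟩, hy, rfl⟩
  obtain ⟨n, hn⟩ := hAB ⟨_, h1⟩
  refine ⟨n, ?_⟩
  have h2 : (φ ⟨y, hyN⟩) ^ p ^ n = 1 := congrArg Subtype.val hn
  rw [← map_pow, hker] at h2
  simpa using h2

/-! ### transvections -/

/-- `a ∈ S - X` acts on `X` as a transvection (or trivially) with central centre `d`. -/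
structure Tr (S X : Subgroup G) (a d : G) : Prop where
  mem : a ∈ S
  notMem : a ∉ X
  dmem : d ∈ X
  sq : d * d = 1
  cen : ∀ x ∈ X, d * x = x * d
  comm : a * d = d * a
  act : ∀ x ∈ X, a * x * a⁻¹ = x ∨ a * x * a⁻¹ = d * x

namespace Tr

variable {S X : Subgroup G} {a d : G} (h : Tr S X a d)
include h

theorem mem_normalizer [Finite G] : a ∈ normalizer (X : Set G) := by
  refine Cfsg.Agent.Lib.GoldschmidtFusion.mem_normalizer_iff_map_conj.2
    (map_conj_le_of_le_normalizer ?_)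
  rintro _ ⟨x, hx, rfl⟩
  rcases h.act x hx with h1 | h1
  · change a * x * a⁻¹ ∈ X
    rw [h1]; exact hx
  · change a * x * a⁻¹ ∈ X
    rw [h1]; exact mul_mem h.dmem hx

/-- the conjugate data -/
theorem act_conj {m : G} (hm : m ∈ normalizer (X : Set G)) : ∀ x ∈ X,
    m * a * m⁻¹ * x * (m * a * m⁻¹)⁻¹ = x ∨ m * a * m⁻¹ * x * (m * a * m⁻¹)⁻¹ = (m * d * m⁻¹) * x := by
  intro x hx
  have h1 : m⁻¹ * x * m ∈ X := (mem_normalizer_iff''.1 hm x).1 hx
  have e : m * a * m⁻¹ * x * (m * a * m⁻¹)⁻¹ = m * (a * (m⁻¹ * x * m) * a⁻¹) * m⁻¹ := by group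
  rw [e]
  rcases h.act _ h1 with h2 | h2
  · left; rw [h2]; group
  · right; rw [h2]; group

end Tr

/-- **Transvections.** -/
theorem Tr.mem_star [Finite G] {S : Sylow 2 G} {X : Subgroup G} (hX : IsEss 2 (S : Subgroup G) X) {a d b f m : G}
    (ha : Tr (S : Subgroup G) X a d) (hb : Tr (S : Subgroup G) X b f) (hm : m ∈ normalizer (X : Set G))
    (hc : b * (m * d * m⁻¹) = m * d * m⁻¹ * b) : m ∈ starSub (S : Subgroup G) X := by
  haveI : Fact (Nat.Prime 2) := ⟨Nat.prime_two⟩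
  have hSp : IsPGroup 2 (S : Subgroup G) := S.isPGroup'
  set d' : G := m * d * m⁻¹ with hd'
  set a' : G := m * a * m⁻¹ with ha'
  have hmX : ∀ x ∈ X, m * x * m⁻¹ ∈ X := fun x hx => (mem_normalizer_iff.1 hm x).1 hx
  have hmX' : ∀ x ∈ X, m⁻¹ * x * m ∈ X := fun x hx => (mem_normalizer_iff''.1 hm x).1 hx
  have hd'X : d' ∈ X := hmX d ha.dmem
  have hd'2 : d' * d' = 1 := by
    have e : d' * d' = m * (d * d) * m⁻¹ := by rw [hd']; group
    rw [e, ha.sq]; group
  have hd'c : ∀ x ∈ X, d' * x = x * d' := by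
    intro x hx
    have h1 := ha.cen _ (hmX' x hx)
    have h2 := congrArg (fun t => m * t * m⁻¹) h1
    have e1 : m * (d * (m⁻¹ * x * m)) * m⁻¹ = d' * x := by rw [hd']; group
    have e2 : m * (m⁻¹ * x * m * d) * m⁻¹ = x * d' := by rw [hd']; group
    simpa only [e1, e2] using h2
  have ha'd' : a' * d' = d' * a' := by
    have e1 : a' * d' = m * (a * d) * m⁻¹ := by rw [hd', ha']; group
    have e2 : d' * a' = m * (d * a) * m⁻¹ := by rw [hd', ha']; group
    rw [e1, e2, ha.comm]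
  have ha'act : ∀ x ∈ X, a' * x * a'⁻¹ = x ∨ a' * x * a'⁻¹ = d' * x := ha.act_conj hm
  -- the central four-group
  set V : Subgroup G := closure {f, d'} with hV
  have hfV : f ∈ V := subset_closure (by simp)
  have hd'V : d' ∈ V := subset_closure (by simp)
  have hVp : ∀ v ∈ V, v ∈ X ∧ v * v = 1 ∧ (∀ x ∈ X, v * x = x * v) ∧ b * v = v * b := by
    intro v hv
    induction hv using closure_induction with
    | mem y hy =>
      rcases hy with rfl | rfl
      · exact ⟨hb.dmem, hb.sq, hb.cen, hb.comm⟩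
      · exact ⟨hd'X, hd'2, hd'c, hc⟩
    | one => exact ⟨one_mem _, one_mul 1, fun x _ => by simp, by simp⟩
    | mul y z _ _ hy hz =>
      obtain ⟨h1, h2, h3, h4⟩ := hy
      obtain ⟨h5, h6, h7, h8⟩ := hz
      refine ⟨mul_mem h1 h5, ?_, ?_, ?_⟩
      · calc y * z * (y * z) = y * (z * y) * z := by group
          _ = (y * y) * (z * z) := by rw [h7 y h1]; group
          _ = 1 := by rw [h2, h6, one_mul]
      · intro x hx
        calc y * z * x = y * (z * x) := by group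
          _ = (y * x) * z := by rw [h7 x hx]; group
          _ = x * (y * z) := by rw [h3 x hx]; group
      · calc b * (y * z) = (b * y) * z := by group
          _ = y * (b * z) := by rw [h4]; group
          _ = y * z * b := by rw [h8]; group
    | inv y _ hy =>
      obtain ⟨h1, h2, h3, h4⟩ := hy
      have e : y⁻¹ = y := inv_eq_of_mul_eq_one_left h2
      rw [e]
      exact ⟨h1, h2, h3, h4⟩
  have hVX : V ≤ X := fun v hv => (hVp v hv).1
  have hV2 : ∀ v ∈ V, v * v = 1 := fun v hv => (hVp v hv).2.1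
  have hVc : ∀ v ∈ V, ∀ x ∈ X, v * x = x * v := fun v hv => (hVp v hv).2.2.1
  have hVb : ∀ v ∈ V, b * v = v * b := fun v hv => (hVp v hv).2.2.2
  set W : Subgroup G := zpowers d' with hW
  have hWV : W ≤ V := by rw [hW, zpowers_le]; exact hd'V
  -- the stabiliser of the chain
  have comW : ∀ k : G, k * d' * k⁻¹ = d' → ∀ w ∈ W, k * w * k⁻¹ = w := by
    intro k hk w hw
    obtain ⟨n, rfl⟩ := mem_zpowers_iff.1 hw
    have h1 : (MulAut.conj k) (d' ^ n) = d' ^ n := by
      rw [map_zpow]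
      congr 1
    simpa using h1
  let K : Subgroup G :=
    { carrier := {k | (∀ x ∈ X, ∃ v ∈ V, k * x * k⁻¹ = v * x) ∧ (∀ v ∈ V, ∃ w ∈ W, k * v * k⁻¹ = w * v) ∧
        k * d' * k⁻¹ = d'}
      one_mem' := ⟨fun x _ => ⟨1, one_mem _, by group⟩, fun v _ => ⟨1, one_mem _, by group⟩, by group⟩
      mul_mem' := by
        rintro k l ⟨h1, h2, h3⟩ ⟨h4, h5, h6⟩
        refine ⟨fun x hx => ?_, fun v hv => ?_, ?_⟩
        · obtain ⟨v, hv, hv'⟩ := h4 x hx
          obtain ⟨v', hv1, hv1'⟩ := h1 x hx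
          obtain ⟨w, hw, hw'⟩ := h2 v hv
          refine ⟨w * v * v', mul_mem (mul_mem (hWV hw) hv) hv1, ?_⟩
          calc k * l * x * (k * l)⁻¹ = k * (l * x * l⁻¹) * k⁻¹ := by group
            _ = (k * v * k⁻¹) * (k * x * k⁻¹) := by rw [hv']; group
            _ = w * v * v' * x := by rw [hw', hv1']; group
        · obtain ⟨w, hw, hw'⟩ := h5 v hv
          obtain ⟨w', hw1, hw1'⟩ := h2 v hv
          refine ⟨w * w', mul_mem hw hw1, ?_⟩
          calc k * l * v * (k * l)⁻¹ = k * (l * v * l⁻¹) * k⁻¹ := by group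
            _ = (k * w * k⁻¹) * (k * v * k⁻¹) := by rw [hw']; group
            _ = w * w' * v := by rw [comW k h3 w hw, hw1']; group
        · calc k * l * d' * (k * l)⁻¹ = k * (l * d' * l⁻¹) * k⁻¹ := by group
            _ = d' := by rw [h6, h3]
      inv_mem' := by
        rintro k ⟨h1, h2, h3⟩
        have h3' : k⁻¹ * d' * k = d' := by
          calc k⁻¹ * d' * k = k⁻¹ * (k * d' * k⁻¹) * k := by rw [h3]
            _ = d' := by group
        have h2' : ∀ v ∈ V, ∃ w ∈ W, k⁻¹ * v * k = w * v := by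
          intro v hv
          obtain ⟨w, hw, hw'⟩ := h2 v hv
          refine ⟨w⁻¹, inv_mem hw, ?_⟩
          have h4 := comW k⁻¹ (by rw [inv_inv]; exact h3') w hw
          rw [inv_inv] at h4
          calc k⁻¹ * v * k = w⁻¹ * (w * (k⁻¹ * v * k)) := by group
            _ = w⁻¹ * ((k⁻¹ * w * k) * (k⁻¹ * v * k)) := by rw [h4]
            _ = w⁻¹ * (k⁻¹ * (w * v) * k) := by group
            _ = w⁻¹ * (k⁻¹ * (k * v * k⁻¹) * k) := by rw [hw']
            _ = w⁻¹ * v := by group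
        refine ⟨fun x hx => ?_, fun v hv => ?_, ?_⟩
        · obtain ⟨v, hv, hv'⟩ := h1 x hx
          obtain ⟨w, hw, hw'⟩ := h2' v hv
          refine ⟨(w * v)⁻¹, inv_mem (mul_mem (hWV hw) hv), ?_⟩
          rw [inv_inv]
          calc k⁻¹ * x * k = (k⁻¹ * v * k)⁻¹ * (k⁻¹ * (v * x) * k) := by group
            _ = (w * v)⁻¹ * (k⁻¹ * (k * x * k⁻¹) * k) := by rw [hw', hv']
            _ = (w * v)⁻¹ * x := by group
        · rw [inv_inv]; exact h2' v hv
        · rw [inv_inv]; exact h3' }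
  have hK : ∀ k, k ∈ K ↔ (∀ x ∈ X, ∃ v ∈ V, k * x * k⁻¹ = v * x) ∧ (∀ v ∈ V, ∃ w ∈ W, k * v * k⁻¹ = w * v) ∧
        k * d' * k⁻¹ = d' := fun k => Iff.rfl
  have hbK : b ∈ K := by
    refine (hK b).2 ⟨fun x hx => ?_, fun v hv => ⟨1, one_mem _, ?_⟩, ?_⟩
    · rcases hb.act x hx with h1 | h1
      · exact ⟨1, one_mem _, by rw [h1, one_mul]⟩
      · exact ⟨f, hfV, h1⟩
    · rw [one_mul, hVb v hv, mul_inv_cancel_right]
    · rw [hVb d' hd'V, mul_inv_cancel_right]
  have ha'K : a' ∈ K := by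
    refine (hK a').2 ⟨fun x hx => ?_, fun v hv => ?_, ?_⟩
    · rcases ha'act x hx with h1 | h1
      · exact ⟨1, one_mem _, by rw [h1, one_mul]⟩
      · exact ⟨d', hd'V, h1⟩
    · rcases ha'act v (hVX hv) with h1 | h1
      · exact ⟨1, one_mem _, by rw [h1, one_mul]⟩
      · exact ⟨d', mem_zpowers _, h1⟩
    · rw [ha'd', mul_inv_cancel_right]
  have hKX : ∀ k ∈ K, ∀ x ∈ X, k * x * k⁻¹ ∈ X := by
    intro k hk x hx
    obtain ⟨v, hv, hv'⟩ := ((hK k).1 hk).1 x hx
    rw [hv']; exact mul_mem (hVX hv) hx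
  have hKN : K ≤ normalizer (X : Set G) := by
    intro k hk
    rw [mem_normalizer_iff]
    intro x
    refine ⟨fun hx => hKX k hk x hx, fun hx => ?_⟩
    have h1 := hKX k⁻¹ (inv_mem hk) _ hx
    have e : k⁻¹ * (k * x * k⁻¹) * k⁻¹⁻¹ = x := by group
    rwa [e] at h1
  have hK4 : ∀ k ∈ K, ∃ n : ℕ, k ^ 2 ^ n ∈ centralizer (X : Set G) := by
    intro k hk
    obtain ⟨h1, h2, h3⟩ := (hK k).1 hk
    have h4 : ∀ x ∈ X, ∃ w ∈ W, k ^ 2 * x * (k ^ 2)⁻¹ = w * x := by
      intro x hx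
      obtain ⟨v, hv, hv'⟩ := h1 x hx
      obtain ⟨w, hw, hw'⟩ := h2 v hv
      refine ⟨w, hw, ?_⟩
      calc k ^ 2 * x * (k ^ 2)⁻¹ = k * (k * x * k⁻¹) * k⁻¹ := by rw [pow_two]; group
        _ = k * (v * x) * k⁻¹ := by rw [hv']
        _ = (k * v * k⁻¹) * (k * x * k⁻¹) := by group
        _ = w * (v * v) * x := by rw [hw', hv']; group
        _ = w * x := by rw [hV2 v hv, mul_one]
    have h3' : k ^ 2 * d' * (k ^ 2)⁻¹ = d' := by
      calc k ^ 2 * d' * (k ^ 2)⁻¹ = k * (k * d' * k⁻¹) * k⁻¹ := by rw [pow_two]; group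
        _ = d' := by rw [h3, h3]
    refine ⟨2, ?_⟩
    rw [mem_centralizer_iff]
    intro x hx
    obtain ⟨w, hw, hw'⟩ := h4 x hx
    have h5 := comW (k ^ 2) h3' w hw
    have h6 : k ^ 4 * x * (k ^ 4)⁻¹ = x := by
      calc k ^ 4 * x * (k ^ 4)⁻¹ = k ^ 2 * (k ^ 2 * x * (k ^ 2)⁻¹) * (k ^ 2)⁻¹ := by
            rw [show (4 : ℕ) = 2 + 2 from rfl, pow_add]; group
        _ = k ^ 2 * (w * x) * (k ^ 2)⁻¹ := by rw [hw']
        _ = (k ^ 2 * w * (k ^ 2)⁻¹) * (k ^ 2 * x * (k ^ 2)⁻¹) := by group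
        _ = (w * w) * x := by rw [h5, hw']; group
        _ = x := by rw [hV2 w (hWV hw), one_mul]
    have h7 : k ^ 4 * x = x * k ^ 4 := by
      calc k ^ 4 * x = (k ^ 4 * x * (k ^ 4)⁻¹) * k ^ 4 := by group
        _ = x * k ^ 4 := by rw [h6]
    exact h7.symm
  have hXK : ∀ x ∈ X, ∀ k ∈ K, x * k * x⁻¹ ∈ K := by
    intro x' hx' k hk
    obtain ⟨h1, h2, h3⟩ := (hK k).1 hk
    refine (hK _).2 ⟨fun x hx => ?_, fun v hv => ?_, ?_⟩
    · obtain ⟨v, hv, hv'⟩ := h1 (x'⁻¹ * x * x') (mul_mem (mul_mem (inv_mem hx') hx) hx')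
      refine ⟨v, hv, ?_⟩
      calc x' * k * x'⁻¹ * x * (x' * k * x'⁻¹)⁻¹ = x' * (k * (x'⁻¹ * x * x') * k⁻¹) * x'⁻¹ := by group
        _ = (x' * v) * (x'⁻¹ * x * x') * x'⁻¹ := by rw [hv']; group
        _ = v * x := by rw [← hVc v hv x' hx']; group
    · obtain ⟨w, hw, hw'⟩ := h2 v hv
      refine ⟨w, hw, ?_⟩
      calc x' * k * x'⁻¹ * v * (x' * k * x'⁻¹)⁻¹ = x' * (k * (x'⁻¹ * (v * x')) * k⁻¹) * x'⁻¹ := by group
        _ = x' * (k * v * k⁻¹) * x'⁻¹ := by rw [hVc v hv x' hx']; group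
        _ = (x' * w) * v * x'⁻¹ := by rw [hw']; group
        _ = w * (x' * v) * x'⁻¹ := by rw [← hVc w (hWV hw) x' hx']; group
        _ = w * v := by rw [← hVc v hv x' hx']; group
    · calc x' * k * x'⁻¹ * d' * (x' * k * x'⁻¹)⁻¹ = x' * (k * (x'⁻¹ * (d' * x')) * k⁻¹) * x'⁻¹ := by group
        _ = x' * (k * d' * k⁻¹) * x'⁻¹ := by rw [hd'c x' hx']; group
        _ = (x' * d') * x'⁻¹ := by rw [h3]
        _ = d' := by rw [← hd'c x' hx']; group
  refine mem_star_of_mem (p := 2) hX (Y := K ⊔ X) (sup_le hKN le_normalizer) le_sup_right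
    (exists_pow_of_sup (hSp.to_le hX.lt.le) hKN hK4 hXK) (u := b) (v := a) hb.mem hb.notMem
    (mem_sup_left hbK) ha.mem ha.notMem ha.mem_normalizer hm (mem_sup_left ha'K)

end Cfsg.Agent.OddHalf.D3.EssSE
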