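import Cfsg.Agent.OddHalf.D3.ThreeFam

/-!
# ODD D3 (iii), n ≥ 3: there are no adjacent classes (text of helper133, bb ODD 7641, (2)-(5))
-/

set_option autoImplicit false

namespace Cfsg.Agent.OddHalf.D3.ThreeMain

open Cfsg.Agent.OddHalf.D3.ThreeDefs Cfsg.Agent.OddHalf.D3.ThreeFam
open scoped commutatorElement

universe u

variable {G : Type u} [Group G]

/-! ### Products of subgroups -/

/-- the product `P W` of a subgroup `P` and a subgroup `W` normalising it -/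
def mulSub (P W : Subgroup G) (h : ∀ w ∈ W, cj w P = P) : Subgroup G where
  carrier := {x | ∃ p ∈ P, ∃ w ∈ W, x = p * w}
  one_mem' := ⟨1, one_mem _, 1, one_mem _, by simp⟩
  mul_mem' := by
    rintro _ _ ⟨p, hp, w, hw, rfl⟩ ⟨p', hp', w', hw', rfl⟩
    refine ⟨p * (w * p' * w⁻¹), mul_mem hp (conj_mem_of_cj (h w hw) hp'), w * w', mul_mem hw hw', by group⟩
  inv_mem' := by
    rintro _ ⟨p, hp, w, hw, rfl⟩
    refine ⟨w⁻¹ * p⁻¹ * w, ?_, w⁻¹, inv_mem hw, by group⟩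
    have := conj_mem_of_cj (cj_inv_eq (h w hw)) (inv_mem hp)
    rwa [inv_inv] at this

theorem mem_mulSub {P W : Subgroup G} {h : ∀ w ∈ W, cj w P = P} {x : G} :
    x ∈ mulSub P W h ↔ ∃ p ∈ P, ∃ w ∈ W, x = p * w := Iff.rfl

theorem le_mulSub_left {P W : Subgroup G} {h : ∀ w ∈ W, cj w P = P} : P ≤ mulSub P W h :=
  fun x hx => ⟨x, hx, 1, one_mem _, by simp⟩

theorem le_mulSub_right {P W : Subgroup G} {h : ∀ w ∈ W, cj w P = P} : W ≤ mulSub P W h :=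
  fun x hx => ⟨1, one_mem _, x, hx, by simp⟩

theorem mulSub_le {P W X : Subgroup G} {h : ∀ w ∈ W, cj w P = P} (h1 : P ≤ X) (h2 : W ≤ X) : mulSub P W h ≤ X := by
  rintro _ ⟨p, hp, w, hw, rfl⟩
  exact mul_mem (h1 hp) (h2 hw)

theorem isPGroup_mulSub {P W : Subgroup G} {h : ∀ w ∈ W, cj w P = P} (hP : IsPGroup 2 P) (hW : IsPGroup 2 W) :
    IsPGroup 2 (mulSub P W h) := by
  have h1 : W ≤ Subgroup.normalizer (P : Set G) := by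
    intro w hw
    rw [Subgroup.mem_normalizer_iff]
    intro x
    have h1 : cj w⁻¹ P = P := cj_inv_eq (h w hw)
    have h2 : w * x * w⁻¹ ∈ P ↔ x ∈ cj w⁻¹ P := by rw [mem_cj, inv_inv]
    rw [h2, h1]
  have h2 := hW.to_sup_of_normal_right' hP h1
  refine h2.to_le ?_
  exact mulSub_le le_sup_right le_sup_left

theorem card_mulSub [Finite G] {P W : Subgroup G} {h : ∀ w ∈ W, cj w P = P} (hd : ∀ x, x ∈ P → x ∈ W → x = 1) :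
    Nat.card (mulSub P W h) = Nat.card P * Nat.card W := by
  rw [← Nat.card_prod]
  symm
  refine Nat.card_congr (Equiv.ofBijective (fun x : P × W => (⟨x.1 * x.2, ⟨x.1, x.1.2, x.2, x.2.2, rfl⟩⟩ : mulSub P W h)) ?_)
  constructor
  · rintro ⟨a, b⟩ ⟨a', b'⟩ hab
    have h1 : (a : G) * b = a' * b' := congrArg Subtype.val hab
    have h2 : (a' : G)⁻¹ * a = b' * (b : G)⁻¹ := by
      calc (a' : G)⁻¹ * a = (a' : G)⁻¹ * (a * b) * (b : G)⁻¹ := by group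
        _ = (a' : G)⁻¹ * (a' * b') * (b : G)⁻¹ := by rw [h1]
        _ = _ := by group
    have h3 : (a' : G)⁻¹ * a = 1 := hd _ (mul_mem (inv_mem a'.2) a.2) (by rw [h2]; exact mul_mem b'.2 (inv_mem b.2))
    have h4 : b' * (b : G)⁻¹ = 1 := by rw [← h2]; exact h3
    have h5 : a = a' := Subtype.ext (inv_mul_eq_one.mp h3).symm
    have h6 : b = b' := Subtype.ext (mul_inv_eq_one.mp h4).symm
    rw [h5, h6]
  · rintro ⟨_, p, hp, w, hw, rfl⟩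
    exact ⟨(⟨p, hp⟩, ⟨w, hw⟩), rfl⟩

theorem comm_cj {P W : Subgroup G} (h : ∀ p ∈ P, ∀ w ∈ W, p * w = w * p) : ∀ w ∈ W, cj w P = P :=
  fun w hw => cj_eq_of_comm fun x hx => (h x hx w hw).symm

theorem sq_mulSub {P W : Subgroup G} {h : ∀ w ∈ W, cj w P = P} (hc : ∀ p ∈ P, ∀ w ∈ W, p * w = w * p)
    (hP : ∀ x ∈ P, x * x = 1) (hW : ∀ x ∈ W, x * x = 1) : ∀ x ∈ mulSub P W h, x * x = 1 := by
  rintro _ ⟨p, hp, w, hw, rfl⟩
  calc p * w * (p * w) = p * (w * p) * w := by group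
    _ = p * (p * w) * w := by rw [hc p hp w hw]
    _ = (p * p) * (w * w) := by group
    _ = 1 := by rw [hP p hp, hW w hw, one_mul]

/-- normalisers grow in 2-groups -/
theorem exists_norm [Finite G] {T M : Subgroup G} (hT : IsPGroup 2 T) (hMT : M ≤ T) (hne : ¬ T ≤ M) :
    ∃ t ∈ T, t ∉ M ∧ cj t M = M := by
  haveI : Fact (Nat.Prime 2) := ⟨Nat.prime_two⟩
  haveI : Group.IsNilpotent T := hT.isNilpotent
  have h1 : M.subgroupOf T < ⊤ := by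
    rw [lt_top_iff_ne_top]
    intro h
    apply hne
    intro t ht
    have : (⟨t, ht⟩ : T) ∈ M.subgroupOf T := by rw [h]; exact Subgroup.mem_top _
    exact this
  have h2 := Group.normalizerCondition_of_isNilpotent (M.subgroupOf T) h1
  obtain ⟨t, ht, htn⟩ := SetLike.exists_of_lt h2
  refine ⟨t, t.2, fun h => htn h, ?_⟩
  rw [Subgroup.mem_normalizer_iff] at ht
  have h3 : cj (t : G)⁻¹ M = M := by
    ext x
    rw [mem_cj, inv_inv]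
    constructor
    · intro hx
      have hxT : x ∈ T := by
        have : x = (t : G)⁻¹ * (t * x * (t : G)⁻¹) * t := by group
        rw [this]
        exact mul_mem (mul_mem (inv_mem t.2) (hMT hx)) t.2
      exact (ht ⟨x, hxT⟩).mpr hx
    · intro hx
      exact (ht ⟨x, hMT hx⟩).mp hx
  have := cj_inv_eq h3
  rwa [inv_inv] at this

/-! ### Commuting involutions -/

variable {𝓒 : Set (Set (Subgroup G))}

/-- (2): commuting in a common 2-group, if both normalise -/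
theorem comm_of_norm (F : Fam 𝓒) {Λ Λ' : Set (Subgroup G)} (hΛ : Λ ∈ 𝓒) (hΛ' : Λ' ∈ 𝓒) (hne : Λ ≠ Λ')
    {A B T : Subgroup G} (hA : A ∈ Λ) (hB : B ∈ Λ') (hT : IsPGroup 2 T) {y r : G} (hy : y ∈ A) (hyT : y ∈ T)
    (hyB : cj y B = B) (hr : r ∈ B) (hrT : r ∈ T) (hrA : cj r A = A) : y * r = r * y := by
  have h1 : ⁅y, r⁆ ∈ A := by
    have e : ⁅y, r⁆ = y * (r * y⁻¹ * r⁻¹) := by rw [commutatorElement_def]; group
    rw [e]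
    exact mul_mem hy (conj_mem_of_cj hrA (inv_mem hy))
  have h2 : ⁅y, r⁆ ∈ B := by
    rw [commutatorElement_def]
    exact mul_mem (conj_mem_of_cj hyB hr) (inv_mem hr)
  have h3 : ⁅y, r⁆ ∈ T := by
    rw [commutatorElement_def]
    exact mul_mem (mul_mem (mul_mem hyT hrT) (inv_mem hyT)) (inv_mem hrT)
  have h4 := F.inter_two hΛ hΛ' hne hA hB hT h1 h2 h3
  rw [commutatorElement_def] at h4
  calc y * r = (y * r * y⁻¹ * r⁻¹) * (r * y) := by group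
    _ = r * y := by rw [h4, one_mul]

theorem comm_two (F : Fam3 𝓒) {Λ Λ' : Set (Subgroup G)} (hΛ : Λ ∈ 𝓒) (hΛ' : Λ' ∈ 𝓒) (hne : Λ ≠ Λ')
    {A B T : Subgroup G} (hA : A ∈ Λ) (hB : B ∈ Λ') (hT : IsPGroup 2 T) {y r : G} (hy : y ∈ A) (hy2 : y * y = 1)
    (hyT : y ∈ T) (hyH : y ∈ St Λ') (hr : r ∈ B) (hr2 : r * r = 1) (hrT : r ∈ T) (hrH : r ∈ St Λ) : y * r = r * y := by
  by_cases hy1 : y = 1
  · rw [hy1, one_mul, mul_one]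
  by_cases hr1 : r = 1
  · rw [hr1, one_mul, mul_one]
  exact comm_of_norm F.toFam hΛ hΛ' hne hA hB hT hy hyT
    (F.norm Λ hΛ Λ' hΛ' hne y (F.inU_of_mem hΛ hA hy hy2 hy1) hyH B hB) hr hrT
    (F.norm Λ' hΛ' Λ hΛ (Ne.symm hne) r (F.inU_of_mem hΛ' hB hr hr2 hr1) hrH A hA)

/-! ### Products of two elementary subgroups of two members -/

/-- `E1 E2` for `E1 ≤ A1`, `E2 ≤ A2`, two different members -/
structure Two (Λ : Set (Subgroup G)) (A1 A2 E1 E2 : Subgroup G) : Prop where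
  m1 : A1 ∈ Λ
  m2 : A2 ∈ Λ
  ne : A1 ≠ A2
  le1 : E1 ≤ A1
  le2 : E2 ≤ A2
  sq1 : ∀ x ∈ E1, x * x = 1
  sq2 : ∀ x ∈ E2, x * x = 1

theorem Two.comm (F : Fam 𝓒) {Λ : Set (Subgroup G)} (hΛ : Λ ∈ 𝓒) {A1 A2 E1 E2 : Subgroup G} (t : Two Λ A1 A2 E1 E2) :
    ∀ p ∈ E1, ∀ w ∈ E2, p * w = w * p :=
  fun p hp w hw => F.comm Λ hΛ A1 t.m1 A2 t.m2 t.ne p (t.le1 hp) w (t.le2 hw)

/-- the product -/
def Two.W (F : Fam 𝓒) {Λ : Set (Subgroup G)} (hΛ : Λ ∈ 𝓒) {A1 A2 E1 E2 : Subgroup G} (t : Two Λ A1 A2 E1 E2) :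
    Subgroup G := mulSub E1 E2 (comm_cj (t.comm F hΛ))

theorem Two.card [Finite G] (F : Fam 𝓒) {Λ : Set (Subgroup G)} (hΛ : Λ ∈ 𝓒) {A1 A2 E1 E2 : Subgroup G}
    (t : Two Λ A1 A2 E1 E2) : Nat.card (t.W F hΛ) = Nat.card E1 * Nat.card E2 :=
  card_mulSub fun x h1 h2 => F.inter_same hΛ t.m1 t.m2 t.ne (t.le1 h1) (t.le2 h2) (t.sq1 x h1)

theorem Two.sq (F : Fam 𝓒) {Λ : Set (Subgroup G)} (hΛ : Λ ∈ 𝓒) {A1 A2 E1 E2 : Subgroup G}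
    (t : Two Λ A1 A2 E1 E2) : ∀ x ∈ t.W F hΛ, x * x = 1 := sq_mulSub (t.comm F hΛ) t.sq1 t.sq2

theorem Two.inU (F : Fam3 𝓒) {Λ : Set (Subgroup G)} (hΛ : Λ ∈ 𝓒) {A1 A2 E1 E2 : Subgroup G}
    (t : Two Λ A1 A2 E1 E2) {w : G} (hw : w ∈ t.W F.toFam hΛ) (hw1 : w ≠ 1) : InU Λ w := by
  obtain ⟨D, hD, h1, h2⟩ := F.three Λ hΛ A1 A2
  refine ⟨t.sq F.toFam hΛ w hw, hw1, D, hD, ?_⟩
  obtain ⟨p, hp, q, hq, rfl⟩ := hw
  intro a ha
  have e1 := F.comm Λ hΛ A1 t.m1 D hD (Ne.symm h1) p (t.le1 hp) a ha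
  have e2 := F.comm Λ hΛ A2 t.m2 D hD (Ne.symm h2) q (t.le2 hq) a ha
  calc p * q * a = p * (q * a) := by group
    _ = p * a * q := by rw [e2]; group
    _ = a * (p * q) := by rw [e1]; group

theorem Two.le_St (F : Fam 𝓒) {Λ : Set (Subgroup G)} (hΛ : Λ ∈ 𝓒) {A1 A2 E1 E2 : Subgroup G}
    (t : Two Λ A1 A2 E1 E2) : t.W F hΛ ≤ St Λ :=
  mulSub_le (t.le1.trans (F.mem_le_St hΛ t.m1)) (t.le2.trans (F.mem_le_St hΛ t.m2))

/-- **(3)**: the embedding `w ↦ [s, w]`. -/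
theorem embed [Finite G] (F : Fam3 𝓒) {Λ Λ' : Set (Subgroup G)} (hΛ : Λ ∈ 𝓒) (hΛ' : Λ' ∈ 𝓒)
    {A1 A2 E1 E2 : Subgroup G} (t : Two Λ A1 A2 E1 E2)
    {B P : Subgroup G} (hP : IsPGroup 2 P)
    (hn : ∀ w ∈ t.W F.toFam hΛ, cj w P = P) (hPH : ¬ P ≤ St Λ) :
    Nat.card E1 * Nat.card E2 ≤ er (P ⊓ St Λ) := by
  set W := t.W F.toFam hΛ with hWdef
  have hWsq := t.sq F.toFam hΛ
  have hWSt := t.le_St F.toFam hΛ
  rw [← hWdef] at hWsq hWSt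
  have hW2 : IsPGroup 2 W := isPGroup_of_sq hWsq
  have hnN : ∀ w ∈ W, cj w (P ⊓ St Λ) = P ⊓ St Λ := by
    intro w hw
    have h1 : cj w (St Λ) = St Λ := cj_eq_of_mem (hWSt hw)
    ext x
    rw [mem_cj, Subgroup.mem_inf, Subgroup.mem_inf, ← mem_cj, ← mem_cj, h1, hn w hw]
  have hT := isPGroup_mulSub (h := hn) hP hW2
  have hNW : mulSub (P ⊓ St Λ) W hnN ≤ mulSub P W hn := mulSub_le (inf_le_left.trans le_mulSub_left) le_mulSub_right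
  have hNSt : mulSub (P ⊓ St Λ) W hnN ≤ St Λ := mulSub_le inf_le_right hWSt
  obtain ⟨x, hxT, hxN, hxc⟩ := exists_norm hT hNW (fun h => hPH ((le_mulSub_left.trans h).trans hNSt))
  obtain ⟨s, hs, w0, hw0, rfl⟩ := hxT
  -- `s` normalises `N W`
  have hsc : cj s (mulSub (P ⊓ St Λ) W hnN) = mulSub (P ⊓ St Λ) W hnN := by
    have h1 : cj w0⁻¹ (mulSub (P ⊓ St Λ) W hnN) = mulSub (P ⊓ St Λ) W hnN :=
      cj_eq_of_mem (inv_mem (le_mulSub_right hw0))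
    have h2 : s = s * w0 * w0⁻¹ := by group
    rw [h2]
    exact cj_mul_eq hxc h1
  have hsH : s ∉ St Λ := by
    intro h
    exact hxN ⟨s, Subgroup.mem_inf.mpr ⟨hs, h⟩, w0, hw0, rfl⟩
  have hΛs : Λ ≠ cjs s Λ := fun h => hsH h.symm
  have hΛs' : cjs s Λ ∈ 𝓒 := F.conj s Λ hΛ
  have hsw : ∀ w ∈ W, s * w * s⁻¹ ∈ mulSub (P ⊓ St Λ) W hnN := fun w hw => conj_mem_of_cj hsc (le_mulSub_right hw)
  have hws : ∀ w ∈ W, s⁻¹ * w * s ∈ St Λ := by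
    intro w hw
    have := conj_mem_of_cj (cj_inv_eq hsc) (le_mulSub_right (h := hnN) hw)
    rw [inv_inv] at this
    exact hNSt this
  -- `W` and `W^s` commute
  have hcomm1 : ∀ A ∈ Λ, ∀ A' ∈ Λ, ∀ e ∈ A, e ∈ W → ∀ f ∈ A', f ∈ W → e * (s * f * s⁻¹) = (s * f * s⁻¹) * e := by
    intro A hA A' hA' e heA heW f hfA hfW
    refine comm_two F hΛ hΛs' hΛs hA (cj_mem_cjs hA') hT heA (hWsq e heW) (le_mulSub_right heW) ?_
      (conj_mem_cj hfA) ?_ (hNW (hsw f hfW)) (hNSt (hsw f hfW))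
    · rw [mem_St_cjs]; exact hws e heW
    · calc s * f * s⁻¹ * (s * f * s⁻¹) = s * (f * f) * s⁻¹ := by group
        _ = 1 := by rw [hWsq f hfW]; group
  have hcomm : ∀ e ∈ W, ∀ f ∈ W, e * (s * f * s⁻¹) = (s * f * s⁻¹) * e := by
    intro e he f hf
    obtain ⟨e1, he1, e2, he2, rfl⟩ := he
    obtain ⟨f1, hf1, f2, hf2, rfl⟩ := hf
    have w1 : ∀ x ∈ E1, x ∈ W := fun x hx => le_mulSub_left hx
    have w2 : ∀ x ∈ E2, x ∈ W := fun x hx => le_mulSub_right hx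
    have c11 := hcomm1 A1 t.m1 A1 t.m1 e1 (t.le1 he1) (w1 _ he1) f1 (t.le1 hf1) (w1 _ hf1)
    have c12 := hcomm1 A1 t.m1 A2 t.m2 e1 (t.le1 he1) (w1 _ he1) f2 (t.le2 hf2) (w2 _ hf2)
    have c21 := hcomm1 A2 t.m2 A1 t.m1 e2 (t.le2 he2) (w2 _ he2) f1 (t.le1 hf1) (w1 _ hf1)
    have c22 := hcomm1 A2 t.m2 A2 t.m2 e2 (t.le2 he2) (w2 _ he2) f2 (t.le2 hf2) (w2 _ hf2)
    have e0 : s * (f1 * f2) * s⁻¹ = (s * f1 * s⁻¹) * (s * f2 * s⁻¹) := by group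
    rw [e0]
    calc e1 * e2 * (s * f1 * s⁻¹ * (s * f2 * s⁻¹)) = e1 * (e2 * (s * f1 * s⁻¹)) * (s * f2 * s⁻¹) := by group
      _ = e1 * ((s * f1 * s⁻¹) * e2) * (s * f2 * s⁻¹) := by rw [c21]
      _ = (e1 * (s * f1 * s⁻¹)) * (e2 * (s * f2 * s⁻¹)) := by group
      _ = ((s * f1 * s⁻¹) * e1) * ((s * f2 * s⁻¹) * e2) := by rw [c11, c22]
      _ = (s * f1 * s⁻¹) * (e1 * (s * f2 * s⁻¹)) * e2 := by group
      _ = (s * f1 * s⁻¹) * ((s * f2 * s⁻¹) * e1) * e2 := by rw [c12]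
      _ = _ := by group
  -- the homomorphism
  let φ : W →* G := MonoidHom.mk' (fun w => s * w * s⁻¹ * (w : G)⁻¹) (by
    intro a b
    have h1 := hcomm (a : G)⁻¹ (inv_mem a.2) b b.2
    have h2 : (a : G) * b = b * a := comm_of_sq hWsq a.2 b.2
    change s * (a * b : G) * s⁻¹ * (a * b : G)⁻¹ = s * a * s⁻¹ * (a : G)⁻¹ * (s * b * s⁻¹ * (b : G)⁻¹)
    calc s * (a * b : G) * s⁻¹ * (a * b : G)⁻¹ = s * a * s⁻¹ * (s * b * s⁻¹) * (a * b : G)⁻¹ := by group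
      _ = s * a * s⁻¹ * (s * b * s⁻¹) * (b * a : G)⁻¹ := by rw [h2]
      _ = s * a * s⁻¹ * ((s * b * s⁻¹) * (a : G)⁻¹) * (b : G)⁻¹ := by group
      _ = s * a * s⁻¹ * ((a : G)⁻¹ * (s * b * s⁻¹)) * (b : G)⁻¹ := by rw [h1]
      _ = _ := by group)
  have hφ : Function.Injective φ := by
    rw [injective_iff_map_eq_one]
    intro w hw
    by_contra hw1
    have hw' : s * (w : G) * s⁻¹ * (w : G)⁻¹ = 1 := hw
    have h1 : (w : G) * s = s * w := by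
      calc (w : G) * s = (s * (w : G) * s⁻¹ * (w : G)⁻¹)⁻¹ * (s * w) := by group
        _ = s * w := by rw [hw']; group
    exact hsH (F.cen hΛ (t.inU F hΛ w.2 (fun h => hw1 (Subtype.ext h))) h1)
  have hcard : Nat.card φ.range = Nat.card W := (Nat.card_congr (MonoidHom.ofInjective hφ).toEquiv).symm
  rw [← t.card F.toFam hΛ, ← hWdef, ← hcard]
  refine le_er ?_ ?_
  · rintro _ ⟨w, rfl⟩
    change s * (w : G) * s⁻¹ * (w : G)⁻¹ ∈ P ⊓ St Λ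
    rw [Subgroup.mem_inf]
    constructor
    · have e : s * (w : G) * s⁻¹ * (w : G)⁻¹ = s * (w * s⁻¹ * (w : G)⁻¹) := by group
      rw [e]
      exact mul_mem hs (conj_mem_of_cj (hn w w.2) (inv_mem hs))
    · exact mul_mem (hNSt (hsw w w.2)) (inv_mem (hWSt w.2))
  · rintro _ ⟨w, rfl⟩
    rw [← map_mul]
    have : w * w = 1 := Subtype.ext (hWsq w w.2)
    rw [this, map_one]

/-- **(3)**, dichotomy -/
theorem full_or [Finite G] (F : Fam3 𝓒) {Λ Λ' : Set (Subgroup G)} (hΛ : Λ ∈ 𝓒) (hΛ' : Λ' ∈ 𝓒) (hne : Λ ≠ Λ')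
    {A1 A2 B : Subgroup G} (h1 : A1 ∈ Λ) (h2 : A2 ∈ Λ) (h12 : A1 ≠ A2) (hB : B ∈ Λ') :
    er (B ⊓ St Λ) = er B ∨ er (A1 ⊓ St Λ') * er (A2 ⊓ St Λ') ≤ er (B ⊓ St Λ) := by
  obtain ⟨E1, hE1, hs1, hc1⟩ := exists_er (A1 ⊓ St Λ')
  obtain ⟨E2, hE2, hs2, hc2⟩ := exists_er (A2 ⊓ St Λ')
  have t : Two Λ A1 A2 E1 E2 := ⟨h1, h2, h12, hE1.trans inf_le_left, hE2.trans inf_le_left, hs1, hs2⟩
  have hWH : t.W F.toFam hΛ ≤ St Λ' := mulSub_le (hE1.trans inf_le_right) (hE2.trans inf_le_right)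
  have hWB : ∀ w ∈ t.W F.toFam hΛ, cj w B = B := by
    intro w hw
    by_cases hw1 : w = 1
    · rw [hw1, cj_one]
    · exact F.norm Λ hΛ Λ' hΛ' hne w (t.inU F hΛ hw hw1) (hWH hw) B hB
  obtain ⟨P, hPB, hP, hPn, hPc⟩ := exists_inv_syl (isPGroup_of_sq (t.sq F.toFam hΛ)) hWB
  by_cases hPS : P ≤ St Λ
  · left
    refine le_antisymm (er_mono inf_le_left) ?_
    obtain ⟨E, hE, hsE, hcE⟩ := exists_er B
    obtain ⟨x, hx, hxE⟩ := hPc E hE (isPGroup_of_sq hsE)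
    rw [← hcE, ← card_cj x E]
    refine le_er (hxE.trans (le_inf hPB hPS)) ?_
    intro y hy
    rw [mem_cj] at hy
    have := hsE _ hy
    calc y * y = x * ((x⁻¹ * y * x) * (x⁻¹ * y * x)) * x⁻¹ := by group
      _ = 1 := by rw [this]; group
  · right
    rw [← hc1, ← hc2]
    refine (embed F hΛ hΛ' t (B := B) hP hPn hPS).trans (er_mono (inf_le_inf_right _ hPB))

/-- **(2)**: adjacent classes -/
theorem adj_er [Finite G] (F : Fam3 𝓒) {Λ Λ' : Set (Subgroup G)} (hΛ : Λ ∈ 𝓒) (hΛ' : Λ' ∈ 𝓒) (hne : Λ ≠ Λ')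
    {u : G} (hu : InU Λ' u) (huH : u ∈ St Λ) {A : Subgroup G} (hA : A ∈ Λ) : ∃ x ∈ A ⊓ St Λ', x * x = 1 ∧ x ≠ 1 := by
  have h1 := F.norm Λ' hΛ' Λ hΛ (Ne.symm hne) u hu huH A hA
  obtain ⟨x, hx, hx2, hx1, hux⟩ := exists_fixed_inv hu.1 h1 (F.inv Λ hΛ A hA)
  exact ⟨x, Subgroup.mem_inf.mpr ⟨hx, F.cen hΛ' hu hux⟩, hx2, hx1⟩

/-- `Λ` and `Λ'` are adjacent -/
def Adj (Λ Λ' : Set (Subgroup G)) : Prop := ∃ u, InU Λ' u ∧ u ∈ St Λ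

theorem Adj.symm [Finite G] (F : Fam3 𝓒) {Λ Λ' : Set (Subgroup G)} (hΛ : Λ ∈ 𝓒) (hΛ' : Λ' ∈ 𝓒) (hne : Λ ≠ Λ')
    (h : Adj Λ Λ') : Adj Λ' Λ := by
  obtain ⟨u, hu, huH⟩ := h
  obtain ⟨A, hA, -⟩ := F.two Λ hΛ ⊥
  obtain ⟨x, hx, hx2, hx1⟩ := adj_er F hΛ hΛ' hne hu huH hA
  exact ⟨x, F.inU_of_mem hΛ hA (Subgroup.mem_inf.mp hx).1 hx2 hx1, (Subgroup.mem_inf.mp hx).2⟩

theorem adj_two [Finite G] (F : Fam3 𝓒) {Λ Λ' : Set (Subgroup G)} (hΛ : Λ ∈ 𝓒) (hΛ' : Λ' ∈ 𝓒) (hne : Λ ≠ Λ')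
    (h : Adj Λ Λ') {A : Subgroup G} (hA : A ∈ Λ) : 2 ≤ er (A ⊓ St Λ') := by
  obtain ⟨u, hu, huH⟩ := h
  obtain ⟨x, hx, hx2, hx1⟩ := adj_er F hΛ hΛ' hne hu huH hA
  exact two_le_er hx hx2 hx1

/-- **(4)** -/
theorem adj_full [Finite G] (F : Fam3 𝓒) {Λ Λ' : Set (Subgroup G)} (hΛ : Λ ∈ 𝓒) (hΛ' : Λ' ∈ 𝓒) (hne : Λ ≠ Λ')
    (h : Adj Λ Λ') {B : Subgroup G} (hB : B ∈ Λ') : er (B ⊓ St Λ) = er B := by
  have h' := h.symm F hΛ hΛ' hne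
  by_contra hcon
  have hor : ∀ A1 ∈ Λ, ∀ A2 ∈ Λ, A1 ≠ A2 → er (A1 ⊓ St Λ') * er (A2 ⊓ St Λ') ≤ er (B ⊓ St Λ) := by
    intro A1 h1 A2 h2 h12
    rcases full_or F hΛ hΛ' hne h1 h2 h12 hB with h3 | h3
    · exact absurd h3 hcon
    · exact h3
  have hBM : er (B ⊓ St Λ) ≤ er B := er_mono inf_le_left
  have hM2 := F.two_le hΛ' hB
  by_cases hall : ∀ A ∈ Λ, er (A ⊓ St Λ') = er A
  · obtain ⟨A1, h1, -⟩ := F.two Λ hΛ ⊥
    obtain ⟨A2, h2, h21⟩ := F.two Λ hΛ A1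
    have h3 := hor A1 h1 A2 h2 (Ne.symm h21)
    rw [hall A1 h1, hall A2 h2, F.er_eq hΛ hΛ' h1 hB, F.er_eq hΛ hΛ' h2 hB] at h3
    nlinarith
  · push Not at hall
    obtain ⟨A, hA, hAne⟩ := hall
    obtain ⟨A2, h2, h2A⟩ := F.two Λ hΛ A
    obtain ⟨B2, hB2, hB2B⟩ := F.two Λ' hΛ' B
    have h3 := hor A hA A2 h2 (Ne.symm h2A)
    have h4 : er (B ⊓ St Λ) * er (B2 ⊓ St Λ) ≤ er (A ⊓ St Λ') := by
      rcases full_or F hΛ' hΛ (Ne.symm hne) hB hB2 (Ne.symm hB2B) hA with h5 | h5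
      · exact absurd h5 hAne
      · exact h5
    have h6 := adj_two F hΛ hΛ' hne h hA
    have h7 := adj_two F hΛ hΛ' hne h h2
    have h8 := adj_two F hΛ' hΛ (Ne.symm hne) h' hB2
    have h9 := adj_two F hΛ' hΛ (Ne.symm hne) h' hB
    nlinarith

end Cfsg.Agent.OddHalf.D3.ThreeMain
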