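import Cfsg.Agent.S0215
import Cfsg.Agent.SignalizersComponents.Components
import Cfsg.Agent.OddHalf.D3.ThreeMain

/-!
# ODD D3 (iii): the Z*-theorem in `A⟨u⟩`, `A` quasisimple

`zst`: an involution `u` normalising but not centralising the quasisimple subgroup `A` commutes with some conjugate
`l u l⁻¹ ≠ u`, `l ∈ A`.
-/

set_option autoImplicit false

namespace Cfsg.Agent.OddHalf.D3.ZStar

open Cfsg Cfsg.Agent.OddHalf.D3.ThreeDefs Cfsg.Agent.OddHalf.D3.ThreeMain
open Cfsg.Agent.SignalizersComponents.Components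

universe u

variable {G : Type u} [Group G]

/-- a subgroup of even order contains involutions -/
theorem exists_inv [Finite G] {A : Subgroup G} (hA : 2 ∣ Nat.card A) : ∃ a ∈ A, a * a = 1 ∧ a ≠ 1 := by
  haveI : Fact (Nat.Prime 2) := ⟨Nat.prime_two⟩
  obtain ⟨x, hx⟩ := exists_prime_orderOf_dvd_card' 2 hA
  refine ⟨x, x.2, ?_, ?_⟩
  · have h1 : x * x = 1 := by
      have := pow_orderOf_eq_one x
      rw [hx, pow_two] at this
      exact this
    exact congrArg Subtype.val h1
  · intro h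
    have h3 : x = 1 := Subtype.ext h
    rw [h3, orderOf_one] at hx
    omega

/-- an element acting on the perfect group `A` modulo the centre trivially centralises `A` -/
theorem comm_of_comm_center {A : Subgroup G} (hA : IsQuasisimple A) {u : G}
    (h : ∀ a ∈ A, ∀ b ∈ A, (u * a * u⁻¹ * a⁻¹) ∈ A ∧ (u * a * u⁻¹ * a⁻¹) * b = b * (u * a * u⁻¹ * a⁻¹)) :
    ∀ a ∈ A, u * a = a * u := by
  obtain ⟨z, hzd⟩ : ∃ z : A →* Subgroup.center A, ∀ a : A, ((z a : A) : G) = u * a * u⁻¹ * (a : G)⁻¹ := by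
    refine ⟨MonoidHom.mk' (fun a => ⟨⟨u * a * u⁻¹ * (a : G)⁻¹, (h a a.2 a a.2).1⟩, ?_⟩) ?_, fun a => rfl⟩
    · rw [Subgroup.mem_center_iff]
      intro b
      exact Subtype.ext ((h a a.2 b b.2).2).symm
    · intro a b
      apply Subtype.ext
      apply Subtype.ext
      change u * (a * b : G) * u⁻¹ * (a * b : G)⁻¹ = (u * a * u⁻¹ * (a : G)⁻¹) * (u * b * u⁻¹ * (b : G)⁻¹)
      have h1 := (h b b.2 a a.2).2
      calc u * (a * b : G) * u⁻¹ * (a * b : G)⁻¹ = (u * a * u⁻¹) * (u * b * u⁻¹ * (b : G)⁻¹) * (a : G)⁻¹ := by group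
        _ = (u * a * u⁻¹) * (a : G)⁻¹ * ((a : G) * (u * b * u⁻¹ * (b : G)⁻¹)) * (a : G)⁻¹ := by group
        _ = (u * a * u⁻¹) * (a : G)⁻¹ * ((u * b * u⁻¹ * (b : G)⁻¹) * a) * (a : G)⁻¹ := by rw [h1]
        _ = _ := by group
  intro a ha
  have hz : z.ker = ⊤ := by
    rw [eq_top_iff]
    have h1 : (⊤ : Subgroup A) = commutator A := hA.1.commutator_eq_top.symm
    rw [h1, commutator_def, Subgroup.commutator_le]
    intro b _ c _
    rw [MonoidHom.mem_ker, map_commutatorElement, commutatorElement_eq_one_iff_mul_comm]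
    exact Subtype.ext (Subgroup.mem_center_iff.mp (z c).2 (z b : A))
  have h2 : (⟨a, ha⟩ : A) ∈ z.ker := by rw [hz]; exact Subgroup.mem_top _
  have h4 : z ⟨a, ha⟩ = 1 := MonoidHom.mem_ker.mp h2
  have h3 : u * a * u⁻¹ * a⁻¹ = 1 := by
    have h5 := hzd ⟨a, ha⟩
    rw [h4] at h5
    exact h5.symm
  calc u * a = (u * a * u⁻¹ * a⁻¹) * (a * u) := by group
    _ = a * u := by rw [h3, one_mul]

theorem mem_zpowers_sq {u w : G} (hu : u * u = 1) (hw : w ∈ Subgroup.zpowers u) : w = 1 ∨ w = u := by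
  obtain ⟨k, rfl⟩ := Subgroup.mem_zpowers_iff.mp hw
  have h2 : u ^ (2 : ℤ) = 1 := by rw [zpow_ofNat, pow_two]; exact hu
  rcases Int.even_or_odd' k with ⟨m, rfl | rfl⟩
  · left; rw [zpow_mul, h2, one_zpow]
  · right; rw [zpow_add, zpow_mul, h2, one_zpow, one_mul, zpow_one]

/-- **Z*-theorem**, commuting form in `A⟨u⟩` -/
theorem zst [Finite G] {A : Subgroup G} (hA : IsQuasisimple A) (hev : 2 ∣ Nat.card A) {u : G} (hu : u * u = 1) (huA : cj u A = A)
    (hne : ∃ a ∈ A, u * a ≠ a * u) :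
    ∃ l ∈ A, l * u * l⁻¹ ≠ u ∧ u * (l * u * l⁻¹) = (l * u * l⁻¹) * u := by
  haveI : Fact (Nat.Prime 2) := ⟨Nat.prime_two⟩
  by_contra hcon
  push Not at hcon
  have hiso : ∀ l ∈ A, u * (l * u * l⁻¹) = (l * u * l⁻¹) * u → l * u * l⁻¹ = u := by
    intro l hl h1
    by_contra h2
    exact hcon l hl h2 h1
  have hu1 : u ≠ 1 := by
    rintro rfl
    obtain ⟨a, -, h⟩ := hne
    exact h (by rw [one_mul, mul_one])
  have hn : ∀ w ∈ Subgroup.zpowers u, cj w A = A := by
    intro w hw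
    rcases mem_zpowers_sq hu hw with rfl | rfl
    · exact cj_one A
    · exact huA
  set X := mulSub A (Subgroup.zpowers u) hn with hX
  have huX : u ∈ X := le_mulSub_right (Subgroup.mem_zpowers u)
  have hAX : A ≤ X := le_mulSub_left
  -- `u` is isolated in `X`
  have hisoX : ∀ g ∈ X, u * (g * u * g⁻¹) = (g * u * g⁻¹) * u → g * u * g⁻¹ = u := by
    rintro _ ⟨l, hl, w, hw, rfl⟩ h1
    have e : l * w * u * (l * w)⁻¹ = l * u * l⁻¹ := by
      rcases mem_zpowers_sq hu hw with rfl | rfl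
      · group
      · group
    rw [e] at h1 ⊢
    exact hiso l hl h1
  set u' : X := ⟨u, huX⟩ with hu'
  have hsq' : ∀ y ∈ Subgroup.zpowers u', y * y = 1 := by
    intro y hy
    have hu2 : u' * u' = 1 := Subtype.ext hu
    rcases mem_zpowers_sq hu2 hy with rfl | rfl
    · exact one_mul 1
    · exact hu2
  obtain ⟨P, hP⟩ := (isPGroup_of_sq hsq').exists_le_sylow
  have huP : u' ∈ (P : Subgroup X) := hP (Subgroup.mem_zpowers u')
  have hPc : ∀ x ∈ (P : Subgroup X), u' * x = x * u' := by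
    set C : Subgroup X := (P : Subgroup X) ⊓ Subgroup.centralizer {u'} with hC
    have hle : (P : Subgroup X) ≤ C := by
      by_contra hnle
      obtain ⟨t, ht, htC, htn⟩ := exists_norm P.2 (inf_le_left : C ≤ P) hnle
      apply htC
      have hucC : u' ∈ C := by
        refine Subgroup.mem_inf.mpr ⟨huP, ?_⟩
        rw [Subgroup.mem_centralizer_singleton_iff]
      have h1 := conj_mem_of_cj htn hucC
      have h2 : u' * (t * u' * t⁻¹) = (t * u' * t⁻¹) * u' := by
        have := (Subgroup.mem_inf.mp h1).2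
        rw [Subgroup.mem_centralizer_singleton_iff] at this
        exact this.symm
      have h3 : t * u' * t⁻¹ = u' := Subtype.ext (hisoX t t.2 (congrArg Subtype.val h2))
      refine Subgroup.mem_inf.mpr ⟨ht, ?_⟩
      rw [Subgroup.mem_centralizer_singleton_iff]
      calc t * u' = (t * u' * t⁻¹) * t := by group
        _ = u' * t := by rw [h3]
    intro x hx
    have := (Subgroup.mem_inf.mp (hle hx)).2
    rw [Subgroup.mem_centralizer_singleton_iff] at this
    exact this.symm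
  have hord : orderOf u' = 2 := by
    refine orderOf_eq_prime ?_ ?_
    · rw [pow_two]; exact Subtype.ext hu
    · intro h; exact hu1 (congrArg Subtype.val h)
  obtain ⟨N, hN, hNodd, hNc⟩ := Cfsg.Agent.S0215.result P u' hord huP (by
    intro g hg
    have h1 := hPc _ hg
    exact Subtype.ext (hisoX g g.2 (congrArg Subtype.val h1)))
  -- `N ∩ A`
  let NA : Subgroup A := N.comap (Subgroup.inclusion hAX)
  have hNA : NA.Normal := hN.comap _
  have hNAodd : Odd (Nat.card NA) := by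
    refine Odd.of_dvd_nat hNodd ?_
    exact Subgroup.card_comap_dvd_of_injective N (Subgroup.inclusion hAX) (Subgroup.inclusion_injective hAX)
  obtain ⟨a, ha, hane⟩ := hne
  refine hane (comm_of_comm_center hA ?_ a ha)
  intro a ha b hb
  have hmem : u * a * u⁻¹ * a⁻¹ ∈ A := mul_mem (conj_mem_of_cj huA ha) (inv_mem ha)
  refine ⟨hmem, ?_⟩
  have hinN : (⟨u * a * u⁻¹ * a⁻¹, hmem⟩ : A) ∈ NA := hNc ⟨a, hAX ha⟩
  rcases quasisimple_normal hA NA hNA with h | h
  · exfalso
    rw [h, Subgroup.card_top] at hNAodd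
    rw [Nat.odd_iff] at hNAodd
    omega
  · have h1 := Subgroup.mem_center_iff.mp (h hinN) ⟨b, hb⟩
    exact (congrArg Subtype.val h1).symm

end Cfsg.Agent.OddHalf.D3.ZStar
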