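import Cfsg.Agent.OddHalf.D3.Terminal
import Cfsg.Agent.S1306
import Cfsg.Agent.S1307

/-!
# The class of a terminal component

`Frame K`: `K` is quasisimple of even order and terminal.  `Sim L M`: `L = M` or `L` commutes with `M`.
On the conjugates of `K` the relation `Sim` is an equivalence relation; `Cls K` is the class of `K`,
`stab K` its stabilizer (which contains `C(s)` for every involution `s ∈ C(L)`, `L ∈ Cls K`).
-/

set_option autoImplicit false
set_option linter.style.haveILetI false

namespace Cfsg.Agent.OddHalf.D3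

open Subgroup Cfsg Cfsg.Agent.SignalizersComponents
open scoped commutatorElement

section Sim

variable {G : Type*} [Group G]

/-- Equal or commuting. -/
def Sim (L M : Subgroup G) : Prop := L = M ∨ L ≤ centralizer (M : Set G)

theorem Sim.refl (L : Subgroup G) : Sim L L := Or.inl rfl

theorem Sim.symm {L M : Subgroup G} (h : Sim L M) : Sim M L := by
  rcases h with h | h
  · exact Or.inl h.symm
  · exact Or.inr (comm_symm h)

theorem Sim.conj {L M : Subgroup G} (h : Sim L M) (g : G) : Sim (cj g L) (cj g M) := by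
  rcases h with h | h
  · exact Or.inl (by rw [h])
  · exact Or.inr (comm_cj h)

theorem sim_of_comp {t : G} {L M : Subgroup G} (hL : Comp t L) (hM : Comp t M) : Sim L M := by
  by_cases h : L = M
  · exact Or.inl h
  · exact Or.inr (hL.comm hM h)

theorem Sim.trans' [Finite G] {L M N : Subgroup G} (hL : Terminal L) (hN : Terminal N)
    (hM : 2 ∣ Nat.card M) (h1 : Sim L M) (h2 : Sim M N) : Sim L N := by
  haveI : Fact (Nat.Prime 2) := ⟨Nat.prime_two⟩
  rcases h1 with h1 | h1
  · rw [h1]; exact h2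
  rcases h2 with h2 | h2
  · rw [← h2]; exact Or.inr h1
  obtain ⟨t, ht⟩ := exists_prime_orderOf_dvd_card' 2 hM
  have ht' : orderOf (t : G) = 2 := by rw [Subgroup.orderOf_coe]; exact ht
  exact sim_of_comp (hL t ht' (comm_symm h1 t.2)) (hN t ht' (h2 t.2))

end Sim

section Frame

variable {G : Type*} [Group G] [Finite G]

omit [Finite G] in
theorem Terminal.conj {K : Subgroup G} (h : Terminal K) (g : G) : Terminal (cj g K) := by
  intro y hy hyK
  have h1 : g⁻¹ * y * g ∈ centralizer (K : Set G) := by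
    rw [← mem_cj, cj_centralizer]
    exact hyK
  have h2 : orderOf (g⁻¹ * y * g) = 2 := by
    have := orderOf_conj g⁻¹ y
    rw [inv_inv] at this
    rw [this, hy]
  have h3 := (h _ h2 h1).conj g
  have h4 : g * (g⁻¹ * y * g) * g⁻¹ = y := by group
  rwa [h4] at h3

/-- `K` is a terminal quasisimple subgroup of even order. -/
structure Frame (K : Subgroup G) : Prop where
  quasi : IsQuasisimple K
  even : 2 ∣ Nat.card K
  term : Terminal K

theorem Frame.conj {K : Subgroup G} (h : Frame K) (g : G) : Frame (cj g K) := by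
  refine ⟨?_, ?_, h.term.conj g⟩
  · exact Components.isQuasisimple_of_mulEquiv
      (K.equivMapOfInjective (MulAut.conj g).toMonoidHom (MulAut.conj g).injective) h.quasi
  · rw [card_cj]
    exact h.even

theorem Frame.sim_trans {K L M N : Subgroup G} (h : Frame K) (hL : ∃ g, cj g K = L)
    (hM : ∃ g, cj g K = M) (hN : ∃ g, cj g K = N) (h1 : Sim L M) (h2 : Sim M N) : Sim L N := by
  obtain ⟨gL, rfl⟩ := hL
  obtain ⟨gM, rfl⟩ := hM
  obtain ⟨gN, rfl⟩ := hN
  exact Sim.trans' (h.term.conj _) (h.term.conj _) (h.conj gM).even h1 h2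

/-- The stabilizer of the class of `K`. -/
def stab (K : Subgroup G) (h : Frame K) : Subgroup G where
  carrier := {g | Sim (cj g K) K}
  one_mem' := by
    change Sim (cj 1 K) K
    rw [cj_one]
    exact Sim.refl K
  mul_mem' := by
    intro a b ha hb
    change Sim (cj (a * b) K) K
    rw [← cj_cj]
    have h1 : Sim (cj a (cj b K)) (cj a K) := Sim.conj hb a
    exact h.sim_trans ⟨a * b, by rw [cj_cj]⟩ ⟨a, rfl⟩ ⟨1, cj_one K⟩ h1 ha
  inv_mem' := by
    intro a ha
    change Sim (cj a⁻¹ K) K
    have h1 := Sim.conj (Sim.symm ha) a⁻¹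
    rwa [cj_inv_cj] at h1

theorem mem_stab {K : Subgroup G} (h : Frame K) {g : G} : g ∈ stab K h ↔ Sim (cj g K) K := Iff.rfl

/-- The class of `K`: the conjugates of `K` which are equal to `K` or commute with `K`. -/
def Cls (K : Subgroup G) : Set (Subgroup G) := {L | (∃ g, cj g K = L) ∧ Sim L K}

omit [Finite G] in
theorem mem_Cls {K L : Subgroup G} : L ∈ Cls K ↔ (∃ g, cj g K = L) ∧ Sim L K := Iff.rfl

omit [Finite G] in
theorem self_mem_Cls (K : Subgroup G) : K ∈ Cls K := ⟨⟨1, cj_one K⟩, Sim.refl K⟩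

theorem mem_Cls_iff {K L : Subgroup G} (h : Frame K) : L ∈ Cls K ↔ ∃ g ∈ stab K h, cj g K = L := by
  constructor
  · rintro ⟨⟨g, rfl⟩, h1⟩
    exact ⟨g, h1, rfl⟩
  · rintro ⟨g, hg, rfl⟩
    exact ⟨⟨g, rfl⟩, hg⟩

theorem sim_of_mem_Cls {K L M : Subgroup G} (h : Frame K) (hL : L ∈ Cls K) (hM : M ∈ Cls K) :
    Sim L M :=
  h.sim_trans hL.1 ⟨1, cj_one K⟩ hM.1 hL.2 hM.2.symm

theorem comm_of_mem_Cls {K L M : Subgroup G} (h : Frame K) (hL : L ∈ Cls K) (hM : M ∈ Cls K)
    (hne : L ≠ M) : L ≤ centralizer (M : Set G) := by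
  rcases sim_of_mem_Cls h hL hM with h1 | h1
  · exact absurd h1 hne
  · exact h1

theorem cj_mem_Cls {K L : Subgroup G} (h : Frame K) {g : G} (hg : g ∈ stab K h) (hL : L ∈ Cls K) :
    cj g L ∈ Cls K := by
  obtain ⟨a, ha, rfl⟩ := (mem_Cls_iff h).mp hL
  rw [cj_cj]
  exact (mem_Cls_iff h).mpr ⟨g * a, mul_mem hg ha, rfl⟩

/-- If two conjugates `L`, `M ^ g` with `L, M` in the class are similar then `g` stabilizes it. -/
theorem mem_stab_of_sim {K L M : Subgroup G} (h : Frame K) (hL : L ∈ Cls K) (hM : M ∈ Cls K) {g : G}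
    (hs : Sim (cj g M) L) : g ∈ stab K h := by
  rw [mem_stab]
  have h1 : Sim (cj g K) (cj g M) := (hM.2.symm).conj g
  have hMg : ∃ a, cj a K = cj g M := by
    obtain ⟨b, rfl⟩ := hM.1
    exact ⟨g * b, (cj_cj g b K).symm⟩
  have h2 := h.sim_trans ⟨g, rfl⟩ hMg hL.1 h1 hs
  exact h.sim_trans ⟨g, rfl⟩ hL.1 ⟨1, cj_one K⟩ h2 hL.2

theorem mem_stab_of_cj_eq {K L M : Subgroup G} (h : Frame K) (hL : L ∈ Cls K) (hM : M ∈ Cls K) {g : G}
    (hs : cj g M = L) : g ∈ stab K h := mem_stab_of_sim h hL hM (Or.inl hs)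

theorem Frame.of_mem_Cls {K L : Subgroup G} (h : Frame K) (hL : L ∈ Cls K) : Frame L := by
  obtain ⟨g, rfl⟩ := hL.1
  exact h.conj g

/-- (SC) inside the class: an involution `s` of `C(M)` with `s ^ g ∈ C(L)`, `L, M` in the class. -/
theorem mem_stab_of_fusion {K L M : Subgroup G} (h : Frame K) (hL : L ∈ Cls K) (hM : M ∈ Cls K)
    {g s : G} (hs : orderOf s = 2) (hsM : s ∈ centralizer (M : Set G))
    (hsL : g * s * g⁻¹ ∈ centralizer (L : Set G)) : g ∈ stab K h := by
  have h1 := ((h.of_mem_Cls hM).term s hs hsM).conj g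
  have h2 := (h.of_mem_Cls hL).term (g * s * g⁻¹) (by rw [orderOf_conj, hs]) hsL
  exact mem_stab_of_sim h hL hM (sim_of_comp h1 h2)

/-- `C(s) ≤ H` for every involution `s` centralizing a member of the class. -/
theorem centralizer_le_stab {K L : Subgroup G} (h : Frame K) (hL : L ∈ Cls K) {s : G}
    (hs : orderOf s = 2) (hsL : s ∈ centralizer (L : Set G)) : centralizer ({s} : Set G) ≤ stab K h := by
  intro g hg
  apply mem_stab_of_fusion h hL hL hs hsL
  have : g * s * g⁻¹ = s := by rw [mem_cs.mp hg]; group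
  rw [this]
  exact hsL

/-- `N(Q) ≤ H` for every subgroup `Q` of even order centralizing a member of the class. -/
theorem normalizer_le_stab {K L Q : Subgroup G} (h : Frame K) (hL : L ∈ Cls K)
    (hQL : Q ≤ centralizer (L : Set G)) (hQ : 2 ∣ Nat.card Q) : normalizer (Q : Set G) ≤ stab K h := by
  haveI : Fact (Nat.Prime 2) := ⟨Nat.prime_two⟩
  intro g hg
  obtain ⟨s, hs⟩ := exists_prime_orderOf_dvd_card' 2 hQ
  have hs' : orderOf (s : G) = 2 := by rw [Subgroup.orderOf_coe]; exact hs
  exact mem_stab_of_fusion h hL hL hs' (hQL s.2) (hQL ((mem_normalizer_iff.mp hg s).mp s.2))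

theorem normalizer_self_le_stab {K L : Subgroup G} (h : Frame K) (hL : L ∈ Cls K) :
    normalizer (L : Set G) ≤ stab K h := by
  intro g hg
  exact mem_stab_of_cj_eq h hL hL (mem_normalizer_iff_cj.mp hg)

theorem le_stab {K L : Subgroup G} (h : Frame K) (hL : L ∈ Cls K) : L ≤ stab K h :=
  le_normalizer.trans (normalizer_self_le_stab h hL)

theorem centralizer_self_le_stab {K L : Subgroup G} (h : Frame K) (hL : L ∈ Cls K) :
    centralizer (L : Set G) ≤ stab K h :=
  (centralizer_le_normalizer _).trans (normalizer_self_le_stab h hL)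

/-- COROLLARY B (ii): if `K` commutes with no other conjugate then `K` is standard. -/
theorem standard_of_trivial_class {K : Subgroup G} {x : G} (hx : orderOf x = 2) (hxK : Comp x K)
    (hK : Terminal K) (htriv : ∀ L ∈ Cls K, L = K) : IsStandardSubgroup K := by
  refine Cfsg.Agent.S1306.result x hx K hxK.le hxK.comp (fun y hy hyK => ?_) (fun g hg hc => ?_)
  · have := hK y hy hyK
    exact ⟨this.le, this.comp⟩
  · apply hg
    apply htriv
    refine ⟨⟨g, rfl⟩, Or.inr ?_⟩
    exact comm_symm (commutator_eq_bot_iff_le_centralizer.mp hc)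

/-- COROLLARY B (i): if `K` has 2-rank one then it contains a classical involution. -/
theorem classical_of_rank_one {K : Subgroup G} {x : G} (hx : orderOf x = 2) (hxK : Comp x K)
    (hK : Frame K) (hrk : PRankLE 2 1 K) : ∃ t ∈ K, IsClassicalInvolution t := by
  refine Cfsg.Agent.S1307.result x hx K hxK.le hxK.comp (even_iff_two_dvd.mpr hK.even) hrk
    (fun y hy hyK => ?_)
  have := hK.term y hy hyK
  exact ⟨this.le, this.comp⟩

/-- If the stabilizer is everything then `K` is a component of `G`. -/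
theorem isComponent_of_stab_eq_top {K : Subgroup G} (h : Frame K) (htop : stab K h = ⊤) :
    IsComponent K := by
  refine ⟨?_, h.quasi⟩
  -- `K` is normal in its normal closure, the product of its conjugates
  set M : Subgroup G := normalClosure (K : Set G) with hM
  have hKM : K ≤ M := subset_normalClosure
  have hMn : M ≤ normalizer (K : Set G) := by
    rw [hM, normalClosure, closure_le]
    intro x hx
    rw [Group.mem_conjugatesOfSet_iff] at hx
    obtain ⟨k, hk, hkx⟩ := hx
    obtain ⟨g, rfl⟩ := isConj_iff.mp hkx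
    have h1 : g ∈ stab K h := by rw [htop]; exact mem_top g
    rcases (mem_stab h).mp h1 with h2 | h2
    · have h3 : g * k * g⁻¹ ∈ cj g K := conj_mem_cj hk
      rw [h2] at h3
      exact le_normalizer h3
    · exact centralizer_le_normalizer _ (h2 (conj_mem_cj hk))
  have h1 : (K.subgroupOf M).Normal := Subgroup.normal_subgroupOf_iff_le_normalizer hKM |>.mpr hMn
  exact Subgroup.IsSubnormal.trans hKM h1.isSubnormal (normalClosure_normal.isSubnormal)

/-- In a simple group the stabilizer of a nontrivial class is proper. -/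
theorem stab_ne_top {K : Subgroup G} [IsSimpleGroup G] (h : Frame K) (hnt : ∃ L ∈ Cls K, L ≠ K) :
    stab K h ≠ ⊤ := by
  intro htop
  have h1 := isComponent_of_stab_eq_top h htop
  rcases Subgroup.IsSubnormal.eq_bot_or_top_of_isSimpleGroup inferInstance h1.1 with h2 | h2
  · exact Components.component_ne_bot h1 h2
  · obtain ⟨L, hL, hne⟩ := hnt
    obtain ⟨g, rfl⟩ := hL.1
    apply hne
    rw [h2]
    exact Subgroup.map_top_of_surjective _ (MulAut.conj g).surjective

end Frame

end Cfsg.Agent.OddHalf.D3
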