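import Mathlib
import Cfsg.Agent.OddHalf.D3.Fus
import Cfsg.Agent.OddHalf.D3.Class
import Cfsg.Agent.PermParts.Consumer

/-!
# The end of D3(b): `(SC)` gives a contradiction

`K` terminal, `Cls K` its class, `H = stab K`.
* `false_of_sc`: simple case. `G` simple, at least two members of the class, `|Z(K)|` odd, every involution of a
  proper product of members of the class is fused into `H` only by `H`: contradiction;
-/

set_option autoImplicit false
set_option linter.style.haveILetI false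

namespace Cfsg.Agent.OddHalf.D3.End

open Subgroup Cfsg Cfsg.Agent.OddHalf.D3
open Cfsg.Agent.Lib.GoldschmidtFusion Cfsg.Agent.ClassTwoFusion.Ess
open Cfsg.Agent.OddHalf.D3.Fus (exists_fix orderOf_eq_two_of_sq sq_of_orderOf ne_one_of_orderOf)

universe u

variable {G : Type u} [Group G]

/-! ### 2-groups -/

/-- a power of a nontrivial 2-element is an involution -/
theorem exists_pow_orderOf {T : Subgroup G} (hT : IsPGroup 2 T) {c : G} (hc : c ∈ T) (hc1 : c ≠ 1) :
    ∃ n : ℕ, orderOf (c ^ n) = 2 := by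
  obtain ⟨k, hk⟩ := hT ⟨c, hc⟩
  have hk' : c ^ 2 ^ k = 1 := congrArg Subtype.val hk
  clear hk
  induction k with
  | zero => exact absurd (by simpa using hk') hc1
  | succ k ih =>
    by_cases h : c ^ 2 ^ k = 1
    · exact ih h
    · refine ⟨2 ^ k, orderOf_eq_two_of_sq ?_ h⟩
      rw [← pow_add, ← two_mul, ← pow_succ']
      exact hk'

/-- every involution of a 2-group with two commuting involutions commutes with another involution -/
theorem exists_partner [Finite G] {P : Subgroup G} (hP : IsPGroup 2 P) {a b : G} (ha : a ∈ P) (hb : b ∈ P)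
    (oa : orderOf a = 2) (ob : orderOf b = 2) (hne : a ≠ b) {x : G} (hx : x ∈ P)
    (ox : orderOf x = 2) : ∃ y ∈ P, orderOf y = 2 ∧ y ≠ x ∧ x * y = y * x := by
  have hPne : P ≠ ⊥ := by
    intro h
    rw [h, mem_bot] at hx
    exact ne_one_of_orderOf ox hx
  obtain ⟨z, hz, oz, hzc⟩ := exists_fix hP le_rfl le_rfl hPne (fun x hx d hd =>
    mul_mem (mul_mem hx hd) (inv_mem hx))
  by_cases hxz : z = x
  · subst hxz
    by_cases haz : a = z
    · refine ⟨b, hb, ob, ?_, (hzc b hb).symm⟩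
      rintro rfl
      exact hne haz
    · exact ⟨a, ha, oa, haz, (hzc a ha).symm⟩
  · exact ⟨z, hz, oz, hxz, hzc x hx⟩

/-- a subgroup of even order has 2-elements of order two -/
theorem exists_involution [Finite G] {K : Subgroup G} (h2 : 2 ∣ Nat.card K) : ∃ t ∈ K, orderOf t = 2 := by
  haveI : Fact (Nat.Prime 2) := ⟨Nat.prime_two⟩
  obtain ⟨t, ht⟩ := exists_prime_orderOf_dvd_card' 2 h2
  exact ⟨t, t.2, by rw [Subgroup.orderOf_coe]; exact ht⟩

/-! ### Sylow subgroups of the stabiliser -/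

section Syl

variable [Finite G]

/-- the join of the class -/
def join (K : Subgroup G) : Subgroup G := sSup (Cls K)

omit [Finite G] in
theorem le_join {K L : Subgroup G} (hL : L ∈ Cls K) : L ≤ join K := le_sSup hL

theorem join_le_stab {K : Subgroup G} (h : Frame K) : join K ≤ stab K h :=
  sSup_le fun _ hL => le_stab h hL

/-- `H` normalises the join -/
theorem conj_mem_join {K : Subgroup G} (h : Frame K) {g x : G} (hg : g ∈ stab K h) (hx : x ∈ join K) :
    g * x * g⁻¹ ∈ join K :=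
  Fus.conj_mem_sSup (fun _ hA => cj_mem_Cls h hg hA) hx

/-- the join normalises the members -/
theorem join_le_normalizer {K L : Subgroup G} (h : Frame K) (hL : L ∈ Cls K) :
    join K ≤ normalizer (L : Set G) := by
  refine sSup_le fun M hM => ?_
  by_cases hLM : M = L
  · rw [hLM]; exact le_normalizer
  · exact (comm_of_mem_Cls h hM hL hLM).trans (centralizer_le_normalizer _)

/-- A Sylow 2-subgroup of `G` in `H`. -/
theorem exists_sylow {K : Subgroup G} (h : Frame K)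
    (hsc : ∀ u ∈ K, orderOf u = 2 → ∀ g : G, g * u * g⁻¹ ∈ stab K h → g ∈ stab K h) :
    ∃ S : Sylow 2 G, (S : Subgroup G) ≤ stab K h := by
  haveI : Fact (Nat.Prime 2) := ⟨Nat.prime_two⟩
  obtain ⟨u, hu, ou⟩ := exists_involution h.even
  have huz : IsPGroup 2 (zpowers u) := by
    rw [IsPGroup.iff_orderOf]
    intro x
    obtain ⟨n, hn⟩ := mem_zpowers_iff.1 x.2
    have h1 : (x : G) ^ 2 ^ 1 = 1 := by
      rw [← hn, ← zpow_natCast, ← zpow_mul, mul_comm, zpow_mul]
      have h2 : u ^ ((2 ^ 1 : ℕ) : ℤ) = 1 := by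
        rw [zpow_natCast, pow_one, pow_two]; exact sq_of_orderOf ou
      rw [h2, one_zpow]
    have h2 : orderOf x ∣ 2 ^ 1 := orderOf_dvd_of_pow_eq_one (Subtype.ext h1)
    obtain ⟨k, -, hk⟩ := (Nat.dvd_prime_pow Nat.prime_two).1 h2
    exact ⟨k, hk⟩
  obtain ⟨T, hT1, hT2, hT3, hT4⟩ := exists_sylow_in (p := 2) (N := stab K h) (D := zpowers u)
    (by rw [zpowers_le]; exact le_stab h (self_mem_Cls K) hu) huz
  have huT : u ∈ T := hT1 (mem_zpowers u)
  obtain ⟨Q, hQ⟩ := hT3.exists_le_sylow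
  refine ⟨Q, ?_⟩
  by_cases hTQ : T = (Q : Subgroup G)
  · rw [← hTQ]; exact hT2
  · exfalso
    have hlt : T < (Q : Subgroup G) := lt_of_le_of_ne hQ hTQ
    have h1 := lt_inf_normalizer Q.isPGroup' hlt
    have h2 : (Q : Subgroup G) ⊓ normalizer (T : Set G) ≤ stab K h := by
      intro g hg
      refine hsc u hu ou g (hT2 ((mem_normalizer_iff.1 hg.2 u).1 huT))
    have h3 : IsPGroup 2 ((Q : Subgroup G) ⊓ normalizer (T : Set G) : Subgroup G) := Q.isPGroup'.to_le inf_le_left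
    obtain ⟨n, hn, hnT⟩ := exists_conj_le_in (p := 2) hT3 hT4 h2 h3
    have h4 := Subgroup.card_le_of_le hnT
    rw [card_map_conj] at h4
    have h5 : Nat.card T < Nat.card ((Q : Subgroup G) ⊓ normalizer (T : Set G) : Subgroup G) :=
      Set.ncard_lt_ncard (by exact_mod_cast h1) (Set.toFinite _)
    omega

/-- 2-subgroups of the members are conjugate into `S`. -/
theorem exists_conj_mem {K : Subgroup G} (h : Frame K) {S : Sylow 2 G} (hS : (S : Subgroup G) ≤ stab K h)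
    {L E : Subgroup G} (hL : L ∈ Cls K) (hE : E ≤ L) (hE2 : IsPGroup 2 E) :
    ∃ k ∈ L, ∀ x ∈ E, k * x * k⁻¹ ∈ (S : Subgroup G) := by
  haveI : Fact (Nat.Prime 2) := ⟨Nat.prime_two⟩
  set H : Subgroup G := stab K h with hH
  set J : Subgroup G := join K with hJ
  have hJH : J ≤ H := join_le_stab h
  -- the subgroup `S ∩ J` of `J`
  haveI hJn : (J.subgroupOf H).Normal := by
    refine ⟨fun x hx g => ?_⟩
    exact conj_mem_join h g.2 hx
  have hSH : IsPGroup 2 ((S : Subgroup G).subgroupOf H) :=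
    S.isPGroup'.comap_of_injective H.subtype H.subtype_injective
  have hSi : ¬ 2 ∣ ((S : Subgroup G).subgroupOf H).index := by
    intro h1
    exact S.not_dvd_index (h1.trans (Subgroup.relIndex_dvd_index_of_le hS))
  set SH : Sylow 2 ↥H := hSH.toSylow hSi with hSHd
  have hd1 : ¬ 2 ∣ (SH : Subgroup ↥H).relIndex (J.subgroupOf H) :=
    Cfsg.Agent.Lib.SylowNormalInf.not_dvd_relIndex SH (J.subgroupOf H)
  set SJ : Sylow 2 ↥(J.subgroupOf H) :=
    (Cfsg.Agent.Lib.SylowNormalInf.isPGroup_subgroupOf SH (J.subgroupOf H)).toSylow hd1 with hSJ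
  have hLJ : L ≤ J := le_join hL
  haveI hLn : ((L.subgroupOf H).subgroupOf (J.subgroupOf H)).Normal := by
    refine ⟨fun x hx g => ?_⟩
    exact (mem_normalizer_iff.1 (join_le_normalizer h hL g.2) _).1 hx
  have hd2 : ¬ 2 ∣ (SJ : Subgroup ↥(J.subgroupOf H)).relIndex ((L.subgroupOf H).subgroupOf (J.subgroupOf H)) :=
    Cfsg.Agent.Lib.SylowNormalInf.not_dvd_relIndex SJ _
  set f : ↥(J.subgroupOf H) →* G := H.subtype.comp (J.subgroupOf H).subtype with hf
  have hfi : Function.Injective f := fun a b hab => Subtype.ext (Subtype.ext hab)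
  have hmapL : ((L.subgroupOf H).subgroupOf (J.subgroupOf H)).map f = L := by
    ext x
    constructor
    · rintro ⟨y, hy, rfl⟩
      exact hy
    · intro hx
      exact ⟨⟨⟨x, hJH (hLJ hx)⟩, hLJ hx⟩, hx, rfl⟩
  have hmapS : (SJ : Subgroup ↥(J.subgroupOf H)).map f ≤ (S : Subgroup G) := by
    rintro _ ⟨y, hy, rfl⟩
    exact hy
  have hd3 : ¬ 2 ∣ ((SJ : Subgroup ↥(J.subgroupOf H)).map f ⊓ L).relIndex L := by
    intro h1
    apply hd2
    rw [Subgroup.inf_relIndex_right] at h1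
    have h2 : ((SJ : Subgroup ↥(J.subgroupOf H)).map f).relIndex
        (((L.subgroupOf H).subgroupOf (J.subgroupOf H)).map f) =
        (SJ : Subgroup ↥(J.subgroupOf H)).relIndex ((L.subgroupOf H).subgroupOf (J.subgroupOf H)) :=
      relIndex_map_map_of_injective _ _ hfi
    rw [hmapL] at h2
    rwa [h2] at h1
  obtain ⟨k, hk, hkE⟩ := exists_conj_le_in (p := 2) (N := L) (R := (SJ : Subgroup ↥(J.subgroupOf H)).map f ⊓ L)
    (S.isPGroup'.to_le (inf_le_left.trans hmapS)) hd3 hE hE2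
  exact ⟨k, hk, fun x hx => hmapS (hkE ⟨x, hx, rfl⟩).1⟩

end Syl

/-! ### The simple case -/

/-- two commuting involutions of a group which is not of 2-rank one -/
theorem exists_two_involutions [Finite G] {K : Subgroup G} (hrk : ¬ PRankLE 2 1 ↥K) :
    ∃ E : Subgroup G, E ≤ K ∧ IsPGroup 2 E ∧ ∃ a ∈ E, ∃ b ∈ E, orderOf a = 2 ∧ orderOf b = 2 ∧ a ≠ b := by
  unfold PRankLE at hrk
  push Not at hrk
  obtain ⟨A, hA, hA2, hcard⟩ := hrk
  rw [pow_one] at hcard
  have h1 : ∃ a : ↥A, a ≠ 1 := by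
    by_contra hcon
    push Not at hcon
    have : Subsingleton ↥A := ⟨fun a b => by rw [hcon a, hcon b]⟩
    have := Finite.card_le_one_iff_subsingleton.2 this
    omega
  obtain ⟨a, ha⟩ := h1
  have h2 : ∃ b : ↥A, b ≠ 1 ∧ b ≠ a := by
    by_contra hcon
    push Not at hcon
    have h3 : (Set.univ : Set ↥A) ⊆ {1, a} := by
      intro b _
      by_cases hb : b = 1
      · left; exact hb
      · right; exact hcon b hb
    have h4 := Set.ncard_le_ncard h3 (Set.toFinite _)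
    have h5 : ({1, a} : Set ↥A).ncard ≤ 2 := Set.ncard_insert_le _ _ |>.trans (by rw [Set.ncard_singleton])
    rw [Set.ncard_univ] at h4
    omega
  obtain ⟨b, hb, hba⟩ := h2
  have hsq : ∀ c : ↥A, ((c : ↥K) : G) * ((c : ↥K) : G) = 1 := by
    intro c
    have h3 : (c : ↥K) ^ 2 = 1 := hA2 c c.2
    rw [pow_two] at h3
    exact congrArg Subtype.val h3
  have hne : ∀ c : ↥A, c ≠ 1 → ((c : ↥K) : G) ≠ 1 := by
    intro c hc h3
    exact hc (Subtype.ext (Subtype.ext h3))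
  refine ⟨A.map K.subtype, map_subtype_le _, ?_, ((a : ↥K) : G), ⟨a, a.2, rfl⟩, ((b : ↥K) : G), ⟨b, b.2, rfl⟩,
    orderOf_eq_two_of_sq (hsq a) (hne a ha), orderOf_eq_two_of_sq (hsq b) (hne b hb), ?_⟩
  · rintro ⟨x, hx⟩
    obtain ⟨c, hc, rfl⟩ := hx
    refine ⟨1, Subtype.ext ?_⟩
    change ((c : G)) ^ 2 ^ 1 = 1
    rw [pow_one, pow_two]
    exact hsq ⟨c, hc⟩
  · intro h3
    exact hba (Subtype.ext (Subtype.ext h3.symm))

section Main

variable [Finite G]

omit [Finite G] in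
theorem not_central {K : Subgroup G} (hodd : Odd (Nat.card ↥(center ↥K))) {u : G} (hu : u ∈ K) (ou : orderOf u = 2)
    (hc : ∀ k ∈ K, u * k = k * u) : False := by
  have h1 : (⟨u, hu⟩ : ↥K) ∈ center ↥K := by
    rw [mem_center_iff]
    intro k
    exact Subtype.ext (hc k k.2).symm
  have h2 : orderOf (⟨⟨u, hu⟩, h1⟩ : ↥(center ↥K)) = 2 := by
    rw [Subgroup.orderOf_mk, Subgroup.orderOf_mk]; exact ou
  have h3 : 2 ∣ Nat.card ↥(center ↥K) := by
    rw [← h2]; exact orderOf_dvd_natCard _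
  rcases hodd with ⟨k, hk⟩
  omega

omit [Finite G] in
/-- ... and for the conjugates -/
theorem not_central' {K L : Subgroup G} (hodd : Odd (Nat.card ↥(center ↥K))) (hL : L ∈ Cls K) {u : G} (hu : u ∈ L)
    (ou : orderOf u = 2) (hc : ∀ k ∈ L, u * k = k * u) : False := by
  obtain ⟨g, rfl⟩ := hL.1
  have h1 : g⁻¹ * u * g ∈ K := mem_cj.1 hu
  refine not_central hodd h1 ?_ ?_
  · have := orderOf_conj g⁻¹ u
    rw [inv_inv] at this
    rw [this, ou]
  · intro k hk
    have h2 := hc _ (conj_mem_cj (g := g) hk)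
    have h3 := congrArg (fun t => g⁻¹ * t * g) h2
    have e1 : g⁻¹ * (u * (g * k * g⁻¹)) * g = g⁻¹ * u * g * k := by group
    have e2 : g⁻¹ * (g * k * g⁻¹ * u) * g = k * (g⁻¹ * u * g) := by group
    simpa only [e1, e2] using h3

variable {K : Subgroup G} (h : Frame K)

/-- the hypothesis -/
def SC (h : Frame K) : Prop := ∀ J : Set (Subgroup G), J ⊆ Cls K → J ≠ Cls K → ∀ u ∈ sSup J, orderOf u = 2 →
  ∀ g : G, g * u * g⁻¹ ∈ stab K h → g ∈ stab K h

variable {h}

omit [Finite G] in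
theorem singleton_ne (hnt : ∃ L ∈ Cls K, L ≠ K) (L : Subgroup G) : ({L} : Set (Subgroup G)) ≠ Cls K := by
  intro h1
  obtain ⟨M, hM, hMK⟩ := hnt
  have h2 : M = L := by rw [← h1] at hM; exact hM
  have h3 : K = L := by
    have := self_mem_Cls K
    rw [← h1] at this; exact this
  exact hMK (h2.trans h3.symm)

theorem SC.mem (hsc : SC h) (hnt : ∃ L ∈ Cls K, L ≠ K) {L : Subgroup G} (hL : L ∈ Cls K) {u : G} (hu : u ∈ L)
    (ou : orderOf u = 2) {g : G} (hg : g * u * g⁻¹ ∈ stab K h) : g ∈ stab K h :=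
  hsc {L} (by simpa using hL) (singleton_ne hnt L) u (by simpa using hu) ou g hg

theorem inf_ne_bot {S : Sylow 2 G} (hS : (S : Subgroup G) ≤ stab K h) {L : Subgroup G} (hL : L ∈ Cls K) :
    (S : Subgroup G) ⊓ L ≠ ⊥ := by
  obtain ⟨t, ht, ot⟩ := exists_involution (h.of_mem_Cls hL).even
  have hz : IsPGroup 2 (zpowers t) := by
    rintro ⟨x, hx⟩
    obtain ⟨n, rfl⟩ := mem_zpowers_iff.1 hx
    refine ⟨1, Subtype.ext ?_⟩
    change (t ^ n) ^ 2 ^ 1 = 1
    rw [pow_one, ← zpow_natCast, ← zpow_mul, mul_comm, zpow_mul]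
    have h2 : t ^ ((2 : ℕ) : ℤ) = 1 := by rw [zpow_natCast, pow_two]; exact sq_of_orderOf ot
    rw [h2, one_zpow]
  obtain ⟨k, hk, hkS⟩ := exists_conj_mem h hS hL (by rw [zpowers_le]; exact ht) hz
  intro hb
  have h1 : k * t * k⁻¹ ∈ (S : Subgroup G) ⊓ L :=
    mem_inf.2 ⟨hkS t (mem_zpowers t), L.mul_mem (L.mul_mem hk ht) (L.inv_mem hk)⟩
  rw [hb, mem_bot] at h1
  apply ne_one_of_orderOf ot
  have e : t = k⁻¹ * (k * t * k⁻¹) * k := by group
  rw [e, h1]; group

theorem rich_inf (hrk : ¬ PRankLE 2 1 ↥K) {S : Sylow 2 G} (hS : (S : Subgroup G) ≤ stab K h) {L : Subgroup G}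
    (hL : L ∈ Cls K) : ∀ x ∈ (S : Subgroup G) ⊓ L, orderOf x = 2 →
      ∃ y ∈ (S : Subgroup G) ⊓ L, orderOf y = 2 ∧ y ≠ x ∧ x * y = y * x := by
  obtain ⟨E, hE, hE2, a, ha, b, hb, oa, ob, hab⟩ := exists_two_involutions hrk
  obtain ⟨g, rfl⟩ := hL.1
  obtain ⟨k, hk, hkS⟩ := exists_conj_mem h hS hL (E := cj g E) (cj_mono hE) (hE2.map _)
  have key : ∀ c ∈ E, k * (g * c * g⁻¹) * k⁻¹ ∈ (S : Subgroup G) ⊓ cj g K := fun c hc =>
    mem_inf.2 ⟨hkS _ (conj_mem_cj hc),
      (cj g K).mul_mem ((cj g K).mul_mem hk (conj_mem_cj (hE hc))) ((cj g K).inv_mem hk)⟩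
  intro x hx ox
  refine exists_partner (P := (S : Subgroup G) ⊓ cj g K) (S.isPGroup'.to_le inf_le_left) (key a ha) (key b hb)
    (by rw [orderOf_conj, orderOf_conj]; exact oa) (by rw [orderOf_conj, orderOf_conj]; exact ob) ?_ hx ox
  intro h1
  apply hab
  have e : ∀ c : G, c = g⁻¹ * (k⁻¹ * (k * (g * c * g⁻¹) * k⁻¹) * k) * g := fun c => by group
  rw [e a, h1, ← e b]

/-- the frame of the parts `S ∩ L` -/
theorem frame_of_sc (hodd : Odd (Nat.card ↥(center ↥K))) (hrk : ¬ PRankLE 2 1 ↥K) (hnt : ∃ L ∈ Cls K, L ≠ K)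
    (hsc : SC h) {S : Sylow 2 G} (hS : (S : Subgroup G) ≤ stab K h) :
    Fus.Frame (S : Subgroup G) (stab K h) ((fun L => (S : Subgroup G) ⊓ L) '' Cls K) where
  le := by
    rintro _ ⟨L, -, rfl⟩
    exact inf_le_left
  comm := by
    rintro _ ⟨L, hL, rfl⟩ _ ⟨M, hM, rfl⟩ hne a ha b hb
    have hLM : L ≠ M := by rintro rfl; exact hne rfl
    exact comm_elt (comm_of_mem_Cls h hL hM hLM) ha.2 hb.2
  perm := by
    rintro s hs _ ⟨L, hL, rfl⟩
    refine ⟨cj s L, cj_mem_Cls h (hS hs) hL, ?_⟩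
    ext x
    change x ∈ (S : Subgroup G) ⊓ cj s L ↔ x ∈ cj s ((S : Subgroup G) ⊓ L)
    rw [mem_cj, mem_inf, mem_inf, mem_cj]
    constructor
    · rintro ⟨h1, h2⟩
      exact ⟨mul_mem (mul_mem (inv_mem hs) h1) hs, h2⟩
    · rintro ⟨h1, h2⟩
      refine ⟨?_, h2⟩
      have e : x = s * (s⁻¹ * x * s) * s⁻¹ := by group
      rw [e]
      exact mul_mem (mul_mem hs h1) (inv_mem hs)
  ne := by
    rintro _ ⟨L, hL, rfl⟩
    exact inf_ne_bot hS hL
  rich := by
    rintro _ ⟨L, hL, rfl⟩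
    exact rich_inf hrk hS hL
  two := by
    obtain ⟨L, hL, hLK⟩ := hnt
    refine ⟨_, ⟨L, hL, rfl⟩, _, ⟨K, self_mem_Cls K, rfl⟩, fun h1 => ?_⟩
    have h1' : (S : Subgroup G) ⊓ L = (S : Subgroup G) ⊓ K := h1
    have hne := inf_ne_bot hS hL
    have h2 : ∃ x ∈ (S : Subgroup G) ⊓ L, x ≠ 1 := by
      by_contra hcon
      push Not at hcon
      exact hne ((eq_bot_iff_forall _).2 hcon)
    obtain ⟨x, hx, hx1⟩ := h2
    obtain ⟨n, hn⟩ := exists_pow_orderOf S.isPGroup' hx.1 hx1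
    have hxK : x ∈ K := by rw [h1'] at hx; exact hx.2
    refine not_central' hodd hL (pow_mem hx.2 n) hn fun k hk => ?_
    exact (comm_elt (comm_of_mem_Cls h hL (self_mem_Cls K) hLK) hk (pow_mem hxK n)).symm
  sc := by
    intro J hJ hJne u hu ou g hg
    set J' : Set (Subgroup G) := {L | L ∈ Cls K ∧ (S : Subgroup G) ⊓ L ∈ J} with hJ'
    refine hsc J' (fun L hL => hL.1) ?_ u ?_ ou g (hS hg)
    · intro h1
      apply hJne
      refine Set.Subset.antisymm hJ ?_
      rintro _ ⟨L, hL, rfl⟩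
      rw [← h1] at hL
      exact hL.2
    · have h1 : sSup J ≤ sSup J' := by
        refine sSup_le fun A hA => ?_
        obtain ⟨L, hL, rfl⟩ := hJ hA
        exact inf_le_right.trans (le_sSup ⟨hL, hA⟩)
      exact h1 hu

/-- `S ∩ ⟨Cls K⟩` is strongly closed. -/
theorem isStronglyClosed (hodd : Odd (Nat.card ↥(center ↥K))) (hrk : ¬ PRankLE 2 1 ↥K) (hnt : ∃ L ∈ Cls K, L ≠ K)
    (hsc : SC h) {S : Sylow 2 G} (hS : (S : Subgroup G) ≤ stab K h) :
    Cfsg.IsStronglyClosed ((S : Subgroup G) ⊓ join K) (S : Subgroup G) := by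
  haveI : Fact (Nat.Prime 2) := ⟨Nat.prime_two⟩
  have hfr := frame_of_sc hodd hrk hnt hsc hS
  refine Cfsg.Agent.ClassTwoFusion.Ess.isStronglyClosed S _ inf_le_left ?_ ?_
  · intro g hg a ha
    have hgH : g ∈ stab K h := by
      have hne := inf_ne_bot hS (self_mem_Cls K)
      have h2 : ∃ x ∈ (S : Subgroup G) ⊓ K, x ≠ 1 := by
        by_contra hcon
        push Not at hcon
        exact hne ((eq_bot_iff_forall _).2 hcon)
      obtain ⟨x, hx, hx1⟩ := h2
      obtain ⟨n, hn⟩ := exists_pow_orderOf S.isPGroup' hx.1 hx1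
      exact hsc.mem hnt (self_mem_Cls K) (pow_mem hx.2 n) hn
        (hS ((mem_normalizer_iff.1 hg _).1 (pow_mem hx.1 n)))
    exact ⟨(mem_normalizer_iff.1 hg a).1 ha.1, conj_mem_join h hgH ha.2⟩
  · intro X hX g hg a ha haX
    have hgH := hfr.normalizer_le hX hg
    exact ⟨hX.lt.le ((mem_normalizer_iff.1 hg a).1 haX), conj_mem_join h hgH ha.2⟩

/-- **The end of D3(b), odd centre.** -/
theorem false_of_sc [IsSimpleGroup G] (hodd : Odd (Nat.card ↥(center ↥K))) (hrk : ¬ PRankLE 2 1 ↥K)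
    (hnt : ∃ L ∈ Cls K, L ≠ K) (hsc : SC h) : False := by
  haveI : Fact (Nat.Prime 2) := ⟨Nat.prime_two⟩
  obtain ⟨S, hS⟩ := exists_sylow h (fun u hu ou g hg => hsc.mem hnt (self_mem_Cls K) hu ou hg)
  have hcl := isStronglyClosed hodd hrk hnt hsc hS
  have hfam := Cfsg.Agent.TwoFusion.ClosedFam.isClosedFam_of_isStronglyClosed S _ hcl
  have hdata : Cfsg.Agent.PermParts.OfProd.Data
      {x : G | ∃ g : G, g * x * g⁻¹ ∈ (S : Subgroup G) ⊓ join K} S
      (fun L : ↥(Cls K) => (S : Subgroup G) ⊓ (L : Subgroup G)) := by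
    refine ⟨hfam, ?_, ?_, ?_, ?_⟩
    · intro L x hx
      exact ⟨⟨1, by simpa using ⟨hx.1, le_join L.2 hx.2⟩⟩, hx.1⟩
    · rintro L x hx q hq ⟨g, hg⟩
      have hqW : q ∈ (S : Subgroup G) ⊓ join K := by
        have e : g⁻¹ * (g * q * g⁻¹) * g⁻¹⁻¹ = q := by group
        have := hcl.2 _ hg g⁻¹ (by rw [e]; exact hq)
        rwa [e] at this
      exact mem_inf.2 ⟨(S : Subgroup G).mul_mem ((S : Subgroup G).mul_mem hq hx.1) ((S : Subgroup G).inv_mem hq),
        (mem_normalizer_iff.1 (join_le_normalizer h L.2 hqW.2) x).1 hx.2⟩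
    · intro L x hx hx'
      by_contra hx1
      obtain ⟨n, hn⟩ := exists_pow_orderOf S.isPGroup' hx.1 hx1
      have hle : (⨆ j : {j // j ≠ L}, (S : Subgroup G) ⊓ ((j : ↥(Cls K)) : Subgroup G) : Subgroup G) ≤
          centralizer ((L : Subgroup G) : Set G) := by
        refine iSup_le fun j => inf_le_right.trans ?_
        exact comm_of_mem_Cls h j.1.2 L.2 (fun e => j.2 (Subtype.ext e))
      have hxc := hle hx'
      refine not_central' hodd L.2 (pow_mem hx.2 n) hn fun k hk => ?_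
      exact (mem_centralizer_iff.1 (pow_mem hxc n) k hk).symm
    · intro L x hx g hg
      by_cases hx1 : x = 1
      · refine ⟨L, ?_⟩
        rw [hx1]
        have e : g * 1 * g⁻¹ = 1 := by group
        rw [e]; exact one_mem _
      · obtain ⟨n, hn⟩ := exists_pow_orderOf S.isPGroup' hx.1 hx1
        have hgH : g ∈ stab K h := by
          refine hsc.mem hnt L.2 (pow_mem hx.2 n) hn ?_
          rw [← conj_pow]
          exact hS (pow_mem hg n)
        exact ⟨⟨cj g L, cj_mem_Cls h hgH L.2⟩, hg, conj_mem_cj hx.2⟩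
  obtain ⟨L, hL, hLK⟩ := hnt
  have h1 := Cfsg.Agent.PermParts.Consumer.eq_of_data hdata (fun i => rich_inf hrk hS i.2)
    (i := ⟨L, hL⟩) (j := ⟨K, self_mem_Cls K⟩) (inf_ne_bot hS hL) (inf_ne_bot hS (self_mem_Cls K))
  exact hLK (congrArg Subtype.val h1)

/-- `(SC)` for the involutions centralising a member of the class. -/
theorem sc_of_scu (hU : ∀ L ∈ Cls K, ∀ u ∈ centralizer (L : Set G), orderOf u = 2 → ∀ g : G,
    g * u * g⁻¹ ∈ stab K h → g ∈ stab K h) : SC h := by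
  intro J hJ hJne u hu ou g hg
  have h1 : ∃ L ∈ Cls K, L ∉ J := by
    by_contra hcon
    push Not at hcon
    exact hJne (Set.Subset.antisymm hJ hcon)
  obtain ⟨L, hL, hLJ⟩ := h1
  refine hU L hL u ?_ ou g hg
  have h2 : sSup J ≤ centralizer (L : Set G) := by
    refine sSup_le fun M hM => ?_
    exact comm_of_mem_Cls h (hJ hM) hL (fun e => hLJ (e ▸ hM))
  exact h2 hu

/-- `(SC)` for a class with two members: the involutions of the members suffice. -/
theorem sc_of_scd {K' : Subgroup G} (htwo : ∀ L ∈ Cls K, L = K ∨ L = K')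
    (hD : ∀ L ∈ Cls K, ∀ u ∈ L, orderOf u = 2 → ∀ g : G, g * u * g⁻¹ ∈ stab K h → g ∈ stab K h) : SC h := by
  intro J hJ hJne u hu ou g hg
  -- `J` has at most one member
  have h1 : ∃ L ∈ Cls K, L ∉ J := by
    by_contra hcon
    push Not at hcon
    exact hJne (Set.Subset.antisymm hJ hcon)
  obtain ⟨L, hL, hLJ⟩ := h1
  by_cases hJe : ∃ M, M ∈ J
  · obtain ⟨M, hM⟩ := hJe
    have h2 : ∀ N ∈ J, N = M := by
      intro N hN
      rcases htwo N (hJ hN) with h3 | h3 <;> rcases htwo M (hJ hM) with h4 | h4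
      · rw [h3, h4]
      · rcases htwo L hL with h5 | h5
        · exact absurd (h5 ▸ h3 ▸ hN) hLJ
        · exact absurd (h5 ▸ h4 ▸ hM) hLJ
      · rcases htwo L hL with h5 | h5
        · exact absurd (h5 ▸ h4 ▸ hM) hLJ
        · exact absurd (h5 ▸ h3 ▸ hN) hLJ
      · rw [h3, h4]
    have h3 : sSup J ≤ M := sSup_le fun N hN => by rw [h2 N hN]
    exact hD M (hJ hM) u (h3 hu) ou g hg
  · exfalso
    push Not at hJe
    have h2 : J = ∅ := Set.eq_empty_iff_forall_notMem.2 hJe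
    rw [h2, sSup_empty, mem_bot] at hu
    exact ne_one_of_orderOf ou hu

end Main

end Cfsg.Agent.OddHalf.D3.End
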