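import Mathlib
import Cfsg.Agent.OddHalf.D3.End

/-!
# The end of D3(b): a class centralised by an involution

If an involution centralises all members of the class (for example if `|Z(K)|` is even), then `(SC)` for the
involutions centralising a member of the class and the theorem S1173 on the centralizer of a strongly closed
subgroup give a contradiction.
-/

set_option autoImplicit false
set_option linter.style.haveILetI false

namespace Cfsg.Agent.OddHalf.D3.EndCent

open Subgroup Cfsg Cfsg.Agent.OddHalf.D3 Cfsg.Agent.OddHalf.D3.End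
open Cfsg.Agent.Lib.GoldschmidtFusion
open Cfsg.Agent.OddHalf.D3.Fus (exists_fix orderOf_eq_two_of_sq sq_of_orderOf ne_one_of_orderOf)

universe u

variable {G : Type u} [Group G]

/-- the theorem S1173 for `G` -/
def P1173 (G : Type u) [Group G] [Finite G] : Prop := Cfsg.oddCore G = ⊥ → ∀ (S : Sylow 2 G) (T : Subgroup G),
  Cfsg.IsStronglyClosed T (S : Subgroup G) →
    ((⨅ n : ℕ, derivedSeries ↥(Subgroup.centralizer (T : Set G)) n).map
      (Subgroup.centralizer (T : Set G)).subtype).Normal

variable [Finite G]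

/-- `(SC)` for the involutions centralising a member of the class -/
def SCU {K : Subgroup G} (h : Frame K) : Prop := ∀ L ∈ Cls K, ∀ u ∈ centralizer (L : Set G), orderOf u = 2 →
  ∀ g : G, g * u * g⁻¹ ∈ stab K h → g ∈ stab K h

variable {K : Subgroup G} {h : Frame K}

omit [Finite G] in
theorem le_derivedSeries {C K : Subgroup G} (hK : K ≤ C) (hp : ⁅K, K⁆ = K) (n : ℕ) :
    K.subgroupOf C ≤ derivedSeries ↥C n := by
  induction n with
  | zero => exact le_top
  | succ n ih =>
    have h1 : K.subgroupOf C ≤ ⁅K.subgroupOf C, K.subgroupOf C⁆ := by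
      have h2 : (⁅K.subgroupOf C, K.subgroupOf C⁆).map C.subtype = K := by
        rw [map_commutator, Subgroup.map_subgroupOf_eq_of_le hK, hp]
      intro x hx
      have h3 : (x : G) ∈ (⁅K.subgroupOf C, K.subgroupOf C⁆).map C.subtype := by
        rw [h2]; exact hx
      obtain ⟨y, hy, hyx⟩ := h3
      have : y = x := Subtype.ext hyx
      rwa [this] at hy
    exact h1.trans (commutator_mono ih ih)

/-- **The end of D3(b), centralised class.** -/
theorem false_of_scu [IsSimpleGroup G] (hS1173 : P1173 G) (hnt : ∃ L ∈ Cls K, L ≠ K)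
    (hcent : ∃ t : G, orderOf t = 2 ∧ ∀ L ∈ Cls K, t ∈ centralizer (L : Set G)) (hsc : SCU h) : False := by
  haveI : Fact (Nat.Prime 2) := ⟨Nat.prime_two⟩
  have hKL : ∀ u ∈ K, ∃ L ∈ Cls K, u ∈ centralizer (L : Set G) := by
    intro u hu
    obtain ⟨L, hL, hLK⟩ := hnt
    exact ⟨L, hL, comm_of_mem_Cls h (self_mem_Cls K) hL (Ne.symm hLK) hu⟩
  obtain ⟨S, hS⟩ := exists_sylow h (fun u hu ou g hg => by
    obtain ⟨L, hL, huL⟩ := hKL u hu
    exact hsc L hL u huL ou g hg)
  -- the centraliser of the join
  set C : Subgroup G := centralizer ((join K : Subgroup G) : Set G) with hC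
  have hCK : C ≤ centralizer (K : Set G) := by
    rw [hC]
    exact centralizer_le (by exact_mod_cast le_join (self_mem_Cls K))
  have hconjC : ∀ g ∈ stab K h, ∀ x ∈ C, g * x * g⁻¹ ∈ C := by
    intro g hg x hx
    rw [hC, mem_centralizer_iff] at hx ⊢
    intro y hy
    have h1 : g⁻¹ * y * g ∈ join K := by
      have := conj_mem_join h (inv_mem hg) hy
      rwa [inv_inv] at this
    have h2 := hx _ h1
    have h3 := congrArg (fun t => g * t * g⁻¹) h2
    simpa [mul_assoc] using h3
  obtain ⟨t, ot, htc⟩ := hcent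
  have htC : t ∈ C := by
    have h1 : join K ≤ centralizer ({t} : Set G) := by
      refine sSup_le fun L hL => ?_
      intro x hx
      rw [mem_cs]
      exact mem_centralizer_iff.1 (htc L hL) x hx
    rw [hC, mem_centralizer_iff]
    intro y hy
    exact mem_cs.1 (h1 hy)
  have htH : t ∈ stab K h := centralizer_self_le_stab h (self_mem_Cls K) (htc K (self_mem_Cls K))
  -- `T = C_S(join)`
  set T : Subgroup G := (S : Subgroup G) ⊓ C with hT
  have hTne : T ≠ ⊥ := by
    have hz : IsPGroup 2 (zpowers t) := by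
      rintro ⟨x, hx⟩
      obtain ⟨n, rfl⟩ := mem_zpowers_iff.1 hx
      refine ⟨1, Subtype.ext ?_⟩
      change (t ^ n) ^ 2 ^ 1 = 1
      rw [pow_one, ← zpow_natCast, ← zpow_mul, mul_comm, zpow_mul]
      have h2 : t ^ ((2 : ℕ) : ℤ) = 1 := by rw [zpow_natCast, pow_two]; exact sq_of_orderOf ot
      rw [h2, one_zpow]
    have hSi : ¬ 2 ∣ (S : Subgroup G).relIndex (stab K h) := fun h1 =>
      S.not_dvd_index (h1.trans (Subgroup.relIndex_dvd_index_of_le hS))
    obtain ⟨k, hk, hkS⟩ := exists_conj_le_in (p := 2) (N := stab K h) (R := (S : Subgroup G)) S.isPGroup' hSi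
      (D := zpowers t) (by rw [zpowers_le]; exact htH) hz
    intro hb
    have h1 : k * t * k⁻¹ ∈ T := mem_inf.2 ⟨hkS ⟨t, mem_zpowers t, rfl⟩, hconjC k hk t htC⟩
    rw [hb, mem_bot] at h1
    apply ne_one_of_orderOf ot
    have e : t = k⁻¹ * (k * t * k⁻¹) * k := by group
    rw [e, h1]; group
  have hTsc : Cfsg.IsStronglyClosed T (S : Subgroup G) := by
    refine ⟨inf_le_left, fun x hx g hg => ?_⟩
    by_cases hx1 : x = 1
    · rw [hx1]
      have e : g * 1 * g⁻¹ = 1 := by group
      rw [e]; exact one_mem _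
    · obtain ⟨n, hn⟩ := exists_pow_orderOf S.isPGroup' hx.1 hx1
      have hgH : g ∈ stab K h := by
        refine hsc K (self_mem_Cls K) (x ^ n) (pow_mem (hCK hx.2) n) hn g ?_
        rw [← conj_pow]
        exact hS (pow_mem hg n)
      exact mem_inf.2 ⟨hg, hconjC g hgH x hx.2⟩
  -- the core is trivial
  have h2G : 2 ∣ Nat.card G := by
    rw [← ot]; exact orderOf_dvd_natCard t
  haveI hON : (Cfsg.oddCore G).Normal := Cfsg.Agent.Lib.Cores.pPrimeCore_normal 2
  have hKt : K ≤ centralizer (T : Set G) := by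
    intro k hk
    rw [mem_centralizer_iff]
    intro x hx
    exact (mem_centralizer_iff.1 (hCK (mem_inf.1 hx).2) k hk).symm
  have hp : ⁅K, K⁆ = K := Subgroup.isPerfect_iff.mp h.quasi.1
  have hKne : K ≠ ⊥ := by
    intro h1
    obtain ⟨u, hu, ou⟩ := exists_involution h.even
    rw [h1, mem_bot] at hu
    exact ne_one_of_orderOf ou hu
  have hO : Cfsg.oddCore G = ⊥ := by
    rcases IsSimpleGroup.eq_bot_or_eq_top_of_normal (Cfsg.oddCore G) hON with h1 | h1
    · exact h1
    · exfalso
      have h2 : ¬ 2 ∣ Nat.card ↥(Cfsg.oddCore G) := by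
        have h3 : (Nat.card ↥(Cfsg.oddCore G)).Coprime 2 := Cfsg.Agent.Lib.Cores.pPrimeCore_coprime (G := G) 2
        intro h4
        have h5 := Nat.Coprime.eq_one_of_dvd h3.symm h4
        norm_num at h5
      rw [h1] at h2
      rw [Nat.card_congr (Subgroup.topEquiv (G := G)).toEquiv] at h2
      exact h2 h2G
  have hN := hS1173 hO S T hTsc
  set D : Subgroup G := (⨅ n : ℕ, derivedSeries ↥(Subgroup.centralizer (T : Set G)) n).map
      (Subgroup.centralizer (T : Set G)).subtype with hD
  have hKD : K ≤ D := by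
    intro k hk
    refine ⟨⟨k, hKt hk⟩, ?_, rfl⟩
    rw [SetLike.mem_coe, mem_iInf]
    intro n
    exact le_derivedSeries hKt hp n hk
  have hDC : D ≤ centralizer (T : Set G) := map_subtype_le _
  rcases IsSimpleGroup.eq_bot_or_eq_top_of_normal D hN with h1 | h1
  · rw [h1] at hKD
    exact hKne (le_bot_iff.1 hKD)
  · have h2 : T ≤ center G := by
      rw [h1, top_le_iff, centralizer_eq_top_iff_subset] at hDC
      exact_mod_cast hDC
    rcases IsSimpleGroup.eq_bot_or_eq_top_of_normal (center G) inferInstance with h3 | h3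
    · rw [h3] at h2
      exact hTne (le_bot_iff.1 h2)
    · refine not_comm_self h.quasi fun x _ => ?_
      rw [mem_centralizer_iff]
      intro y _
      have h4 : x ∈ center G := by rw [h3]; exact mem_top x
      exact (mem_center_iff.1 h4 y)

end Cfsg.Agent.OddHalf.D3.EndCent
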