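import Cfsg.Agent.OddHalf.D3.OddCase
import Cfsg.Agent.OddHalf.D3.End
import Cfsg.Agent.OddHalf.D3.EndCent

/-!
# ODD D3(b): `Cls K`, `stab K` and `cls K K`, `St`; the odd case
-/

set_option autoImplicit false

namespace Cfsg.Agent.OddHalf.D3b.Bridge

open Cfsg Cfsg.Agent.OddHalf.Iface
open Cfsg.Agent.OddHalf.D3.ThreeDefs Cfsg.Agent.OddHalf.D3.ThreeFam Cfsg.Agent.OddHalf.D3.FamTerm
open Cfsg.Agent.OddHalf.D3.SCThree Cfsg.Agent.OddHalf.D3.Swap Cfsg.Agent.OddHalf.D3.TwoCfg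
open Cfsg.Agent.OddHalf.D3.TwoKey Cfsg.Agent.OddHalf.D3.TwoFull
open Cfsg.Agent.OddHalf.D3b.OddCase
open Cfsg.Agent.OddHalf.D3 (Cls stab Frame Sim)
open scoped commutatorElement

universe u

variable {G : Type u} [Group G] {K : Subgroup G}

theorem rel_iff_sim {A B : Subgroup G} : D3.FamTerm.Rel A B ↔ Sim A B := by
  constructor
  · rintro (h | h)
    · exact Or.inl h
    · exact Or.inr fun x hx => Subgroup.mem_centralizer_iff.mpr fun y hy => (h x hx y hy).symm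
  · rintro (h | h)
    · exact Or.inl h
    · exact Or.inr fun x hx y hy => (Subgroup.mem_centralizer_iff.mp (h hx) y hy).symm

theorem mem_Cls_iff {L : Subgroup G} : L ∈ Cls K ↔ L ∈ cls K K := by
  constructor
  · rintro ⟨⟨g, rfl⟩, hs⟩
    exact ⟨⟨g, rfl⟩, rel_iff_sim.mpr hs.symm⟩
  · rintro ⟨⟨g, rfl⟩, hr⟩
    exact ⟨⟨g, rfl⟩, (rel_iff_sim.mp hr).symm⟩

theorem cls_mem_Fm : cls K K ∈ Fm K := ⟨K, Cj_self K, rfl⟩

theorem mem_stab_iff [Finite G] (h : Frame K) (hK : KH K) {g : G} : g ∈ stab K h ↔ g ∈ St (cls K K) := by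
  rw [D3.mem_stab, mem_St, cjs_cls]
  change Sim (cj g K) K ↔ _
  constructor
  · intro hs
    exact cls_eq hK (Cj_conj (Cj_self K) g) (Cj_self K) (rel_iff_sim.mpr hs)
  · intro he
    have h1 : cj g K ∈ cls K (cj g K) := self_mem_cls (Cj_conj (Cj_self K) g)
    rw [he] at h1
    exact (rel_iff_sim.mp h1.2).symm

/-- `(SCU)` from the separation of classes -/
theorem scu_of [Finite G] (h : Frame K) (hK : KH K)
    (hsc : ∀ Λ ∈ Fm K, ∀ Λ' ∈ Fm K, ∀ u, InU Λ' u → u ∈ St Λ → Λ = Λ') : D3.EndCent.SCU h := by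
  intro L hL u hu ou g hg
  have hu' : InU (cls K K) u := by
    have h1 := orderOf_eq_iff (n := 2) (x := u) (by norm_num) |>.mp ou
    refine ⟨by rw [← pow_two]; exact h1.1, ?_, L, mem_Cls_iff.mp hL, fun a ha => ?_⟩
    · rintro rfl
      rw [orderOf_one] at ou
      omega
    · exact (Subgroup.mem_centralizer_iff.mp hu a ha).symm
  have h2 := hu'.conj g
  have h3 : cjs g (cls K K) ∈ Fm K := ⟨cj g K, Cj_conj (Cj_self K) g, cjs_cls g⟩
  rw [mem_stab_iff h hK] at hg ⊢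
  exact (hsc _ cls_mem_Fm _ h3 _ h2 hg).symm

/-- the hypothesis that (B2) is impossible -/
def BB (G : Type u) [Group G] : Prop := ∀ (𝓒 : Set (Set (Subgroup G))) (Q : Subgroup G), Fam2 𝓒 → NF 𝓒 Q → False

/-- **The odd case.** -/
theorem odd_false (C : Ctx G) (hSch : Cfsg.Agent.Schreier.Cases.SchFor.{u} @IsKnownSimple') (hFT : D3.FT G)
    (hBB : BB G) (h : Term0 G K) (hr : ¬ PRankLE 2 1 K) (hz : Subgroup.center K = ⊥)
    {g : G} (hne : cj g K ≠ K) (hcomm : ⁅K, cj g K⁆ = ⊥) : False := by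
  have hfin := C.fin
  have hsim := C.simple
  have hF := D3.Plug.frame_of_term C.bal h
  have hK := kh_of C.bal h
  have hodd : Odd (Nat.card (Subgroup.center K)) := by rw [hz, Subgroup.card_bot]; exact odd_one
  have hnt : ∃ L ∈ Cls K, L ≠ K := by
    obtain ⟨B, hB, hBK, hr⟩ := two_of hne hcomm
    exact ⟨B, mem_Cls_iff.mpr ⟨hB, hr⟩, hBK⟩
  have F := fam_of C.bal h hz (two_of hne hcomm)
  by_cases h3 : Three K
  · refine D3.End.false_of_sc (h := hF) hodd hr hnt (D3.End.sc_of_scu (scu_of hF hK ?_))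
    intro Λ hΛ Λ' hΛ' u hu huS
    exact sc3 (fun D hD => hFT.even hD) C.bal hK (cent_of hz) h3 hΛ hΛ' hu huS
  · have F2 := fam2_of C hSch h hz F h3
    obtain ⟨K', hK', hKK'⟩ := hnt
    have htwo : ∀ L ∈ Cls K, L = K ∨ L = K' := by
      intro L hL
      rcases le_two hK h3 cls_mem_Fm K (mem_Cls_iff.mp (D3.self_mem_Cls K)) K' (mem_Cls_iff.mp hK') L
        (mem_Cls_iff.mp hL) with h1 | h1 | h1
      · exact absurd h1.symm hKK'
      · exact Or.inl h1.symm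
      · exact Or.inr h1.symm
    refine D3.End.false_of_sc (h := hF) hodd hr ⟨K', hK', hKK'⟩ (D3.End.sc_of_scd (h := hF) (K' := K') htwo ?_)
    intro L hL u hu ou x hx
    rw [mem_stab_iff hF hK] at hx ⊢
    have h1 := orderOf_eq_iff (n := 2) (x := u) (by norm_num) |>.mp ou
    have hu2 : u * u = 1 := by rw [← pow_two]; exact h1.1
    have hu1 : u ≠ 1 := by
      rintro rfl
      rw [orderOf_one] at ou
      omega
    have hΛ : cjs x (cls K K) ∈ Fm K := ⟨cj x K, Cj_conj (Cj_self K) x, cjs_cls x⟩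
    refine scd F2 (fun Q hQ => hBB _ Q F2 hQ) hΛ cls_mem_Fm (cj_mem_cjs (mem_Cls_iff.mp hL)) (conj_mem_cj hu) ?_ ?_ hx
    · calc x * u * x⁻¹ * (x * u * x⁻¹) = x * (u * u) * x⁻¹ := by group
        _ = 1 := by rw [hu2]; group
    · intro h2
      apply hu1
      calc u = x⁻¹ * (x * u * x⁻¹) * x := by group
        _ = 1 := by rw [h2]; group

/-- The separation of classes if there is a central involution (D3(b), even centre). -/
def EvenSep (G : Type u) [Group G] : Prop :=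
  ∀ K : Subgroup G, Term0 G K → ¬ PRankLE 2 1 K → (∃ z ∈ K, z * z = 1 ∧ z ≠ 1 ∧ ∀ a ∈ K, z * a = a * z) →
    (∃ B ∈ Cj K, B ≠ K ∧ D3.FamTerm.Rel K B) → ∀ Λ ∈ Fm K, ∀ Λ' ∈ Fm K, ∀ u, InU Λ' u → u ∈ St Λ → Λ = Λ'

/-- **The even case**, from `EvenSep`. -/
theorem even_false (C : Ctx G) (h1173 : haveI := C.fin; D3.EndCent.P1173 G) (hE : EvenSep G) (h : Term0 G K) (hr : ¬ PRankLE 2 1 K)
    (hz : ∃ z ∈ K, z * z = 1 ∧ z ≠ 1 ∧ ∀ a ∈ K, z * a = a * z) {g : G} (hne : cj g K ≠ K)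
    (hcomm : ⁅K, cj g K⁆ = ⊥) : False := by
  have hfin := C.fin
  have hsim := C.simple
  have hF := D3.Plug.frame_of_term C.bal h
  have hK := kh_of C.bal h
  have hnt : ∃ L ∈ Cls K, L ≠ K := by
    obtain ⟨B, hB, hBK, hr⟩ := two_of hne hcomm
    exact ⟨B, mem_Cls_iff.mpr ⟨hB, hr⟩, hBK⟩
  refine D3.EndCent.false_of_scu (h := hF) h1173 hnt ?_ (scu_of hF hK (hE K h hr hz (two_of hne hcomm)))
  obtain ⟨z, hzK, hz2, hz1, hzc⟩ := hz
  refine ⟨z, orderOf_eq_prime (by rw [pow_two]; exact hz2) hz1, ?_⟩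
  intro L hL
  rw [Subgroup.mem_centralizer_iff]
  rcases hL.2 with h1 | h1
  · rw [h1]
    exact fun a ha => (hzc a ha).symm
  · intro a ha
    exact (Subgroup.mem_centralizer_iff.mp (h1 ha) z hzK).symm

end Cfsg.Agent.OddHalf.D3b.Bridge
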