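import Cfsg.Agent.OddHalf.D3.EvSwap

/-!
# ODD D3 (iii), even centre, `n ≥ 3`: 2-elements of the members do not permute another class (text of helper230, bb ODD 12170, with the end of helper245 / helper691)

`normE`: if the classes have at least three members, an involution `v` centralising a member of `c` and stabilising
`d ≠ c` normalises all the members of `d` (even centre version of `NormOne.norm`).
`sw_three`: if `c ≠ d` are adjacent, a 2-element of a member of `c` stabilising `d` normalises all members of `d`.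
-/

set_option autoImplicit false

namespace Cfsg.Agent.OddHalf.D3.EvSwN

open Cfsg Cfsg.Agent.OddHalf.D3.ThreeDefs Cfsg.Agent.OddHalf.D3.ThreeFam Cfsg.Agent.OddHalf.D3.ThreeMain
open Cfsg.Agent.OddHalf.D3.FamTerm Cfsg.Agent.OddHalf.D3.NormOne Cfsg.Agent.OddHalf.D3.Swap
open Cfsg.Agent.OddHalf.D3.TwoCfg Cfsg.Agent.OddHalf.D3.EvDefs

universe u

variable {G : Type u} [Group G]

theorem isPGroup_zpowers' {s : G} {n : ℕ} (hs : s ^ 2 ^ n = 1) : IsPGroup 2 (Subgroup.zpowers s) := by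
  rintro ⟨x, hx⟩
  obtain ⟨k, rfl⟩ := Subgroup.mem_zpowers_iff.mp hx
  refine ⟨n, Subtype.ext ?_⟩
  change (s ^ k) ^ 2 ^ n = 1
  rw [← zpow_natCast, ← zpow_mul, mul_comm, zpow_mul, zpow_natCast, hs, one_zpow]

/-! ### a fixed point in a coset -/

/-- a 2-element `α` normalising a subgroup `O` of odd order, with `[α, r] ∈ O`, commutes with an element of `O r` -/
theorem exists_comm_coset [Finite G] {O : Subgroup G} (hO : ¬ 2 ∣ Nat.card O) {α r : G} {k : ℕ} (hα : α ^ 2 ^ k = 1)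
    (hαO : cj α O = O) (hr : α * r * α⁻¹ * r⁻¹ ∈ O) : ∃ o ∈ O, α * (o * r) = o * r * α := by
  have hαO' : cj α⁻¹ O = O := cj_inv_eq hαO
  let σ : Equiv.Perm O :=
    { toFun := fun o => ⟨α * o * α⁻¹ * (α * r * α⁻¹ * r⁻¹), mul_mem (conj_mem_of_cj hαO o.2) hr⟩
      invFun := fun o => ⟨α⁻¹ * (o * (α * r * α⁻¹ * r⁻¹)⁻¹) * α⁻¹⁻¹,
        conj_mem_of_cj hαO' (mul_mem o.2 (inv_mem hr))⟩
      left_inv := by
        intro o
        apply Subtype.ext
        change α⁻¹ * (α * (o : G) * α⁻¹ * (α * r * α⁻¹ * r⁻¹) * (α * r * α⁻¹ * r⁻¹)⁻¹) * α⁻¹⁻¹ = o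
        group
      right_inv := by
        intro o
        apply Subtype.ext
        change α * (α⁻¹ * ((o : G) * (α * r * α⁻¹ * r⁻¹)⁻¹) * α⁻¹⁻¹) * α⁻¹ * (α * r * α⁻¹ * r⁻¹) = o
        group }
  have key : ∀ (j : ℕ) (o : O), (((σ ^ j) o : O) : G) * r = α ^ j * (o * r) * (α ^ j)⁻¹ := by
    intro j
    induction j with
    | zero => intro o; simp
    | succ j ih =>
      intro o
      rw [pow_succ, Equiv.Perm.mul_apply, ih]
      change α ^ j * (α * (o : G) * α⁻¹ * (α * r * α⁻¹ * r⁻¹) * r) * (α ^ j)⁻¹ = _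
      rw [pow_succ]
      group
  have hσ : σ ^ 2 ^ k = 1 := by
    apply Equiv.ext
    intro o
    apply Subtype.ext
    have h1 := key (2 ^ k) o
    rw [hα] at h1
    simpa using h1
  have : Fact (Nat.Prime 2) := ⟨Nat.prime_two⟩
  have : Fintype O := Fintype.ofFinite _
  obtain ⟨o, ho⟩ := Equiv.Perm.exists_fixed_point_of_prime (p := 2) (n := k)
    (by rwa [← Nat.card_eq_fintype_card]) hσ
  refine ⟨o, o.2, ?_⟩
  have h1 := key 1 o
  rw [pow_one, pow_one, ho] at h1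
  calc α * (o * r) = (α * (o * r) * α⁻¹) * α := by group
    _ = _ := by rw [← h1]

/-! ### the even centre version of `norm` -/

/-- **(1)** of helper133's text, even centre -/
theorem normE [Finite G] (hev : EvQ G) (hbal : Bal G) {K : Subgroup G} (h : KH K)
    (F : EFam (Fm K)) (three : ∀ Λ ∈ Fm K, ∀ A B, ∃ D ∈ Λ, D ≠ A ∧ D ≠ B)
    {Λ Λ' : Set (Subgroup G)} (hΛ : Λ ∈ Fm K) (hΛ' : Λ' ∈ Fm K) (hne : Λ ≠ Λ') {v : G} (hv : InU Λ v)
    (hvS : v ∈ St Λ') {B : Subgroup G} (hB : B ∈ Λ') : cj v B = B := by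
  have hCj : ∀ Λ ∈ Fm K, ∀ A ∈ Λ, A ∈ Cj K := by
    rintro _ ⟨A, hA, rfl⟩ D hD
    exact hD.1
  have hmem : ∀ {Λ : Set (Subgroup G)} {g : G} {A : Subgroup G}, g ∈ St Λ → A ∈ Λ → cj g A ∈ Λ :=
    fun hg hA => cj_mem_of_St hg hA
  by_contra hcon
  obtain ⟨hv2, hv1, A, hA, hvA⟩ := id hv
  have hB'Λ : cj v B ∈ Λ' := hmem hvS hB
  -- the product of the other members
  set Xs : Subgroup G := sSup {A | A ∈ Λ' ∧ A ≠ B ∧ A ≠ cj v B} with hXs
  have hvX : cj v Xs = Xs := by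
    have h1 : cj v Xs ≤ Xs := by
      rw [cj_le_iff, hXs]
      refine sSup_le ?_
      rintro D ⟨hD, hD1, hD2⟩
      rw [← cj_le_iff]
      refine le_sSup ⟨hmem hvS hD, ?_, ?_⟩
      · intro h2
        apply hD2
        rw [← h2, ← cj_mul, hv2, cj_one]
      · intro h2
        exact hD1 (cj_injective v h2)
    refine le_antisymm h1 ?_
    have h2 := cj_mono (g := v) h1
    rwa [← cj_mul, hv2, cj_one] at h2
  obtain ⟨B3, hB3, hB31, hB32⟩ := three Λ' hΛ' B (cj v B)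
  have hB3X : B3 ≤ Xs := le_sSup ⟨hB3, hB31, hB32⟩
  obtain ⟨y, hyX, hy2, hy1, hvy⟩ := exists_fixed_inv hv2 hvX (by
    obtain ⟨x, hx, hx2, hx1, -⟩ := F.ec Λ' hΛ' B3 hB3
    exact ⟨x, hB3X hx, hx2, hx1⟩)
  have hXc : ∀ D ∈ Λ', D = B → ∀ x ∈ Xs, ∀ a ∈ D, x * a = a * x := by
    intro D hD hDB
    have h1 : Xs ≤ Subgroup.centralizer (D : Set G) := by
      rw [hXs]
      refine sSup_le ?_
      rintro A' ⟨hA', h2, h3⟩ a ha
      rw [Subgroup.mem_centralizer_iff]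
      intro b hb
      refine (F.comm Λ' hΛ' A' hA' D hD ?_ a ha b hb).symm
      rintro rfl
      exact h2 hDB
    intro x hx a ha
    exact (Subgroup.mem_centralizer_iff.mp (h1 hx) a ha).symm
  have hyB : CompOf y B := (h.conj (hCj Λ' hΛ' B hB)).term.of_comm hy2 hy1 (hXc B hB rfl y hyX)
  obtain ⟨D, hDv, hDy, hDB, hDq, hDc, -⟩ := EvDiag.exists_J hyB hv2 hvy hcon
  obtain ⟨FF, hFF, hDF⟩ := pump hev hbal (orderOf_two hv2 hv1) (orderOf_two hy2 hy1) hvy hDc
  have hyS : y ∈ St Λ := F.cen hΛ hv hvy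
  have hyy : ∀ X : Subgroup G, cj y (cj y X) = X := fun X => by rw [← cj_mul, hy2, cj_one]
  have hFF' : CompOf v (cj y FF) := by
    have h1 := hFF.conj y
    have e : y * v * y⁻¹ = v := by rw [← hvy]; group
    rwa [e] at h1
  have hAv : CompOf v A := (h.conj (hCj Λ hΛ A hA)).term.of_comm hv2 hv1 hvA
  obtain ⟨Lk, hLk, hc1, hc2⟩ : ∃ Lk ∈ Λ, (∀ x ∈ Lk, ∀ w ∈ FF, x * w = w * x) ∧
      (∀ x ∈ Lk, ∀ w ∈ cj y FF, x * w = w * x) := by
    by_cases hFΛ : FF ∈ Λ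
    · obtain ⟨Lk, hLk, h1, h2⟩ := three Λ hΛ FF (cj y FF)
      exact ⟨Lk, hLk, F.comm Λ hΛ Lk hLk FF hFΛ h1, F.comm Λ hΛ Lk hLk _ (hmem hyS hFΛ) h2⟩
    · refine ⟨A, hA, ?_, ?_⟩
      · rcases hAv.eq_or_comm hFF with h1 | h1
        · exact absurd (h1 ▸ hA) hFΛ
        · exact h1
      · rcases hAv.eq_or_comm hFF' with h1 | h1
        · exfalso
          apply hFΛ
          have h2 := hmem hyS hA
          rw [h1, hyy] at h2
          exact h2
        · exact h1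
  obtain ⟨d, hd, hd2, hd1⟩ := ZStar.exists_inv (hev D hDq)
  have hsup : ∀ (X Y Z : Subgroup G), (∀ x ∈ Z, ∀ w ∈ X, x * w = w * x) → (∀ x ∈ Z, ∀ w ∈ Y, x * w = w * x) →
      ∀ d ∈ X ⊔ Y, ∀ a ∈ Z, d * a = a * d := by
    intro X Y Z h1 h2 d hd a ha
    have h3 : X ⊔ Y ≤ Subgroup.centralizer (Z : Set G) := by
      refine sup_le ?_ ?_
      · intro x hx; exact Subgroup.mem_centralizer_iff.mpr fun b hb => h1 b hb x hx
      · intro x hx; exact Subgroup.mem_centralizer_iff.mpr fun b hb => h2 b hb x hx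
    exact (Subgroup.mem_centralizer_iff.mp (h3 hd) a ha).symm
  refine hne (F.uniq Λ hΛ Λ' hΛ' d ⟨hd2, hd1, Lk, hLk, hsup FF (cj y FF) Lk hc1 hc2 d (hDF hd)⟩
    ⟨hd2, hd1, B3, hB3, hsup B (cj v B) B3 (F.comm Λ' hΛ' B3 hB3 B hB hB31)
      (F.comm Λ' hΛ' B3 hB3 _ hB'Λ hB32) d (hDB hd)⟩)

/-! ### the abstract argument -/

/-- the hypotheses of the argument: three members, and (1) -/
structure TFam (𝓒 : Set (Set (Subgroup G))) : Prop extends EFam 𝓒 where
  three : ∀ c ∈ 𝓒, ∀ A B : Subgroup G, ∃ D ∈ c, D ≠ A ∧ D ≠ B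
  norm : ∀ c ∈ 𝓒, ∀ d ∈ 𝓒, c ≠ d → ∀ v, InU c v → v ∈ St d → ∀ B ∈ d, cj v B = B

section
variable {𝓒 : Set (Set (Subgroup G))} {c d : Set (Subgroup G)} {L M : Subgroup G} {s : G}

/-- an involution of a member of `d` stabilising `c` is in `Nm c` -/
theorem TFam.norm_mem (F : TFam 𝓒) (hc : c ∈ 𝓒) (hd : d ∈ 𝓒) (hcd : c ≠ d) (hM : M ∈ d) {w : G} (hw : w ∈ M)
    (hw2 : w * w = 1) (hwc : w ∈ St c) (hL : L ∈ c) : cj w L = L := by
  by_cases h1 : w = 1
  · rw [h1, cj_one]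
  · exact F.norm d hd c hc (Ne.symm hcd) w (F.inU_of_mem hd hM hw hw2 h1) hwc L hL

/-- (a) -/
theorem TFam.fixed (F : TFam 𝓒) (hc : c ∈ 𝓒) (hd : d ∈ 𝓒) (hcd : c ≠ d) (hL : L ∈ c) (hM : M ∈ d) (hs : s ∈ L)
    (hsd : s ∈ St d) (hsM : cj s M ≠ M) {w : G} (hw : w ∈ M) (hw2 : w * w = 1) (hwc : w ∈ St c) :
    s * w * s⁻¹ = w ∧ ∀ m ∈ M, w * m = m * w := by
  have hsMd : cj s M ∈ d := cj_mem_of_St hsd hM
  have hw' : s * w * s⁻¹ ∈ cj s M := conj_mem_cj hw
  have hcomm : w * (s * w * s⁻¹) = (s * w * s⁻¹) * w := F.comm d hd M hM _ hsMd (Ne.symm hsM) w hw _ hw'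
  have hwi : w⁻¹ = w := inv_of_sq hw2
  have hwL : cj w L = L := F.norm_mem hc hd hcd hM hw hw2 hwc hL
  have hkL : s * w * s⁻¹ * w ∈ L := by
    have h1 : w * s⁻¹ * w⁻¹ ∈ L := conj_mem_of_cj hwL (inv_mem hs)
    rw [hwi] at h1
    have h2 := mul_mem hs h1
    have e : s * (w * s⁻¹ * w) = s * w * s⁻¹ * w := by group
    rwa [e] at h2
  have hw'2 : s * w * s⁻¹ * (s * w * s⁻¹) = 1 := by
    calc s * w * s⁻¹ * (s * w * s⁻¹) = s * (w * w) * s⁻¹ := by group
      _ = 1 := by rw [hw2]; group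
  have hk2 : s * w * s⁻¹ * w * (s * w * s⁻¹ * w) = 1 := by
    calc s * w * s⁻¹ * w * (s * w * s⁻¹ * w) = s * w * s⁻¹ * (w * (s * w * s⁻¹)) * w := by group
      _ = s * w * s⁻¹ * ((s * w * s⁻¹) * w) * w := by rw [hcomm]
      _ = (s * w * s⁻¹ * (s * w * s⁻¹)) * (w * w) := by group
      _ = 1 := by rw [hw'2, hw2, mul_one]
  have hk : s * w * s⁻¹ * w = 1 := by
    by_contra hk1
    obtain ⟨M3, hM3, h31, h32⟩ := F.three d hd M (cj s M)
    refine F.not_both hc hd hcd (F.inU_of_mem hc hL hkL hk2 hk1) ⟨hk2, hk1, M3, hM3, fun m hm => ?_⟩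
    have h1 := F.comm d hd M hM M3 hM3 (Ne.symm h31) w hw m hm
    have h2 := F.comm d hd _ hsMd M3 hM3 (Ne.symm h32) _ hw' m hm
    calc s * w * s⁻¹ * w * m = s * w * s⁻¹ * (w * m) := by group
      _ = (s * w * s⁻¹ * m) * w := by rw [h1]; group
      _ = m * (s * w * s⁻¹ * w) := by rw [h2]; group
  have hsw : s * w * s⁻¹ = w := by
    have h1 := mul_eq_one_iff_eq_inv.mp hk
    rwa [hwi] at h1
  refine ⟨hsw, fun m hm => ?_⟩
  have h1 := F.comm d hd M hM _ hsMd (Ne.symm hsM) m hm _ hw'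
  rw [hsw] at h1
  exact h1.symm

/-- (b) no element `r` of `M` has `a r a⁻¹ = r e` with an involution `e ∈ M` -/
theorem TFam.no_comm [Finite G] (F : TFam 𝓒) (hc : c ∈ 𝓒) (hd : d ∈ 𝓒) (hcd : c ≠ d) (hL : L ∈ c) (hM : M ∈ d)
    (hs : s ∈ L) {n : ℕ} (hsn : s ^ 2 ^ n = 1) (hs2 : s * s ≠ 1) (hsd : s ∈ St d) (hsM : cj s M ≠ M)
    (hssM : cj (s * s) M = M)
    {a : G} (haL : a ∈ L) (ha2 : a * a = 1) (ha1 : a ≠ 1) (hac : ∀ x ∈ L, a * x = x * a) (had : a ∈ St d)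
    {r e : G} (hr : r ∈ M) (he : e ∈ M) (he2 : e * e = 1) (hare : a * r * a⁻¹ = r * e) : e = 1 := by
  by_contra he1
  have hsMd : cj s M ∈ d := cj_mem_of_St hsd hM
  have hUa : InU c a := F.inU_of_mem hc hL haL ha2 ha1
  have hai : a⁻¹ = a := inv_of_sq ha2
  -- `e` commutes with `a`
  have hae : a * e = e * a := by
    have h1 : a * (r * e) * a⁻¹ = r := by
      rw [← hare]
      calc a * (a * r * a⁻¹) * a⁻¹ = (a * a) * r * (a * a)⁻¹ := by group
        _ = r := by rw [ha2]; group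
    have h2 : a * (r * e) * a⁻¹ = (r * e) * (a * e * a⁻¹) := by
      calc a * (r * e) * a⁻¹ = (a * r * a⁻¹) * (a * e * a⁻¹) := by group
        _ = _ := by rw [hare]
    rw [h1] at h2
    have h3 : e * (a * e * a⁻¹) = 1 := by
      calc e * (a * e * a⁻¹) = r⁻¹ * (r * e * (a * e * a⁻¹)) := by group
        _ = 1 := by rw [← h2]; group
    have h4 : a * e * a⁻¹ = e := by
      have h5 := mul_eq_one_iff_inv_eq.mp h3
      rw [inv_of_sq he2] at h5
      exact h5.symm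
    calc a * e = (a * e * a⁻¹) * a := by group
      _ = e * a := by rw [h4]
  have heSt : e ∈ St c := F.cen hc hUa hae
  have hse : s * e * s⁻¹ = e := (F.fixed hc hd hcd hL hM hs hsd hsM he he2 heSt).1
  set r' : G := s * r * s⁻¹ with hr'
  have hr'M : r' ∈ cj s M := conj_mem_cj hr
  have her' : e * r' = r' * e := F.comm d hd M hM _ hsMd (Ne.symm hsM) e he _ hr'M
  have has : a * s = s * a := hac s hs
  have har' : a * r' * a⁻¹ = r' * e := by
    calc a * r' * a⁻¹ = (a * s) * r * (a * s)⁻¹ := by rw [hr']; group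
      _ = s * (a * r * a⁻¹) * s⁻¹ := by rw [has]; group
      _ = s * r * s⁻¹ * (s * e * s⁻¹) := by rw [hare]; group
      _ = r' * e := by rw [hse]
  set g : G := r * r' with hg
  have hag : a * g = g * a := by
    have h1 : a * (r * r') * a⁻¹ = r * r' := by
      calc a * (r * r') * a⁻¹ = (a * r * a⁻¹) * (a * r' * a⁻¹) := by group
        _ = r * (e * r') * e := by rw [hare, har']; group
        _ = r * r' * (e * e) := by rw [her']; group
        _ = _ := by rw [he2, mul_one]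
    calc a * g = (a * (r * r') * a⁻¹) * a := by rw [hg]; group
      _ = _ := by rw [h1]
  have hgS : g ∈ St c := F.cen hc hUa hag
  -- `[g, s]`
  set α : G := s * s with hα
  set r2 : G := α * r * α⁻¹ with hr2
  have hr2M : r2 ∈ M := by
    rw [← hssM]; exact conj_mem_cj hr
  have hr'r2 : r' * r2 = r2 * r' := (F.comm d hd M hM _ hsMd (Ne.symm hsM) _ hr2M _ hr'M).symm
  have hδ : s * (g * s⁻¹ * g⁻¹) = r2 * r⁻¹ := by
    have e1 : s * (g * s⁻¹ * g⁻¹) = r' * r2 * r'⁻¹ * r⁻¹ := by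
      rw [hg, hr', hr2, hα]; group
    rw [e1, hr'r2]; group
  have hδM : r2 * r⁻¹ ∈ M := mul_mem hr2M (inv_mem hr)
  have hgL : g * s⁻¹ * g⁻¹ ∈ cj g L := conj_mem_cj (inv_mem hs)
  -- 2-elements
  have hTs : IsPGroup 2 (Subgroup.zpowers s) := isPGroup_zpowers' hsn
  have hαT : α ∈ Subgroup.zpowers s := mul_mem (Subgroup.mem_zpowers s) (Subgroup.mem_zpowers s)
  obtain ⟨m, hm2, hm1⟩ := exists_pow_inv hTs hαT hs2
  have hUm : InU c (α ^ m) := F.inU_of_mem hc hL (pow_mem (mul_mem hs hs) m) hm2 hm1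
  -- an element of `M` congruent to `r` commuting with `α` gives the contradiction
  have key : ∀ o ∈ L, α * (o * r) = o * r * α → False := by
    intro o ho hoc
    have horS : o * r ∈ St c := F.cen hc hUm ((Commute.pow_left (show Commute α (o * r) from hoc) m).eq)
    have hrS : r ∈ St c := by
      have h1 : o ∈ St c := F.mem_le_St hc hL ho
      have e : r = o⁻¹ * (o * r) := by group
      rw [e]
      exact mul_mem (inv_mem h1) horS
    -- `r` commutes with `a`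
    have haM : cj a M = M := F.norm c hc d hd hcd a hUa had M hM
    have haZ : a ∈ Zc c := mem_Zc_of_mem (F.comm c hc) hL haL ha2 hac
    have h1 : r * a * r⁻¹ * a⁻¹ ∈ Zc c := mul_mem (Zc_norm hrS haZ) (inv_mem haZ)
    have h2 : r * a * r⁻¹ * a⁻¹ ∈ M := by
      have h3 : a * r⁻¹ * a⁻¹ ∈ M := conj_mem_of_cj haM (inv_mem hr)
      have h4 := mul_mem hr h3
      have e : r * (a * r⁻¹ * a⁻¹) = r * a * r⁻¹ * a⁻¹ := by group
      rwa [e] at h4
    have h3 := F.Zc_inter_mem hd hc (Ne.symm hcd) hM h2 h1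
    have h4 : a * r * a⁻¹ = r := by
      calc a * r * a⁻¹ = (r * a * r⁻¹ * a⁻¹)⁻¹ * r := by group
        _ = r := by rw [h3]; group
    rw [h4] at hare
    exact he1 (mul_eq_left.mp hare.symm)
  by_cases hcase : cj g L = L
  · -- Frattini
    have hδL : r2 * r⁻¹ ∈ L := by
      rw [hcase] at hgL
      rw [← hδ]
      exact mul_mem hs hgL
    have hO : ¬ 2 ∣ Nat.card (M ⊓ L : Subgroup G) := by
      intro h1
      obtain ⟨x, hx, hx2, hx1⟩ := ZStar.exists_inv h1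
      rw [Subgroup.mem_inf] at hx
      exact hx1 (F.inter_inv hd hc (Ne.symm hcd) hM hL hx.1 hx.2 hx2)
    have hαO : cj α (M ⊓ L) = M ⊓ L := by
      have hαL : cj α L = L := cj_eq_of_mem (mul_mem hs hs)
      ext x
      rw [mem_cj, Subgroup.mem_inf, Subgroup.mem_inf, ← mem_cj, ← mem_cj, hssM, hαL]
    have hαn : α ^ 2 ^ n = 1 := by
      rw [hα, ← pow_two, ← pow_mul, mul_comm, pow_mul, hsn, one_pow]
    obtain ⟨o, ho, hoc⟩ := exists_comm_coset hO hαn hαO (r := r) (by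
      have e : α * r * α⁻¹ * r⁻¹ = r2 * r⁻¹ := by rw [hr2]
      rw [e]
      exact Subgroup.mem_inf.mpr ⟨hδM, hδL⟩)
    exact key o (Subgroup.mem_inf.mp ho).2 hoc
  · -- `δ` is a 2-element centralising third members of both classes
    have hgLc : cj g L ∈ c := cj_mem_of_St hgS hL
    have hss : s * (g * s⁻¹ * g⁻¹) = (g * s⁻¹ * g⁻¹) * s := F.comm c hc L hL _ hgLc (Ne.symm hcase) s hs _ hgL
    have hδn : (r2 * r⁻¹) ^ 2 ^ n = 1 := by
      rw [← hδ, Commute.mul_pow hss, hsn, one_mul, conj_pow, inv_pow, hsn]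
      group
    have hδ1 : r2 * r⁻¹ = 1 := by
      by_contra hδ1
      obtain ⟨k, hk2, hk1⟩ := exists_pow_inv (isPGroup_zpowers' hδn) (Subgroup.mem_zpowers _) hδ1
      obtain ⟨L3, hL3, h31, h32⟩ := F.three c hc L (cj g L)
      refine F.not_both hc hd hcd ⟨hk2, hk1, L3, hL3, fun y hy => ?_⟩
        (F.inU_of_mem hd hM (pow_mem hδM k) hk2 hk1)
      have h1 := F.comm c hc L hL L3 hL3 (Ne.symm h31) s hs y hy
      have h2 := F.comm c hc _ hgLc L3 hL3 (Ne.symm h32) _ hgL y hy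
      have h3 : Commute (s * (g * s⁻¹ * g⁻¹)) y := Commute.mul_left h1 h2
      rw [hδ] at h3
      exact (h3.pow_left k).eq
    refine key 1 (one_mem L) ?_
    rw [one_mul]
    calc α * r = (r2 * r⁻¹) * r * α := by rw [hr2]; group
      _ = r * α := by rw [hδ1, one_mul]

/-- `d` is not permuted by 2-elements of `L ∈ c` -/
theorem TFam.false_of_moved [Finite G] (F : TFam 𝓒) (hc : c ∈ 𝓒) (hd : d ∈ 𝓒) (hcd : c ≠ d) (hL : L ∈ c) (hM : M ∈ d)
    (hs : s ∈ L) {n : ℕ} (hsn : s ^ 2 ^ n = 1) (hsd : s ∈ St d) (hsM : cj s M ≠ M)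
    {a : G} (haL : a ∈ L) (ha2 : a * a = 1) (ha1 : a ≠ 1) (hac : ∀ x ∈ L, a * x = x * a) (had : a ∈ St d) : False := by
  classical
  have hUa : InU c a := F.inU_of_mem hc hL haL ha2 ha1
  have hai : a⁻¹ = a := inv_of_sq ha2
  have haM : cj a M = M := F.norm c hc d hd hcd a hUa had M hM
  -- we may assume that `s²` normalises `M`
  obtain ⟨t, htL, htn, htd, htM, httM⟩ : ∃ t ∈ L, t ^ 2 ^ n = 1 ∧ t ∈ St d ∧ cj t M ≠ M ∧ cj (t * t) M = M := by
    have hex : ∃ j : ℕ, cj (s ^ 2 ^ j) M = M := ⟨n, by rw [hsn, cj_one]⟩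
    obtain ⟨j, hj⟩ : ∃ j, Nat.find hex = j + 1 := by
      refine ⟨Nat.find hex - 1, ?_⟩
      have : Nat.find hex ≠ 0 := by
        intro h0
        have h1 := Nat.find_spec hex
        rw [h0, pow_zero, pow_one] at h1
        exact hsM h1
      omega
    refine ⟨s ^ 2 ^ j, pow_mem hs _, ?_, pow_mem hsd _, Nat.find_min hex (by omega), ?_⟩
    · rw [← pow_mul, mul_comm, pow_mul, hsn, one_pow]
    · have h1 := Nat.find_spec hex
      rw [hj] at h1
      have e : s ^ 2 ^ j * s ^ 2 ^ j = s ^ 2 ^ (j + 1) := by rw [← pow_add, ← two_mul, ← pow_succ']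
      rwa [e]
  have ht2 : t * t ≠ 1 := by
    intro h1
    have ht1 : t ≠ 1 := by
      rintro rfl
      exact htM (cj_one M)
    exact htM (F.norm c hc d hd hcd t (F.inU_of_mem hc hL htL h1 ht1) htd M hM)
  -- Z*
  have hev : 2 ∣ Nat.card M := by
    obtain ⟨x, hx, hx2, hx1, -⟩ := F.ec d hd M hM
    have h1 : orderOf (⟨x, hx⟩ : M) = 2 :=
      orderOf_eq_prime (by rw [pow_two]; exact Subtype.ext hx2) (fun h => hx1 (congrArg Subtype.val h))
    rw [← h1]
    exact orderOf_dvd_natCard _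
  obtain ⟨l, hl, hl1, hl2⟩ := ZStar.zst (F.qs d hd M hM) hev ha2 haM (by
    by_contra hcon
    push Not at hcon
    exact F.not_both hc hd hcd hUa ⟨ha2, ha1, M, hM, hcon⟩)
  have heM : l⁻¹ * (a * l * a⁻¹) ∈ M := mul_mem (inv_mem hl) (conj_mem_of_cj haM hl)
  have h3 : (l⁻¹ * a * l) * a = a * (l⁻¹ * a * l) := by
    calc (l⁻¹ * a * l) * a = l⁻¹ * (a * (l * a * l⁻¹)) * l := by group
      _ = l⁻¹ * ((l * a * l⁻¹) * a) * l := by rw [hl2]
      _ = _ := by group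
  have he2 : l⁻¹ * (a * l * a⁻¹) * (l⁻¹ * (a * l * a⁻¹)) = 1 := by
    rw [hai]
    calc l⁻¹ * (a * l * a) * (l⁻¹ * (a * l * a)) = ((l⁻¹ * a * l) * a) * ((l⁻¹ * a * l) * a) := by group
      _ = (a * (l⁻¹ * a * l)) * ((l⁻¹ * a * l) * a) := by rw [h3]
      _ = a * (l⁻¹ * (a * a) * l) * a := by group
      _ = a * (l⁻¹ * 1 * l) * a := by rw [ha2]
      _ = a * a := by group
      _ = 1 := ha2
  have he := F.no_comm hc hd hcd hL hM htL htn ht2 htd htM httM haL ha2 ha1 hac had hl heM he2 (by group)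
  apply hl1
  have h4 : l = a * l * a⁻¹ := by
    calc l = l * (l⁻¹ * (a * l * a⁻¹)) := by rw [he, mul_one]
      _ = _ := by group
  calc l * a * l⁻¹ = (a * l * a⁻¹) * a * l⁻¹ := by rw [← h4]
    _ = a := by group

end

/-! ### the result -/

/-- **(sw), `n ≥ 3`**: if `c ≠ d` are adjacent, a 2-element of a member of `c` stabilising `d` normalises the members
of `d`. -/
theorem sw_three [Finite G] (hev : EvQ G) (hbal : Bal G) {K : Subgroup G} (h : KH K) (F : EFam (Fm K))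
    (three : ∀ Λ ∈ Fm K, ∀ A B : Subgroup G, ∃ D ∈ Λ, D ≠ A ∧ D ≠ B)
    {c d : Set (Subgroup G)} (hc : c ∈ Fm K) (hd : d ∈ Fm K) (hcd : c ≠ d) (had : EvDefs.Ad c d) {L : Subgroup G} (hL : L ∈ c)
    {s : G} (hs : s ∈ L) (hs2 : ∃ n : ℕ, s ^ 2 ^ n = 1) (hsd : s ∈ St d) : s ∈ Nm d := by
  have T : TFam (Fm K) := { toEFam := F
                            three := three
                            norm := fun c hc d hd hcd v hv hvS B hB => normE hev hbal h F three hc hd hcd hv hvS hB }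
  obtain ⟨n, hsn⟩ := hs2
  intro M hM
  by_contra hsM
  obtain ⟨e, he, he1, heS⟩ := had
  have heL : cj e L = L := T.norm d hd c hc (Ne.symm hcd) e (F.inU_of_Zc hd he he1) heS L hL
  -- a central involution of `L` commuting with `e`
  have hX : cj e (L ⊓ Subgroup.centralizer (L : Set G)) = L ⊓ Subgroup.centralizer (L : Set G) := by
    have key : ∀ g : G, cj g L = L → cj g (L ⊓ Subgroup.centralizer (L : Set G)) ≤ L ⊓ Subgroup.centralizer (L : Set G) := by
      intro g hg x hx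
      rw [mem_cj, Subgroup.mem_inf] at hx
      have hx1 : x ∈ L := by
        have := hx.1
        rw [← mem_cj, hg] at this
        exact this
      refine Subgroup.mem_inf.mpr ⟨hx1, Subgroup.mem_centralizer_iff.mpr fun y hy => ?_⟩
      have hy' : g⁻¹ * y * g ∈ L := by
        rw [← mem_cj, hg]; exact hy
      have h1 := Subgroup.mem_centralizer_iff.mp hx.2 _ hy'
      calc y * x = g * (g⁻¹ * y * g * (g⁻¹ * x * g)) * g⁻¹ := by group
        _ = x * y := by rw [h1]; group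
    refine le_antisymm (key e heL) ?_
    have h1 := cj_mono (g := e) (key e⁻¹ (cj_inv_eq heL))
    rwa [cj_cj_inv] at h1
  obtain ⟨a, haX, ha2, ha1, hea⟩ := exists_fixed_inv (Zc_sq he) hX (by
    obtain ⟨x, hx, hx2, hx1, hxc⟩ := F.ec c hc L hL
    exact ⟨x, Subgroup.mem_inf.mpr ⟨hx, Subgroup.mem_centralizer_iff.mpr fun y hy => (hxc y hy).symm⟩, hx2, hx1⟩)
  rw [Subgroup.mem_inf] at haX
  have hac : ∀ x ∈ L, a * x = x * a := fun x hx => (Subgroup.mem_centralizer_iff.mp haX.2 x hx).symm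
  have haSt : a ∈ St d := F.cen hd (F.inU_of_Zc hd he he1) hea
  exact T.false_of_moved hc hd hcd hL hM hs hsn hsd hsM haX.1 ha2 ha1 hac haSt

end Cfsg.Agent.OddHalf.D3.EvSwN
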