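import Cfsg.Agent.OddHalf.D3.EvDiag

/-!
# ODD D3 (iii), even centre: the swapping configuration (text of helper760, bb ODD 10166, (E2))
-/

set_option autoImplicit false

namespace Cfsg.Agent.OddHalf.D3.EvSwap

open Cfsg Cfsg.Agent.OddHalf.D3.ThreeDefs Cfsg.Agent.OddHalf.D3.ThreeFam Cfsg.Agent.OddHalf.D3.ThreeMain
open Cfsg.Agent.OddHalf.D3.Swap Cfsg.Agent.OddHalf.D3.TwoCfg Cfsg.Agent.OddHalf.D3.EvDefs
open Cfsg.Agent.OddHalf.D3.FamTerm Cfsg.Agent.OddHalf.D3.NormOne Cfsg.Agent.OddHalf.D3.EvDiag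
open Cfsg.Agent.SignalizersComponents.Components Cfsg.Agent.SignalizersComponents
open scoped commutatorElement

universe u

variable {G : Type u} [Group G]

/-- if all squares of a perfect group are central the group is abelian -/
theorem comm_of_sq_central {L : Subgroup G} (hL : ⁅L, L⁆ = L) (h : ∀ x ∈ L, ∀ y ∈ L, x * x * y = y * (x * x)) :
    ∀ x ∈ L, ∀ y ∈ L, x * y = y * x := by
  have key : L ≤ Subgroup.centralizer (L : Set G) := by
    conv_lhs => rw [← hL]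
    rw [Subgroup.commutator_le]
    intro x hx y hy
    rw [Subgroup.mem_centralizer_iff]
    intro w hw
    have e : ⁅x, y⁆ = (x * y * (x * y)) * (x⁻¹ * x⁻¹) * (y⁻¹ * y⁻¹) := by
      have h1 := h x⁻¹ (inv_mem hx) y⁻¹ (inv_mem hy)
      rw [commutatorElement_def]
      calc x * y * x⁻¹ * y⁻¹ = x * y * x * (x⁻¹ * x⁻¹ * y⁻¹) := by group
        _ = x * y * x * (y⁻¹ * (x⁻¹ * x⁻¹)) := by rw [h1]
        _ = x * y * (x * y) * (y⁻¹ * (y⁻¹ * (x⁻¹ * x⁻¹))) := by group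
        _ = x * y * (x * y) * (y⁻¹ * (x⁻¹ * x⁻¹ * y⁻¹)) := by rw [h1]
        _ = x * y * (x * y) * ((y⁻¹ * (x⁻¹ * x⁻¹)) * y⁻¹) := by group
        _ = x * y * (x * y) * ((x⁻¹ * x⁻¹ * y⁻¹) * y⁻¹) := by rw [h1]
        _ = _ := by group
    have h1 := h (x * y) (mul_mem hx hy) w hw
    have h2 := h x⁻¹ (inv_mem hx) w hw
    have h3 := h y⁻¹ (inv_mem hy) w hw
    rw [e]
    calc w * (x * y * (x * y) * (x⁻¹ * x⁻¹) * (y⁻¹ * y⁻¹)) = w * (x * y * (x * y)) * (x⁻¹ * x⁻¹) * (y⁻¹ * y⁻¹) := by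
          group
      _ = x * y * (x * y) * (w * (x⁻¹ * x⁻¹)) * (y⁻¹ * y⁻¹) := by rw [← h1]; group
      _ = x * y * (x * y) * (x⁻¹ * x⁻¹) * (w * (y⁻¹ * y⁻¹)) := by rw [← h2]; group
      _ = _ := by rw [← h3]; group
  intro x hx y hy
  exact (Subgroup.mem_centralizer_iff.mp (key hx) y hy).symm

section
variable {𝓒 : Set (Set (Subgroup G))}

theorem co_of (F : EFam 𝓒) {c : Set (Subgroup G)} (hc : c ∈ 𝓒) {L : Subgroup G} (hL : L ∈ c) {e : G} (he : e ∈ St c)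
    (hne : cj e L ≠ L) : Co L e :=
  F.comm c hc L hL (cj e L) (cj_mem_of_St he hL) (Ne.symm hne)

/-- an element of `Zc` from a central element of the diagonal -/
theorem mem_Zc_of_Dg (F : EFam 𝓒) {c : Set (Subgroup G)} (hc : c ∈ 𝓒) {L : Subgroup G} (hL : L ∈ c) {e : G}
    (he : e ∈ St c) (h : Co L e) {a : G} (ha : a ∈ Dg L e h) (ha2 : a * a = 1)
    (hac : ∀ x ∈ Dg L e h, a * x = x * a) : a ∈ Zc c := by
  obtain ⟨l, hl, rfl⟩ := mem_Dg.mp ha
  have h1 := mem_center_of_Dg h (F.qs c hc L hL) hl hac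
  have hLe := cj_mem_of_St he hL
  refine ⟨mul_mem (le_sSup hL hl) (le_sSup hLe (conj_mem_cj hl)), ha2, ?_⟩
  -- `l` and `e l e⁻¹` centralise all the members
  have h2 : ∀ A ∈ c, ∀ a ∈ A, l * a = a * l := (mem_Zc_of_mem' F hc hL hl h1)
  intro A hA a ha
  have h3 := h2 A hA a ha
  have hA' : cj e⁻¹ A ∈ c := cj_mem_of_St (inv_mem he) hA
  have h4 : e * l * e⁻¹ * a = a * (e * l * e⁻¹) := by
    have h5 : e⁻¹ * a * e ∈ cj e⁻¹ A := by
      rw [mem_cj, inv_inv]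
      have : e * (e⁻¹ * a * e) * e⁻¹ = a := by group
      rw [this]; exact ha
    have h6 := h2 _ hA' _ h5
    calc e * l * e⁻¹ * a = e * (l * (e⁻¹ * a * e)) * e⁻¹ := by group
      _ = e * ((e⁻¹ * a * e) * l) * e⁻¹ := by rw [h6]
      _ = _ := by group
  calc l * (e * l * e⁻¹) * a = l * (e * l * e⁻¹ * a) := by group
    _ = l * a * (e * l * e⁻¹) := by rw [h4]; group
    _ = _ := by rw [h3]; group
where
  mem_Zc_of_mem' (F : EFam 𝓒) {c : Set (Subgroup G)} (hc : c ∈ 𝓒) {L : Subgroup G} (hL : L ∈ c) {l : G} (hl : l ∈ L)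
      (h1 : ∀ x ∈ L, l * x = x * l) : ∀ A ∈ c, ∀ a ∈ A, l * a = a * l := by
    intro A hA a ha
    by_cases h : L = A
    · subst h; exact h1 a ha
    · exact F.comm c hc L hL A hA h l hl a ha

end

section
variable [Finite G] {K : Subgroup G}

omit [Finite G] in
theorem term_of (h : KH K) {c : Set (Subgroup G)} (hc : c ∈ Fm K) {A : Subgroup G} (hA : A ∈ c) : TermH A := by
  obtain ⟨B, hB, rfl⟩ := hc
  exact (h.conj hA.1).term

/-- **(E2)**: the swapping configuration -/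
theorem swap_struct (hev : EvQ G) (hbal : Bal G) (h : KH K) (F : EFam (Fm K)) {c d : Set (Subgroup G)}
    (hc : c ∈ Fm K) (hd : d ∈ Fm K) (hcd : c ≠ d) {e z : G} (he : e ∈ Zc d) (he1 : e ≠ 1) (heS : e ∈ St c)
    (hz : z ∈ Zc c) (hz1 : z ≠ 1) (hzS : z ∈ St d) {L : Subgroup G} (hL : L ∈ c) (hne : cj e L ≠ L) :
    ∃ M ∈ d, cj z M ≠ M ∧ ∀ (h1 : Co L e) (h2 : Co M z), Dg L e h1 = Dg M z h2 := by
  have he2 := Zc_sq he
  have hz2 := Zc_sq hz
  have hez : e * z = z * e := zz_comm F hd hc (Ne.symm hcd) he hz heS hzS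
  have hCo : Co L e := co_of F hc hL heS hne
  have hqL := F.qs c hc L hL
  have hLe := cj_mem_of_St heS hL
  have hzL : CompOf z L := (term_of h hc hL).of_comm hz2 hz1 (hz.2.2 L hL)
  obtain ⟨J, hJe, hJz, hJL, hJq, hJc, hJm⟩ := exists_J hzL he2 hez hne
  have hJp := qs_perfect hJq
  -- `J` is the diagonal
  have hJD : J = Dg L e hCo := by
    apply le_antisymm
    · exact perfect_le_Dg hCo he2 hJp hJL fun x hx => Subgroup.mem_centralizer_singleton_iff.mp (hJe hx)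
    · intro x hx
      obtain ⟨m, hm, rfl⟩ := mem_Dg.mp hx
      exact hJm m hm
  obtain ⟨FF, hFF, hJF⟩ := pump hev hbal (orderOf_two he2 he1) (orderOf_two hz2 hz1) hez hJc
  have hzz : ∀ X : Subgroup G, cj z (cj z X) = X := fun X => by rw [← cj_mul, hz2, cj_one]
  have hFF' : CompOf e (cj z FF) := by
    have h1 := hFF.conj z
    have e1 : z * e * z⁻¹ = e := by rw [← hez]; group
    rwa [e1] at h1
  have hqJ : qi J = qi L := by rw [hJD]; exact qi_Dg hCo hqL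
  have hqi : ∀ M ∈ d, qi M = qi L := by
    intro M hM
    obtain ⟨g, rfl⟩ := F.tr c hc d hd L hL M hM
    exact qi_cj g L
  by_cases hFd : FF ∈ d
  · -- order lemma
    have hqF := F.qs d hd FF hFd
    by_cases hFz : cj z FF = FF
    · -- `J = FF`
      exfalso
      rw [hFz, sup_idem] at hJF
      have hJFF : J = FF := order_lemma (qs_perfect hqF) hJF (by rw [hqJ, hqi FF hFd])
      obtain ⟨a, ha, ha2, ha1, hac⟩ := F.ec d hd FF hFd
      rw [← hJFF] at ha hac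
      have haJ := ha
      rw [hJD] at ha hac
      have h1 : a ∈ Zc c := mem_Zc_of_Dg F hc hL heS hCo ha ha2 hac
      have h2 : a ∈ Zc d := mem_Zc_of_mem (F.comm d hd) hFd (hJFF ▸ haJ) ha2 (by
        rw [← hJFF, hJD]; exact hac)
      exact ha1 (F.Zc_inter hc hd hcd h1 h2)
    · refine ⟨FF, hFd, hFz, fun h1 h2 => ?_⟩
      have hJ1 : J ≤ Dg FF z h2 := perfect_le_Dg h2 hz2 hJp hJF fun x hx =>
        Subgroup.mem_centralizer_singleton_iff.mp (hJz hx)
      rw [show Dg L e h1 = J from hJD.symm]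
      refine order_lemma (Dg_perfect h2 (qs_perfect hqF)) hJ1 ?_
      rw [qi_Dg h2 hqF, hqJ, hqi FF hFd]
  · -- `J` centralises the members of `d`
    exfalso
    have hFd' : cj z FF ∉ d := fun h1 => hFd (by
      have := cj_mem_of_St hzS h1
      rwa [hzz] at this)
    have hJd : ∀ M ∈ d, ∀ x ∈ J, ∀ m ∈ M, x * m = m * x := by
      intro M hM
      have hMc : CompOf e M := (term_of h hd hM).of_comm he2 he1 (he.2.2 M hM)
      have h1 : ∀ x ∈ FF, ∀ m ∈ M, x * m = m * x := by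
        rcases hFF.eq_or_comm hMc with h2 | h2
        · exact absurd (h2 ▸ hM) hFd
        · exact h2
      have h2 : ∀ x ∈ cj z FF, ∀ m ∈ M, x * m = m * x := by
        rcases hFF'.eq_or_comm hMc with h2 | h2
        · exact absurd (h2 ▸ hM) hFd'
        · exact h2
      have h3 : FF ⊔ cj z FF ≤ Subgroup.centralizer (M : Set G) := by
        refine sup_le ?_ ?_
        · intro x hx; exact Subgroup.mem_centralizer_iff.mpr fun b hb => (h1 x hx b hb).symm
        · intro x hx; exact Subgroup.mem_centralizer_iff.mpr fun b hb => (h2 x hx b hb).symm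
      intro x hx m hm
      exact (Subgroup.mem_centralizer_iff.mp (h3 (hJF hx)) m hm).symm
    obtain ⟨M0, hM0⟩ := F.exists_mem hd
    -- centralizers of `l` with `l l^e` an involution
    have hcen : ∀ l ∈ L, l * (e * l * e⁻¹) * (l * (e * l * e⁻¹)) = 1 → l * (e * l * e⁻¹) ≠ 1 → ∀ g ∈ L,
        l * g = g * l → g ∈ St d := by
      intro l hl h2 h1 g hg hlg
      refine F.cen hd (u := l * (e * l * e⁻¹)) ⟨h2, h1, M0, hM0, hJd M0 hM0 _ (hJm l hl)⟩ ?_
      have h3 := hCo g hg _ (conj_mem_cj hl)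
      calc l * (e * l * e⁻¹) * g = l * (g * (e * l * e⁻¹)) := by rw [h3]; group
        _ = g * (l * (e * l * e⁻¹)) := by rw [← mul_assoc, hlg]; group
    have hLd : L ≤ St d := by
      obtain ⟨j, hj, hj2, hj1⟩ := ZStar.exists_inv (hev J hJq)
      rw [hJD] at hj
      obtain ⟨l, hl, rfl⟩ := mem_Dg.mp hj
      let N : Subgroup L := Subgroup.closure {x : L | diag hCo x * diag hCo x = 1 ∧ diag hCo x ≠ 1}
      have hN : N.Normal := by
        refine ⟨fun n hn g => ?_⟩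
        have h0 : N.map (MulAut.conj g).toMonoidHom ≤ N := by
          rw [MonoidHom.map_closure, Subgroup.closure_le]
          rintro _ ⟨x, ⟨h1, h2⟩, rfl⟩
          apply Subgroup.subset_closure
          change diag hCo (g * x * g⁻¹) * diag hCo (g * x * g⁻¹) = 1 ∧ diag hCo (g * x * g⁻¹) ≠ 1
          rw [map_mul, map_mul, map_inv]
          refine ⟨?_, fun h3 => h2 ?_⟩
          · calc diag hCo g * diag hCo x * (diag hCo g)⁻¹ * (diag hCo g * diag hCo x * (diag hCo g)⁻¹)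
                = diag hCo g * (diag hCo x * diag hCo x) * (diag hCo g)⁻¹ := by group
              _ = 1 := by rw [h1]; group
          · calc diag hCo x = (diag hCo g)⁻¹ * (diag hCo g * diag hCo x * (diag hCo g)⁻¹) * diag hCo g := by group
              _ = 1 := by rw [h3]; group
        exact h0 ⟨n, hn, rfl⟩
      rcases Lib.ComponentSolvable.quasisimple_normal_cases hqL (N := N) hN with h1 | h1
      · have h2 : N.map L.subtype ≤ St d := by
          rw [MonoidHom.map_closure, Subgroup.closure_le]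
          rintro _ ⟨x, ⟨h3, h4⟩, rfl⟩
          exact hcen x x.2 h3 h4 x x.2 rfl
        intro x hx
        exact h2 ⟨⟨x, hx⟩, by rw [h1]; trivial, rfl⟩
      · have h2 : (⟨l, hl⟩ : L) ∈ N := Subgroup.subset_closure ⟨hj2, hj1⟩
        have h3 := Subgroup.mem_center_iff.mp (h1 h2)
        intro g hg
        exact hcen l hl hj2 hj1 g hg (congrArg Subtype.val (h3 ⟨g, hg⟩)).symm
    apply qs_not_comm hqL
    apply comm_of_sq_central (qs_perfect hqL)
    intro l hl y hy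
    have h1 : l⁻¹ * (e * l * e⁻¹) ∈ Zc d := by
      have h2 := Zc_norm (inv_mem (hLd hl)) he
      have e1 : l⁻¹ * (e * l * e⁻¹) = l⁻¹ * e * l⁻¹⁻¹ * e⁻¹ := by group
      rw [e1]
      exact mul_mem h2 (inv_mem he)
    have h2 := Zc_sq h1
    have h3 := hCo l⁻¹ (inv_mem hl) _ (conj_mem_cj hl)
    have h4 : l * l = e * (l * l) * e⁻¹ := by
      have h5 : l⁻¹ * (e * l * e⁻¹) * (l⁻¹ * (e * l * e⁻¹)) = (l * l)⁻¹ * (e * (l * l) * e⁻¹) := by
        calc l⁻¹ * (e * l * e⁻¹) * (l⁻¹ * (e * l * e⁻¹)) = l⁻¹ * ((e * l * e⁻¹) * l⁻¹) * (e * l * e⁻¹) := by group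
          _ = l⁻¹ * (l⁻¹ * (e * l * e⁻¹)) * (e * l * e⁻¹) := by rw [h3]
          _ = _ := by group
      rw [h5] at h2
      exact inv_mul_eq_one.mp h2
    have h6 : l * l ∈ cj e L := by
      rw [h4]; exact conj_mem_cj (mul_mem hl hl)
    exact (hCo y hy _ h6).symm

omit [Finite G] in
theorem three_of_not {Λ : Set (Subgroup G)} (h : ¬ AtMostTwo Λ) (A B : Subgroup G) : ∃ D ∈ Λ, D ≠ A ∧ D ≠ B := by
  by_contra hcon
  push Not at hcon
  apply h
  intro X hX Y hY Z hZ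
  have h1 := hcon X hX
  have h2 := hcon Y hY
  have h3 := hcon Z hZ
  by_cases a1 : X = A
  · by_cases a2 : Y = A
    · exact Or.inl (a1.trans a2.symm)
    · have b2 := h2 a2
      by_cases a3 : Z = A
      · exact Or.inr (Or.inl (a1.trans a3.symm))
      · exact Or.inr (Or.inr (b2.trans (h3 a3).symm))
  · have b1 := h1 a1
    by_cases a2 : Y = A
    · by_cases a3 : Z = A
      · exact Or.inr (Or.inr (a2.trans a3.symm))
      · exact Or.inr (Or.inl (b1.trans (h3 a3).symm))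
    · exact Or.inl (b1.trans (h2 a2).symm)

omit [Finite G] in
theorem atMostTwo_cjs {Λ : Set (Subgroup G)} (g : G) (h : AtMostTwo Λ) : AtMostTwo (cjs g Λ) := by
  rintro _ ⟨A, hA, rfl⟩ _ ⟨B, hB, rfl⟩ _ ⟨C, hC, rfl⟩
  rcases h A hA B hB C hC with h | h | h
  · left; rw [h]
  · right; left; rw [h]
  · right; right; rw [h]

/-- the data of the swapping configuration -/
structure SwC (c d : Set (Subgroup G)) (e z : G) (L M : Subgroup G) : Prop where
  he : e ∈ Zc d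
  he1 : e ≠ 1
  heS : e ∈ St c
  hz : z ∈ Zc c
  hz1 : z ≠ 1
  hzS : z ∈ St d
  hL : L ∈ c
  hM : M ∈ d
  sL : cj e L ≠ L
  sM : cj z M ≠ M
  eq : ∀ (h1 : Co L e) (h2 : Co M z), Dg L e h1 = Dg M z h2
  c2 : AtMostTwo c
  d2 : AtMostTwo d

theorem exists_SwC (hev : EvQ G) (hbal : Bal G) (h : KH K) (F : EFam (Fm K)) {c d : Set (Subgroup G)}
    (hc : c ∈ Fm K) (hd : d ∈ Fm K) (hcd : c ≠ d) {e z : G} (he : e ∈ Zc d) (he1 : e ≠ 1) (heS : e ∈ St c)
    (hz : z ∈ Zc c) (hz1 : z ≠ 1) (hzS : z ∈ St d) {L : Subgroup G} (hL : L ∈ c) (hne : cj e L ≠ L) :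
    ∃ M, SwC c d e z L M := by
  obtain ⟨M, hM, hzM, heq⟩ := swap_struct hev hbal h F hc hd hcd he he1 heS hz hz1 hzS hL hne
  have hCo : Co L e := co_of F hc hL heS hne
  have hCo' : Co M z := co_of F hd hM hzS hzM
  have h2 : AtMostTwo c ∨ AtMostTwo d := by
    by_contra hcon
    push Not at hcon
    obtain ⟨C, hC, hC1, hC2⟩ := three_of_not hcon.1 L (cj e L)
    obtain ⟨D, hD, hD1, hD2⟩ := three_of_not hcon.2 M (cj z M)
    have hLe := cj_mem_of_St heS hL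
    have hMz := cj_mem_of_St hzS hM
    -- an involution of the diagonal
    have hev2 : 2 ∣ Nat.card (Dg L e hCo) := by
      apply hev
      have hqL := F.qs c hc L hL
      have : Nontrivial (Dg L e hCo) := by
        rw [← not_subsingleton_iff_nontrivial]
        intro hs
        exact Dg_not_comm hCo hqL fun x hx y hy =>
          congrArg Subtype.val (Subsingleton.elim ((⟨x, hx⟩ : Dg L e hCo) * ⟨y, hy⟩) (⟨y, hy⟩ * ⟨x, hx⟩))
      exact SignalizersComponents.QuasisimpleQuotient.isQuasisimple_of_surjective (diag hCo).rangeRestrict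
        (diag hCo).rangeRestrict_surjective hqL
    obtain ⟨j, hj, hj2, hj1⟩ := ZStar.exists_inv hev2
    have hjM : j ∈ Dg M z hCo' := by rw [← heq hCo hCo']; exact hj
    refine F.not_both hc hd hcd (u := j) ⟨hj2, hj1, C, hC, ?_⟩ ⟨hj2, hj1, D, hD, ?_⟩
    · obtain ⟨l, hl, rfl⟩ := mem_Dg.mp hj
      intro a ha
      have h3 := F.comm c hc L hL C hC (Ne.symm hC1) l hl a ha
      have h4 := F.comm c hc _ hLe C hC (Ne.symm hC2) _ (conj_mem_cj hl) a ha
      calc l * (e * l * e⁻¹) * a = l * (e * l * e⁻¹ * a) := by group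
        _ = l * a * (e * l * e⁻¹) := by rw [h4]; group
        _ = _ := by rw [h3]; group
    · obtain ⟨l, hl, rfl⟩ := mem_Dg.mp hjM
      intro a ha
      have h3 := F.comm d hd M hM D hD (Ne.symm hD1) l hl a ha
      have h4 := F.comm d hd _ hMz D hD (Ne.symm hD2) _ (conj_mem_cj hl) a ha
      calc l * (z * l * z⁻¹) * a = l * (z * l * z⁻¹ * a) := by group
        _ = l * a * (z * l * z⁻¹) := by rw [h4]; group
        _ = _ := by rw [h3]; group
  have h3 : AtMostTwo c ∧ AtMostTwo d := by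
    rcases h2 with h2 | h2
    · obtain ⟨g, rfl⟩ := F.trc hc hd
      exact ⟨h2, atMostTwo_cjs g h2⟩
    · obtain ⟨g, rfl⟩ := F.trc hd hc
      exact ⟨atMostTwo_cjs g h2, h2⟩
  exact ⟨M, he, he1, heS, hz, hz1, hzS, hL, hM, hne, hzM, heq, h3.1, h3.2⟩

omit [Finite G] in
/-- the configuration is symmetric -/
theorem SwC.symm {c d : Set (Subgroup G)} {e z : G} {L M : Subgroup G} (S : SwC c d e z L M) : SwC d c z e M L :=
  ⟨S.hz, S.hz1, S.hzS, S.he, S.he1, S.heS, S.hM, S.hL, S.sM, S.sL, fun h1 h2 => (S.eq h2 h1).symm, S.d2, S.c2⟩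

section
variable {c d : Set (Subgroup G)} {e z : G} {L M : Subgroup G}

omit [Finite G] in
theorem SwC.coL (F : EFam (Fm K)) (hc : c ∈ Fm K) (S : SwC c d e z L M) : Co L e := co_of F hc S.hL S.heS S.sL

omit [Finite G] in
theorem SwC.coM (F : EFam (Fm K)) (hd : d ∈ Fm K) (S : SwC c d e z L M) : Co M z := co_of F hd S.hM S.hzS S.sM

/-- `Z_c ∩ H_d = {1, z}` -/
theorem SwC.eq_z (hev : EvQ G) (hbal : Bal G) (h : KH K) (F : EFam (Fm K)) (hc : c ∈ Fm K) (hd : d ∈ Fm K)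
    (hcd : c ≠ d) (S : SwC c d e z L M) {w : G} (hw : w ∈ Zc c) (hw1 : w ≠ 1) (hwS : w ∈ St d) : w = z := by
  -- every such element moves `M`
  have key : ∀ w ∈ Zc c, w ≠ 1 → w ∈ St d → cj w M ≠ M := by
    intro w hw hw1 hwS hcon
    obtain ⟨M', S'⟩ := exists_SwC hev hbal h F hc hd hcd S.he S.he1 S.heS hw hw1 hwS S.hL S.sL
    rcases S.d2 M S.hM M' S'.hM (cj z M) (cj_mem_of_St S.hzS S.hM) with h1 | h1 | h1
    · rw [← h1] at S'
      exact S'.sM hcon
    · exact S.sM h1.symm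
    · apply S'.sM
      rw [h1, ← cj_mul, Zc_comm' hw S.hz, cj_mul, hcon]
  by_contra hne
  refine key (w * z) (mul_mem hw S.hz) ?_ (mul_mem hwS S.hzS) ?_
  · intro h1
    apply hne
    rw [eq_inv_of_mul_eq_one_left h1, inv_of_sq (Zc_sq S.hz)]
  · have h1 := key w hw hw1 hwS
    rcases S.d2 M S.hM (cj w M) (cj_mem_of_St hwS S.hM) (cj z M) (cj_mem_of_St S.hzS S.hM) with h2 | h2 | h2
    · exact absurd h2.symm h1
    · exact absurd h2.symm S.sM
    · rw [cj_mul, ← h2, ← cj_mul, Zc_sq hw, cj_one]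

omit [Finite G] in
/-- trivial on the quotient by the centre -/
theorem comm_of_mod {M : Subgroup G} (hM : ⁅M, M⁆ = M) {u : G}
    (h : ∀ m ∈ M, ∀ x ∈ M, (m⁻¹ * (u * m * u⁻¹)) * x = x * (m⁻¹ * (u * m * u⁻¹)))
    (hn : ∀ m ∈ M, u * m * u⁻¹ ∈ M) : ∀ m ∈ M, u * m = m * u := by
  have key : M ≤ Subgroup.centralizer ({u} : Set G) := by
    conv_lhs => rw [← hM]
    rw [Subgroup.commutator_le]
    intro x hx y hy
    rw [Subgroup.mem_centralizer_singleton_iff]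
    have h1 : u * ⁅x, y⁆ * u⁻¹ = ⁅x, y⁆ := by
      set k := x⁻¹ * (u * x * u⁻¹) with hk
      set l := y⁻¹ * (u * y * u⁻¹) with hl
      have e1 : u * x * u⁻¹ = x * k := by rw [hk]; group
      have e2 : u * y * u⁻¹ = y * l := by rw [hl]; group
      have hkM : k ∈ M := mul_mem (inv_mem hx) (hn x hx)
      have hlM : l ∈ M := mul_mem (inv_mem hy) (hn y hy)
      have hkc : ∀ w ∈ M, k * w = w * k := h x hx
      have hlc : ∀ w ∈ M, l * w = w * l := h y hy
      have e3 : u * ⁅x, y⁆ * u⁻¹ = ⁅x * k, y * l⁆ := by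
        rw [← e1, ← e2, commutatorElement_def, commutatorElement_def]; group
      rw [e3, commutatorElement_def, commutatorElement_def]
      have h3 := hkc _ (mul_mem hy hlM)
      have h4 := hlc x⁻¹ (inv_mem hx)
      calc x * k * (y * l) * (x * k)⁻¹ * (y * l)⁻¹ = x * (k * (y * l)) * k⁻¹ * x⁻¹ * (y * l)⁻¹ := by group
        _ = x * (y * l * k) * k⁻¹ * x⁻¹ * (y * l)⁻¹ := by rw [h3]
        _ = x * y * (l * x⁻¹) * l⁻¹ * y⁻¹ := by group
        _ = x * y * (x⁻¹ * l) * l⁻¹ * y⁻¹ := by rw [h4]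
        _ = _ := by group
    calc ⁅x, y⁆ * u = (u * ⁅x, y⁆ * u⁻¹) * u := by rw [h1]
      _ = u * ⁅x, y⁆ := by group
  intro m hm
  exact (Subgroup.mem_centralizer_singleton_iff.mp (key hm)).symm

/-- `U_c ∩ H0_d = 0` -/
theorem SwC.no_H0 (hev : EvQ G) (hbal : Bal G) (h : KH K) (F : EFam (Fm K)) (hc : c ∈ Fm K) (hd : d ∈ Fm K)
    (hcd : c ≠ d) (S : SwC c d e z L M) {u : G} (hu : InU c u) (hud : u ∈ Nm d) : False := by
  -- `u` commutes with `e`
  obtain ⟨e', he', he1', hue⟩ := F.exists_fix hd hu.1 (Nm_le_St d hud)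
  have he'e : e' = e := S.symm.eq_z hev hbal h F hd hc (Ne.symm hcd) he' he1' (F.cen hc hu hue)
  rw [he'e] at hue
  -- `u` centralises `L` and `L^e`
  obtain ⟨hu2, hu1, A, hA, huA⟩ := id hu
  have huLe : (∀ a ∈ L, u * a = a * u) ∧ ∀ a ∈ cj e L, u * a = a * u := by
    have conj : ∀ B : Subgroup G, (∀ a ∈ B, u * a = a * u) → ∀ a ∈ cj e B, u * a = a * u := by
      intro B hB a ha
      rw [mem_cj] at ha
      have h1 := hB _ ha
      have h2 : u * e⁻¹ = e⁻¹ * u := by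
        calc u * e⁻¹ = e⁻¹ * (e * u) * e⁻¹ := by group
          _ = e⁻¹ * (u * e) * e⁻¹ := by rw [hue]
          _ = e⁻¹ * u := by group
      calc u * a = u * (e * (e⁻¹ * a * e) * e⁻¹) := by group
        _ = (u * e) * (e⁻¹ * a * e) * e⁻¹ := by group
        _ = e * (u * (e⁻¹ * a * e)) * e⁻¹ := by rw [hue]; group
        _ = e * ((e⁻¹ * a * e) * u) * e⁻¹ := by rw [h1]
        _ = a * (e * (u * e⁻¹)) := by group
        _ = a * (e * (e⁻¹ * u)) := by rw [h2]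
        _ = a * u := by group
    rcases S.c2 A hA L S.hL (cj e L) (cj_mem_of_St S.heS S.hL) with h1 | h1 | h1
    · subst h1; exact ⟨huA, conj A huA⟩
    · subst h1
      refine ⟨?_, huA⟩
      have h2 := conj _ huA
      rwa [← cj_mul, Zc_sq S.he, cj_one] at h2
    · exact absurd h1.symm S.sL
  have hCo := S.coL F hc
  have hCo' := S.coM F hd
  have hJ : ∀ x ∈ Dg L e hCo, u * x = x * u := by
    intro x hx
    obtain ⟨l, hl, rfl⟩ := mem_Dg.mp hx
    have h3 := huLe.1 l hl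
    have h4 := huLe.2 _ (conj_mem_cj hl)
    calc u * (l * (e * l * e⁻¹)) = (u * l) * (e * l * e⁻¹) := by group
      _ = l * (u * (e * l * e⁻¹)) := by rw [h3]; group
      _ = _ := by rw [h4]; group
  rw [S.eq hCo hCo'] at hJ
  have hMz := cj_mem_of_St S.hzS S.hM
  have huM := hud M S.hM
  have huMz := hud _ hMz
  have huM' : ∀ m ∈ M, u * m = m * u := by
    refine comm_of_mod (qs_perfect (F.qs d hd M S.hM)) ?_ fun m hm => conj_mem_of_cj huM hm
    intro m hm x hx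
    -- `m⁻¹ m^u ∈ M^z`
    have h1 := hJ _ (Dg_mem hCo' hm)
    have h2 : m⁻¹ * (u * m * u⁻¹) = (z * m * z⁻¹) * (u * (z * m * z⁻¹) * u⁻¹)⁻¹ := by
      calc m⁻¹ * (u * m * u⁻¹) = m⁻¹ * (u * (m * (z * m * z⁻¹))) * u⁻¹ * (u * (z * m * z⁻¹) * u⁻¹)⁻¹ := by group
        _ = m⁻¹ * (m * (z * m * z⁻¹) * u) * u⁻¹ * (u * (z * m * z⁻¹) * u⁻¹)⁻¹ := by rw [h1]
        _ = _ := by group
    have h3 : m⁻¹ * (u * m * u⁻¹) ∈ cj z M := by
      rw [h2]
      exact mul_mem (conj_mem_cj hm) (inv_mem (conj_mem_of_cj huMz (conj_mem_cj hm)))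
    exact (hCo' x hx _ h3).symm
  exact F.not_both hc hd hcd hu ⟨hu2, hu1, M, S.hM, huM'⟩

/-- a noncentral involution of `L` -/
theorem SwC.exists_nc (hev : EvQ G) (hbal : Bal G) (h : KH K) (F : EFam (Fm K)) (hc : c ∈ Fm K) (hd : d ∈ Fm K)
    (hcd : c ≠ d) (S : SwC c d e z L M) : ∃ l ∈ L, l * l = 1 ∧ ¬ ∀ a ∈ L, l * a = a * l := by
  obtain ⟨l, hl, hl2, hl1, hlz⟩ := F.rk c hc L S.hL z
  refine ⟨l, hl, hl2, fun hlc => ?_⟩
  have hlZ : l ∈ Zc c := mem_Zc_of_mem (F.comm c hc) S.hL hl hl2 hlc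
  have hCo := S.coL F hc
  have hCo' := S.coM F hd
  -- `l l^e = 1`
  have h1 : l * (e * l * e⁻¹) = 1 := by
    have hlc' : ∀ x ∈ Dg L e hCo, l * (e * l * e⁻¹) * x = x * (l * (e * l * e⁻¹)) := by
      intro x hx
      have h2 : l * (e * l * e⁻¹) ∈ Zc c := mul_mem hlZ (Zc_norm S.heS hlZ)
      have h3 : Dg L e hCo ≤ sSup c :=
        (Dg_le hCo).trans (sup_le (le_sSup S.hL) (le_sSup (cj_mem_of_St S.heS S.hL)))
      exact Zc_comm h2 (h3 hx)
    have hZ : l * (e * l * e⁻¹) ∈ Zc c := mul_mem hlZ (Zc_norm S.heS hlZ)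
    have hD := Dg_mem hCo hl
    refine F.Zc_inter hc hd hcd hZ ?_
    rw [S.eq hCo hCo'] at hD hlc'
    exact mem_Zc_of_Dg F hd S.hM S.hzS hCo' hD (Zc_sq hZ) hlc'
  have h2 : l * e = e * l := by
    have h3 : e * l * e⁻¹ = l := by
      rw [eq_inv_of_mul_eq_one_right h1, inv_of_sq hl2]
    calc l * e = (e * l * e⁻¹) * e := by rw [h3]
      _ = e * l := by group
  exact hlz (S.eq_z hev hbal h F hc hd hcd hlZ hl1 (F.cen hd (F.inU_of_Zc hd S.he S.he1) h2.symm))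

/-- from a swapping pair to a pair without swapping -/
theorem SwC.red (hev : EvQ G) (hbal : Bal G) (h : KH K) (F : EFam (Fm K)) (hc : c ∈ Fm K) (hd : d ∈ Fm K)
    (hcd : c ≠ d) (S : SwC c d e z L M) : ∃ d' ∈ Fm K, d' ≠ d ∧ ∃ u, InU d' u ∧ u ∈ Nm d := by
  obtain ⟨l, hl, hl2, hlc⟩ := S.exists_nc hev hbal h F hc hd hcd
  have hCo := S.coL F hc
  have hCo' := S.coM F hd
  have he2 := Zc_sq S.he
  have hei := inv_of_sq he2
  have hli := inv_of_sq hl2
  -- `l e l⁻¹ = e (l l^e)`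
  have hle : l * e * l⁻¹ = l * (e * l * e⁻¹) * e := by rw [hli]; group
  have hD := Dg_mem hCo hl
  have hDM : l * (e * l * e⁻¹) ∈ Nm d := by
    rw [S.eq hCo hCo'] at hD
    have h1 : Dg M z hCo' ≤ Nm d :=
      (Dg_le hCo').trans (sup_le (F.mem_le_Nm hd S.hM) (F.mem_le_Nm hd (cj_mem_of_St S.hzS S.hM)))
    exact h1 hD
  have hne1 : l * e * l⁻¹ ≠ 1 := by
    intro h1
    apply S.he1
    calc e = l⁻¹ * (l * e * l⁻¹) * l := by group
      _ = 1 := by rw [h1]; group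
  refine ⟨cjs l d, F.conj l d hd, ?_, l * e * l⁻¹, F.inU_of_Zc (F.conj l d hd) (conj_mem_Zc l S.he) hne1, ?_⟩
  · intro h1
    have h2 := conj_mem_Zc l S.he
    rw [h1, hle] at h2
    have h3 : l * (e * l * e⁻¹) ∈ Zc d := by
      have := mul_mem h2 (inv_mem S.he)
      rwa [mul_inv_cancel_right] at this
    apply hlc
    apply mem_center_of_Dg hCo (F.qs c hc L S.hL) hl
    intro x hx
    rw [S.eq hCo hCo'] at hx
    have h4 : Dg M z hCo' ≤ sSup d :=
      (Dg_le hCo').trans (sup_le (le_sSup S.hM) (le_sSup (cj_mem_of_St S.hzS S.hM)))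
    exact Zc_comm h3 (h4 hx)
  · rw [hle]
    exact mul_mem hDM (Zc_le_Nm d S.he)

end

/-- The frame of D3 (iii), even centre, with the results of (E2). -/
structure EFam2 (𝓒 : Set (Set (Subgroup G))) : Prop extends EFam 𝓒 where
  /-- no swapping for a pair with `U_c ∩ H0_d ≠ 0` -/
  nsw : ∀ c ∈ 𝓒, ∀ d ∈ 𝓒, c ≠ d → ∀ u, InU c u → u ∈ Nm d → ∀ z ∈ Zc c, z ∈ St d → z ∈ Nm d
  nsw' : ∀ c ∈ 𝓒, ∀ d ∈ 𝓒, c ≠ d → ∀ u, InU c u → u ∈ Nm d → ∀ e ∈ Zc d, e ∈ St c → e ∈ Nm c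
  /-- an adjacent pair gives such a pair -/
  red : ∀ c ∈ 𝓒, ∀ d ∈ 𝓒, c ≠ d → EvDefs.Ad c d → ∃ c' ∈ 𝓒, ∃ d' ∈ 𝓒, c' ≠ d' ∧ ∃ u, InU c' u ∧ u ∈ Nm d'

/-- **(E2)** -/
theorem efam2 (hev : EvQ G) (hbal : Bal G) (h : KH K) (F : EFam (Fm K)) : EFam2 (Fm K) where
  toEFam := F
  nsw := by
    intro c hc d hd hcd u hu hud z hz hzS
    by_contra hcon
    rw [mem_Nm] at hcon
    push Not at hcon
    obtain ⟨M, hM, hne⟩ := hcon
    have hz1 : z ≠ 1 := by
      rintro rfl; exact hne (cj_one M)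
    obtain ⟨e, he, he1, hze⟩ := F.exists_fix hd (Zc_sq hz) hzS
    have heS := F.cen hc (F.inU_of_Zc hc hz hz1) hze
    obtain ⟨L, S⟩ := exists_SwC hev hbal h F hd hc (Ne.symm hcd) hz hz1 hzS he he1 heS hM hne
    exact S.symm.no_H0 hev hbal h F hc hd hcd hu hud
  nsw' := by
    intro c hc d hd hcd u hu hud e he heS
    by_contra hcon
    rw [mem_Nm] at hcon
    push Not at hcon
    obtain ⟨L, hL, hne⟩ := hcon
    have he1 : e ≠ 1 := by
      rintro rfl; exact hne (cj_one L)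
    obtain ⟨z, hz, hz1, hez⟩ := F.exists_fix hc (Zc_sq he) heS
    have hzS := F.cen hd (F.inU_of_Zc hd he he1) hez
    obtain ⟨M, S⟩ := exists_SwC hev hbal h F hc hd hcd he he1 heS hz hz1 hzS hL hne
    exact S.no_H0 hev hbal h F hc hd hcd hu hud
  red := by
    intro c hc d hd hcd ⟨e, he, he1, heS⟩
    by_cases heN : e ∈ Nm c
    · exact ⟨d, hd, c, hc, Ne.symm hcd, e, F.inU_of_Zc hd he he1, heN⟩
    rw [mem_Nm] at heN
    push Not at heN
    obtain ⟨L, hL, hne⟩ := heN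
    obtain ⟨z, hz, hz1, hez⟩ := F.exists_fix hc (Zc_sq he) heS
    have hzS := F.cen hd (F.inU_of_Zc hd he he1) hez
    obtain ⟨M, S⟩ := exists_SwC hev hbal h F hc hd hcd he he1 heS hz hz1 hzS hL hne
    obtain ⟨d', hd', hne', u, hu, hud⟩ := S.red hev hbal h F hc hd hcd
    exact ⟨d', hd', d, hd, hne', u, hu, hud⟩

end

end Cfsg.Agent.OddHalf.D3.EvSwap
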