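import Cfsg.Agent.S0111
import Cfsg.Agent.S0112
import Cfsg.Agent.S0113
import Cfsg.Agent.OddHalf.D3.EvSwap

/-!
# ODD D3 (iii), even centre, `n = 2`: the case (sw) is dead (bb ODD 12105)

Two adjacent classes `c ≠ d` with two members; a 2-element `s` of a member `L` of `c` stabilising `d` normalises the
members of `d`.
-/

set_option autoImplicit false

namespace Cfsg.Agent.OddHalf.D3.EvSwTwo

open Cfsg Cfsg.Agent.OddHalf.D3.ThreeDefs Cfsg.Agent.OddHalf.D3.ThreeFam Cfsg.Agent.OddHalf.D3.ThreeMain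
open Cfsg.Agent.OddHalf.D3.Swap Cfsg.Agent.OddHalf.D3.TwoCfg Cfsg.Agent.OddHalf.D3.EvDefs
open Cfsg.Agent.OddHalf.D3.FamTerm Cfsg.Agent.OddHalf.D3.NormOne Cfsg.Agent.OddHalf.D3.EvDiag
open Cfsg.Agent.OddHalf.D3.EvSwap
open Cfsg.Agent.Schreier.Basic (Sch)
open scoped commutatorElement

universe u

variable {G : Type u} [Group G]

/-! ### Computations -/

/-- `g = f (s f s⁻¹)` maps `a` to `a (e (s e s⁻¹))`, `e = a (f a f⁻¹)` -/
theorem comp1 {s f a : G} (has : a * s = s * a) (ha2 : a * a = 1)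
    (hf : f * (s * (a * (f * a * f⁻¹)) * s⁻¹) = (s * (a * (f * a * f⁻¹)) * s⁻¹) * f) :
    (f * (s * f * s⁻¹)) * a * (f * (s * f * s⁻¹))⁻¹ =
      a * ((a * (f * a * f⁻¹)) * (s * (a * (f * a * f⁻¹)) * s⁻¹)) := by
  have h1 : s⁻¹ * a * s = a := by rw [mul_assoc, has]; group
  have h2 : s * a * s⁻¹ = a := by rw [← has]; group
  have h3 : a * (a * (f * a * f⁻¹)) = f * a * f⁻¹ := by rw [← mul_assoc, ha2, one_mul]
  set x := s * (a * (f * a * f⁻¹)) * s⁻¹ with hx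
  have h4 : s * (f * a * f⁻¹) * s⁻¹ = a * x := by
    calc s * (f * a * f⁻¹) * s⁻¹ = s * (a * (a * (f * a * f⁻¹))) * s⁻¹ := by rw [h3]
      _ = (s * a * s⁻¹) * (s * (a * (f * a * f⁻¹)) * s⁻¹) := by group
      _ = a * x := by rw [h2]
  calc (f * (s * f * s⁻¹)) * a * (f * (s * f * s⁻¹))⁻¹ = f * (s * (f * (s⁻¹ * a * s) * f⁻¹) * s⁻¹) * f⁻¹ := by group
    _ = f * (a * x) * f⁻¹ := by rw [h1, h4]
    _ = f * a * f⁻¹ * (f * x) * f⁻¹ := by group
    _ = f * a * f⁻¹ * x := by rw [hf]; group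
    _ = _ := by rw [← mul_assoc a, h3]

/-- the commutator of `r (s r s⁻¹)` and `s` -/
theorem comp2 {s r : G} (h : (s * r * s⁻¹) * (s * s * r * (s * s)⁻¹) = (s * s * r * (s * s)⁻¹) * (s * r * s⁻¹)) :
    (r * (s * r * s⁻¹)) * s * (r * (s * r * s⁻¹))⁻¹ * s⁻¹ = r * (s * s * r * (s * s)⁻¹)⁻¹ := by
  set y := s * r * s⁻¹ with hy
  set z := s * s * r * (s * s)⁻¹ with hz
  have hyz : s * y * s⁻¹ = z := by
    rw [hy, hz]; simp only [mul_inv_rev, mul_assoc]
  have h1 : s * (r * y)⁻¹ * s⁻¹ = z⁻¹ * y⁻¹ := by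
    calc s * (r * y)⁻¹ * s⁻¹ = (s * y * s⁻¹)⁻¹ * (s * r * s⁻¹)⁻¹ := by group
      _ = z⁻¹ * y⁻¹ := by rw [hyz]
  have h2 : y * z⁻¹ = z⁻¹ * y := by
    calc y * z⁻¹ = z⁻¹ * (z * y) * z⁻¹ := by group
      _ = z⁻¹ * (y * z) * z⁻¹ := by rw [h]
      _ = z⁻¹ * y := by group
  calc (r * y) * s * (r * y)⁻¹ * s⁻¹ = r * y * (s * (r * y)⁻¹ * s⁻¹) := by group
    _ = r * (y * z⁻¹) * y⁻¹ := by rw [h1]; group
    _ = _ := by rw [h2]; group

theorem isPGroup_zpowers' {x : G} (h : ∃ k : ℕ, x ^ 2 ^ k = 1) : IsPGroup 2 (Subgroup.zpowers x) := by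
  obtain ⟨k, hk⟩ := h
  rintro ⟨y, hy⟩
  obtain ⟨m, rfl⟩ := Subgroup.mem_zpowers_iff.mp hy
  refine ⟨k, Subtype.ext ?_⟩
  change (x ^ m) ^ 2 ^ k = 1
  rw [← zpow_natCast, ← zpow_mul, mul_comm, zpow_mul, zpow_natCast, hk, one_zpow]

theorem cj_inf (g : G) (A B : Subgroup G) : cj g (A ⊓ B) = cj g A ⊓ cj g B := by
  ext x
  simp only [mem_cj, Subgroup.mem_inf]

/-- **Z\*-theorem modulo a central involution** -/
theorem zst_mod [Finite G] {M : Subgroup G} (hq : IsQuasisimple M) {e a w : G} (he2 : e * e = 1)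
    (hec : ∀ x ∈ M, e * x = x * e) (ha2 : a * a = 1) (haM : cj a M = M) (hae : a * e = e * a)
    (hna : ∃ x ∈ M, a * x ≠ x * a) (hw : w ∈ M) (hw2 : w * w = 1) (hw1 : w ≠ 1) (hwe : w ≠ e) :
    ∃ f ∈ M, f * a * f⁻¹ ≠ a ∧ f * a * f⁻¹ ≠ a * e ∧
      ((a * (f * a * f⁻¹)) * (a * (f * a * f⁻¹)) = 1 ∨ (a * (f * a * f⁻¹)) * (a * (f * a * f⁻¹)) = e) := by
  have hai := inv_of_sq ha2
  have heC : e ∈ Subgroup.centralizer ({e} : Set G) := Subgroup.mem_centralizer_singleton_iff.mpr rfl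
  have haC : a ∈ Subgroup.centralizer ({e} : Set G) := Subgroup.mem_centralizer_singleton_iff.mpr hae
  have hMC : M ≤ Subgroup.centralizer ({e} : Set G) := fun x hx =>
    Subgroup.mem_centralizer_singleton_iff.mpr (hec x hx).symm
  set C := Subgroup.centralizer ({e} : Set G) with hC
  set e' : C := ⟨e, heC⟩ with he'
  have he'2 : e' * e' = 1 := Subtype.ext he2
  have hmemN : ∀ x : C, x ∈ Subgroup.zpowers e' ↔ (x : G) = 1 ∨ (x : G) = e := by
    intro x
    constructor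
    · intro hx
      rcases ZStar.mem_zpowers_sq he'2 hx with rfl | rfl
      · exact Or.inl rfl
      · exact Or.inr rfl
    · rintro (hx | hx)
      · have : x = 1 := Subtype.ext hx
        rw [this]; exact one_mem _
      · have : x = e' := Subtype.ext hx
        rw [this]; exact Subgroup.mem_zpowers e'
  have hN : (Subgroup.zpowers e').Normal := by
    refine ⟨fun n hn g => ?_⟩
    have h1 : g * n * g⁻¹ = n := by
      rcases ZStar.mem_zpowers_sq he'2 hn with rfl | rfl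
      · group
      · have h2 : g * e' = e' * g := Subtype.ext (Subgroup.mem_centralizer_singleton_iff.mp g.2)
        rw [h2]; group
    rw [h1]; exact hn
  let π : C →* C ⧸ Subgroup.zpowers e' := QuotientGroup.mk' _
  have hπ : ∀ x y : C, π x = π y ↔ ((y : G)⁻¹ * x = 1 ∨ (y : G)⁻¹ * x = e) := by
    intro x y
    have h1 : π x = π y ↔ y⁻¹ * x ∈ Subgroup.zpowers e' := by
      change (QuotientGroup.mk x : C ⧸ Subgroup.zpowers e') = QuotientGroup.mk y ↔ _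
      rw [eq_comm, QuotientGroup.eq]
    rw [h1, hmemN]
    rfl
  let φ : M →* C ⧸ Subgroup.zpowers e' := π.comp (Subgroup.inclusion hMC)
  have hφ : ∀ x : M, φ x = π ⟨x, hMC x.2⟩ := fun x => rfl
  have hφw : φ ⟨w, hw⟩ ≠ 1 := by
    intro h
    rw [hφ, ← map_one π, hπ] at h
    simp only [OneMemClass.coe_one, inv_one, one_mul] at h
    rcases h with h | h
    · exact hw1 h
    · exact hwe h
  have : Nontrivial φ.range := by
    refine ⟨⟨⟨φ ⟨w, hw⟩, ⟨_, rfl⟩⟩, 1, fun h => hφw (congrArg Subtype.val h)⟩⟩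
  have hqA : IsQuasisimple φ.range :=
    SignalizersComponents.QuasisimpleQuotient.isQuasisimple_of_surjective φ.rangeRestrict
      φ.rangeRestrict_surjective hq
  have hev : 2 ∣ Nat.card φ.range := by
    have h1 : orderOf (⟨φ ⟨w, hw⟩, ⟨_, rfl⟩⟩ : φ.range) = 2 := by
      refine orderOf_eq_prime ?_ (fun h => hφw (congrArg Subtype.val h))
      apply Subtype.ext
      change φ ⟨w, hw⟩ ^ 2 = 1
      rw [← map_pow]
      have : (⟨w, hw⟩ : M) ^ 2 = 1 := Subtype.ext (by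
        change w ^ 2 = 1
        rw [pow_two, hw2])
      rw [this, map_one]
    rw [← h1]
    exact orderOf_dvd_natCard _
  set u := π ⟨a, haC⟩ with hu
  have hu2 : u * u = 1 := by
    rw [hu, ← map_mul]
    have : (⟨a, haC⟩ : C) * ⟨a, haC⟩ = 1 := Subtype.ext ha2
    rw [this, map_one]
  have hui := inv_of_sq hu2
  have huA1 : ∀ x ∈ φ.range, u * x * u⁻¹ ∈ φ.range := by
    rintro _ ⟨⟨m, hm⟩, rfl⟩
    refine ⟨⟨a * m * a⁻¹, conj_mem_of_cj haM hm⟩, ?_⟩
    rw [hφ, hφ, hu, ← map_inv, ← map_mul, ← map_mul]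
    rfl
  have huA : cj u φ.range = φ.range := by
    ext x
    rw [mem_cj]
    constructor
    · intro h
      have := huA1 _ h
      have e1 : u * (u⁻¹ * x * u) * u⁻¹ = x := by group
      rwa [e1] at this
    · intro h
      have := huA1 _ h
      rwa [hui] at this ⊢
  obtain ⟨_, ⟨⟨f, hf⟩, rfl⟩, h1, h2⟩ := ZStar.zst hqA hev hu2 huA (by
    by_contra hcon
    push Not at hcon
    obtain ⟨x, hx, hax⟩ := hna
    refine hax (comm_of_mod (qs_perfect hq) (u := a) ?_ (fun m hm => conj_mem_of_cj haM hm) x hx)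
    intro m hm y hy
    have h1 := hcon (φ ⟨m, hm⟩) ⟨_, rfl⟩
    rw [hφ, hu, ← map_mul, ← map_mul, hπ] at h1
    have h2 : (m * a)⁻¹ * (a * m) = 1 ∨ (m * a)⁻¹ * (a * m) = e := h1
    have h3 : m⁻¹ * (a * m * a⁻¹) = a * ((m * a)⁻¹ * (a * m)) * a⁻¹ := by group
    rcases h2 with h2 | h2
    · rw [h3, h2]; group
    · have h4 : a * e * a⁻¹ = e := by rw [hae]; group
      rw [h3, h2, h4]
      exact hec y hy)
  have h3 : φ ⟨f, hf⟩ * u * (φ ⟨f, hf⟩)⁻¹ = π ⟨f * a * f⁻¹, mul_mem (mul_mem (hMC hf) haC) (inv_mem (hMC hf))⟩ := by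
    rw [hφ, hu, ← map_inv, ← map_mul, ← map_mul]
    rfl
  rw [h3] at h1 h2
  refine ⟨f, hf, fun h => h1 ?_, fun h => h1 ?_, ?_⟩
  · rw [hu, hπ]
    left
    change a⁻¹ * (f * a * f⁻¹) = 1
    rw [h]; group
  · rw [hu, hπ]
    right
    change a⁻¹ * (f * a * f⁻¹) = e
    rw [h]; group
  · rw [hu, ← map_mul, ← map_mul, hπ] at h2
    have h4 : ((f * a * f⁻¹) * a)⁻¹ * (a * (f * a * f⁻¹)) = 1 ∨
        ((f * a * f⁻¹) * a)⁻¹ * (a * (f * a * f⁻¹)) = e := h2
    have h5 : ((f * a * f⁻¹) * a)⁻¹ = a * (f * a * f⁻¹) := by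
      calc ((f * a * f⁻¹) * a)⁻¹ = a⁻¹ * (f * a⁻¹ * f⁻¹) := by group
        _ = _ := by rw [hai]
    rwa [h5] at h4

/-! ### Classes with two members -/

section two
variable {𝓒 : Set (Set (Subgroup G))}

theorem mem_Nm_of_cj (F : EFam 𝓒) {c : Set (Subgroup G)} (hc : c ∈ 𝓒) (c2 : AtMostTwo c) {A : Subgroup G} (hA : A ∈ c)
    {g : G} (hg : g ∈ St c) (h : cj g A = A) : g ∈ Nm c := by
  obtain ⟨B, hB, hBA⟩ := F.two c hc A
  intro C hC
  rcases two_cases c2 hA hB hBA hg with ⟨h1, h2⟩ | ⟨h1, h2⟩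
  · rcases c2 A hA B hB C hC with h | h | h
    · exact absurd h.symm hBA
    · rw [← h]; exact h1
    · rw [← h]; exact h2
  · exact absurd (h1.symm.trans h) hBA

theorem swap_eq (F : EFam 𝓒) {c : Set (Subgroup G)} (hc : c ∈ 𝓒) (c2 : AtMostTwo c) {A B : Subgroup G} (hA : A ∈ c)
    (hB : B ∈ c) (hBA : B ≠ A) {g : G} (hg : g ∈ St c) (hn : g ∉ Nm c) : cj g A = B ∧ cj g B = A := by
  rcases two_cases c2 hA hB hBA hg with ⟨h1, -⟩ | h
  · exact absurd (mem_Nm_of_cj F hc c2 hA hg h1) hn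
  · exact h

theorem mul_mem_Nm (F : EFam 𝓒) {c : Set (Subgroup G)} (hc : c ∈ 𝓒) (c2 : AtMostTwo c) {g h : G} (hg : g ∈ St c)
    (hgn : g ∉ Nm c) (hh : h ∈ St c) (hhn : h ∉ Nm c) : g * h ∈ Nm c := by
  obtain ⟨A, hA⟩ := F.exists_mem hc
  obtain ⟨B, hB, hBA⟩ := F.two c hc A
  refine mem_Nm_of_cj F hc c2 hA (mul_mem hg hh) ?_
  rw [cj_mul, (swap_eq F hc c2 hA hB hBA hh hhn).1, (swap_eq F hc c2 hA hB hBA hg hgn).2]

/-- `M ∩ H_c = C_M(a)` for `a ∈ Z_c#` normalising the members of `d` -/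
theorem mem_St_iff_comm (F : EFam 𝓒) {c d : Set (Subgroup G)} (hc : c ∈ 𝓒) (hd : d ∈ 𝓒) (hne : c ≠ d) {a : G}
    (ha : a ∈ Zc c) (ha1 : a ≠ 1) (haN : a ∈ Nm d) {M : Subgroup G} (hM : M ∈ d) {m : G} (hm : m ∈ M) :
    m ∈ St c ↔ a * m = m * a := by
  refine ⟨fun h => ?_, fun h => F.cen hc (F.inU_of_Zc hc ha ha1) h⟩
  have h1 : a * m * a⁻¹ * m⁻¹ ∈ M := mul_mem (conj_mem_of_cj (haN M hM) hm) (inv_mem hm)
  have h2 : a * m * a⁻¹ * m⁻¹ ∈ Zc c := by
    have e : a * m * a⁻¹ * m⁻¹ = a * (m * a⁻¹ * m⁻¹) := by group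
    rw [e]
    exact mul_mem ha (Zc_norm h (inv_mem ha))
  have h3 := F.Zc_inter_mem hd hc (Ne.symm hne) hM h1 h2
  calc a * m = (a * m * a⁻¹ * m⁻¹) * (m * a) := by group
    _ = m * a := by rw [h3, one_mul]

/-- two different classes with at most two members, not swapped by the central involutions of each other -/
structure Sit (𝓒 : Set (Set (Subgroup G))) (c d : Set (Subgroup G)) : Prop where
  hc : c ∈ 𝓒
  hd : d ∈ 𝓒
  ne : c ≠ d
  c2 : AtMostTwo c
  d2 : AtMostTwo d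
  ns : ∀ z ∈ Zc c, z ∈ St d → z ∈ Nm d
  ns' : ∀ z ∈ Zc d, z ∈ St c → z ∈ Nm c

variable {c d : Set (Subgroup G)}

theorem Sit.symm (S : Sit 𝓒 c d) : Sit 𝓒 d c := ⟨S.hd, S.hc, S.ne.symm, S.d2, S.c2, S.ns', S.ns⟩

/-- an involution of a member of `d` stabilising `c` normalises the members of `c` -/
theorem Sit.nrm [Finite G] (F : EFam 𝓒) (sch : ∀ c ∈ 𝓒, ∀ A ∈ c, Sch A) (S : Sit 𝓒 c d) {M : Subgroup G} (hM : M ∈ d)
    {e : G} (he : e ∈ M) (he2 : e * e = 1) (heS : e ∈ St c) : e ∈ Nm c := by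
  by_cases hez : ∀ x ∈ M, e * x = x * e
  · exact S.ns' e (mem_Zc_of_mem (F.comm d S.hd) hM he he2 hez) heS
  have he1 : e ≠ 1 := by
    rintro rfl
    exact hez fun x _ => by rw [one_mul, mul_one]
  push Not at hez
  intro A hA
  by_contra hne
  exact false_of_swap (H := St d) (F.qs d S.hd M hM) (sch d S.hd M hM) he he2 hez
    (fun P hP hPP => perfect_norm S.d2 hM hP hPP)
    (fun y hy2 hy1 hyM g hg => F.cen S.hd ⟨hy2, hy1, M, hM, hyM⟩ hg.symm)
    (fun g hg => F.cen S.hd (F.inU_of_mem S.hd hM he he2 he1) hg.symm)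
    (F.tr d S.hd c S.hc M hM A hA) (F.comm c S.hc A hA (cj e A) (cj_mem_of_St heS hA) (Ne.symm hne)) hne

/-- the configuration (sw) -/
structure Sw (𝓒 : Set (Set (Subgroup G))) (c d : Set (Subgroup G)) (L M : Subgroup G) (s a : G) : Prop
    extends Sit 𝓒 c d where
  hL : L ∈ c
  hM : M ∈ d
  hs : s ∈ L
  hsS : s ∈ St d
  hsM : cj s M ≠ M
  hs2 : ∃ k : ℕ, s ^ 2 ^ k = 1
  ha : a ∈ L
  ha2 : a * a = 1
  ha1 : a ≠ 1
  hac : ∀ x ∈ L, a * x = x * a
  haS : a ∈ St d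

namespace Sw

variable {L M : Subgroup G} {s a : G}

theorem aZ (F : EFam 𝓒) (S : Sw 𝓒 c d L M s a) : a ∈ Zc c := mem_Zc_of_mem (F.comm c S.hc) S.hL S.ha S.ha2 S.hac

theorem aN (F : EFam 𝓒) (S : Sw 𝓒 c d L M s a) : a ∈ Nm d := S.ns a (S.aZ F) S.haS

theorem hM' (S : Sw 𝓒 c d L M s a) : cj s M ∈ d := cj_mem_of_St S.hsS S.hM

theorem mm (F : EFam 𝓒) (S : Sw 𝓒 c d L M s a) {x y : G} (hx : x ∈ M) (hy : y ∈ M) :
    x * (s * y * s⁻¹) = (s * y * s⁻¹) * x :=
  F.comm d S.hd M S.hM _ S.hM' S.hsM.symm x hx _ (conj_mem_cj hy)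

theorem ssM (S : Sw 𝓒 c d L M s a) : cj (s * s) M = M := by
  rcases two_cases S.d2 S.hM S.hM' S.hsM S.hsS with ⟨h1, -⟩ | ⟨-, h1⟩
  · exact absurd h1 S.hsM
  · rw [cj_mul]; exact h1

theorem ssN (F : EFam 𝓒) (S : Sw 𝓒 c d L M s a) : s * s ∈ Nm d :=
  mem_Nm_of_cj F S.hd S.d2 S.hM (mul_mem S.hsS S.hsS) S.ssM

theorem ss_ne [Finite G] (F : EFam 𝓒) (sch : ∀ c ∈ 𝓒, ∀ A ∈ c, Sch A) (S : Sw 𝓒 c d L M s a) : s * s ≠ 1 := fun h =>
  S.hsM (S.toSit.symm.nrm F sch S.hL S.hs h S.hsS M S.hM)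

theorem ss2 (S : Sw 𝓒 c d L M s a) : ∃ k : ℕ, (s * s) ^ 2 ^ k = 1 := by
  obtain ⟨k, hk⟩ := S.hs2
  exact ⟨k, by rw [(Commute.refl s).mul_pow, hk, one_mul]⟩

theorem cen_ss [Finite G] (F : EFam 𝓒) (sch : ∀ c ∈ 𝓒, ∀ A ∈ c, Sch A) (S : Sw 𝓒 c d L M s a) {g : G}
    (h : (s * s) * g = g * (s * s)) : g ∈ St c := by
  obtain ⟨n, hn2, hn1⟩ := exists_pow_inv (isPGroup_zpowers' S.ss2) (Subgroup.mem_zpowers (s * s)) (S.ss_ne F sch)
  refine F.cen S.hc (F.inU_of_mem S.hc S.hL (pow_mem (mul_mem S.hs S.hs) n) hn2 hn1) ?_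
  exact (Commute.pow_left h n)

theorem memY (F : EFam 𝓒) (S : Sw 𝓒 c d L M s a) {m : G} (hm : m ∈ M) : m ∈ St c ↔ a * m = m * a :=
  mem_St_iff_comm F S.hc S.hd S.ne (S.aZ F) S.ha1 (S.aN F) S.hM hm

/-- (1) -/
theorem mem_of_N0 [Finite G] (F : EFam 𝓒) (sch : ∀ c ∈ 𝓒, ∀ A ∈ c, Sch A) (S : Sw 𝓒 c d L M s a) {r : G} (hr : r ∈ M)
    (h : r * (s * r * s⁻¹) ∈ Nm c) : r ∈ St c := by
  have hz : (s * s) * r * (s * s)⁻¹ ∈ M := conj_mem_of_cj S.ssM hr
  set al := s * s with hal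
  have halL : al ∈ L := mul_mem S.hs S.hs
  have halN : al ∈ Nm d := S.ssN F
  have hoL : r * (al * r * al⁻¹)⁻¹ ∈ L := by
    rw [hal, ← comp2 (S.mm F hz hr).symm]
    exact mul_mem (conj_mem_of_cj (h L S.hL) S.hs) (inv_mem S.hs)
  have hoM : r * (al * r * al⁻¹)⁻¹ ∈ M := mul_mem hr (inv_mem hz)
  have hzN : ∀ w ∈ Subgroup.zpowers al, cj w (L ⊓ M) = L ⊓ M := by
    intro w hw
    have h1 : w ∈ L := (Subgroup.zpowers_le.mpr halL) hw
    have h2 : w ∈ Nm d := (Subgroup.zpowers_le.mpr halN) hw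
    rw [cj_inf, cj_eq_of_mem h1, h2 M S.hM]
  have hT2 : IsPGroup 2 (Subgroup.zpowers al) := isPGroup_zpowers' S.ss2
  obtain ⟨T, hTK, hT, hWT, hTc⟩ := exists_syl (K := mulSub (L ⊓ M) (Subgroup.zpowers al) hzN) hT2 le_mulSub_right
  have hTle : T ≤ Subgroup.zpowers al := by
    intro t ht
    obtain ⟨o, ho, w, hw, rfl⟩ := hTK ht
    have h1 : o ∈ T := by
      have : o = (o * w) * w⁻¹ := by group
      rw [this]
      exact mul_mem ht (inv_mem (hWT hw))
    have h2 := F.inter_two S.hc S.hd S.ne S.hL S.hM hT (Subgroup.mem_inf.mp ho).1 (Subgroup.mem_inf.mp ho).2 h1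
    rw [h2, one_mul]
    exact hw
  have e1 : r * al * r⁻¹ = (r * (al * r * al⁻¹)⁻¹) * al := by group
  have hRK : Subgroup.zpowers (r * al * r⁻¹) ≤ mulSub (L ⊓ M) (Subgroup.zpowers al) hzN := by
    rw [Subgroup.zpowers_le, e1]
    exact ⟨_, Subgroup.mem_inf.mpr ⟨hoL, hoM⟩, al, Subgroup.mem_zpowers al, rfl⟩
  have hR2 : IsPGroup 2 (Subgroup.zpowers (r * al * r⁻¹)) := by
    obtain ⟨k, hk⟩ := S.ss2
    refine isPGroup_zpowers' ⟨k, ?_⟩
    rw [conj_pow, ← hal] at *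
    rw [hk]; group
  obtain ⟨k, hk, hkT⟩ := hTc _ hRK hR2
  have hkL : k ∈ L := by
    obtain ⟨o, ho, w, hw, rfl⟩ := hk
    exact mul_mem (Subgroup.mem_inf.mp ho).1 ((Subgroup.zpowers_le.mpr halL) hw)
  have hx : k * (r * al * r⁻¹) * k⁻¹ ∈ Subgroup.zpowers al := hTle (hkT (conj_mem_cj (Subgroup.mem_zpowers _)))
  have hxO : k * (r * al * r⁻¹) * k⁻¹ * al⁻¹ ∈ L ⊓ M := by
    obtain ⟨o, ho, w, hw, rfl⟩ := hk
    have hcw : w * al = al * w := by
      obtain ⟨m, rfl⟩ := Subgroup.mem_zpowers_iff.mp hw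
      exact ((Commute.refl al).zpow_left m)
    have h1 := conj_mem_of_cj (hzN w hw) (Subgroup.mem_inf.mpr ⟨hoL, hoM⟩)
    have h2 := conj_mem_of_cj (hzN al (Subgroup.mem_zpowers al)) (inv_mem ho)
    have h3 : w * al * w⁻¹ = al := by rw [hcw]; group
    have e2 : o * w * (r * al * r⁻¹) * (o * w)⁻¹ * al⁻¹ =
        o * (w * (r * (al * r * al⁻¹)⁻¹) * w⁻¹) * (al * o⁻¹ * al⁻¹) := by
      calc o * w * (r * al * r⁻¹) * (o * w)⁻¹ * al⁻¹
          = o * (w * (r * (al * r * al⁻¹)⁻¹) * w⁻¹) * ((w * al * w⁻¹) * o⁻¹ * al⁻¹) := by rw [e1]; group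
        _ = _ := by rw [h3]
    rw [e2]
    exact mul_mem (mul_mem ho h1) h2
  have hx1 : k * (r * al * r⁻¹) * k⁻¹ * al⁻¹ = 1 :=
    F.inter_two S.hc S.hd S.ne S.hL S.hM hT2 (Subgroup.mem_inf.mp hxO).1 (Subgroup.mem_inf.mp hxO).2
      (mul_mem hx (inv_mem (Subgroup.mem_zpowers al)))
  have hx2 : al * (k * r) = (k * r) * al := by
    have h1 : k * (r * al * r⁻¹) * k⁻¹ = al := mul_inv_eq_one.mp hx1
    calc al * (k * r) = (k * (r * al * r⁻¹) * k⁻¹) * (k * r) := by rw [h1]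
      _ = (k * r) * al := by group
  have h1 := S.cen_ss F sch hx2
  have : r = k⁻¹ * (k * r) := by group
  rw [this]
  exact mul_mem (inv_mem (F.mem_le_St S.hc S.hL hkL)) h1

/-- (1'), `|N* : Y| ≤ 2` -/
theorem diff [Finite G] (F : EFam 𝓒) (sch : ∀ c ∈ 𝓒, ∀ A ∈ c, Sch A) (S : Sw 𝓒 c d L M s a) {r r' : G} (hr : r ∈ M)
    (hr' : r' ∈ M) (h : r * (s * r * s⁻¹) ∈ St c) (h' : r' * (s * r' * s⁻¹) ∈ St c) (hn : r ∉ St c) (hn' : r' ∉ St c) :
    r⁻¹ * r' ∈ St c := by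
  have h1 : r * (s * r * s⁻¹) ∉ Nm c := fun h2 => hn (S.mem_of_N0 F sch hr h2)
  have h1' : r' * (s * r' * s⁻¹) ∉ Nm c := fun h2 => hn' (S.mem_of_N0 F sch hr' h2)
  have h2 : (r * (s * r * s⁻¹))⁻¹ ∉ Nm c := fun h3 => h1 (by
    have := inv_mem h3
    rwa [inv_inv] at this)
  have h3 := mul_mem_Nm F S.hc S.c2 (inv_mem h) h2 h' h1'
  refine S.mem_of_N0 F sch (mul_mem (inv_mem hr) hr') ?_
  have h4 := S.mm F (mul_mem (inv_mem hr) hr') (inv_mem hr)
  have e : r⁻¹ * r' * (s * (r⁻¹ * r') * s⁻¹) = (r * (s * r * s⁻¹))⁻¹ * (r' * (s * r' * s⁻¹)) := by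
    calc r⁻¹ * r' * (s * (r⁻¹ * r') * s⁻¹) = (r⁻¹ * r' * (s * r⁻¹ * s⁻¹)) * (s * r' * s⁻¹) := by group
      _ = (s * r⁻¹ * s⁻¹) * (r⁻¹ * r') * (s * r' * s⁻¹) := by rw [h4]
      _ = _ := by group
  rw [e]
  exact h3

/-- the output of (2), `e = a (f a f⁻¹)` -/
structure Out2 (c : Set (Subgroup G)) (M : Subgroup G) (s a f : G) : Prop where
  eM : a * (f * a * f⁻¹) ∈ M
  e2 : (a * (f * a * f⁻¹)) * (a * (f * a * f⁻¹)) = 1
  e1 : a * (f * a * f⁻¹) ≠ 1
  ae : a * (a * (f * a * f⁻¹)) = (a * (f * a * f⁻¹)) * a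
  eS : a * (f * a * f⁻¹) ∈ St c
  gS : f * (s * f * s⁻¹) ∈ St c
  bZ : (a * (f * a * f⁻¹)) * (s * (a * (f * a * f⁻¹)) * s⁻¹) ∈ Zc c
  fn : f ∉ St c

/-- `a (f a f⁻¹) ∈ M` -/
theorem eM (F : EFam 𝓒) (S : Sw 𝓒 c d L M s a) {f : G} (hf : f ∈ M) : a * (f * a * f⁻¹) ∈ M := by
  have h1 := mul_mem (conj_mem_of_cj (S.aN F M S.hM) hf) (inv_mem hf)
  rw [inv_of_sq S.ha2] at h1
  have e : a * (f * a * f⁻¹) = a * f * a * f⁻¹ := by group
  rw [e]; exact h1

theorem conj_sq {f a : G} (h : a * a = 1) : (f * a * f⁻¹) * (f * a * f⁻¹) = 1 := by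
  calc (f * a * f⁻¹) * (f * a * f⁻¹) = f * (a * a) * f⁻¹ := by group
    _ = 1 := by rw [h]; group

theorem conj_ne {f a : G} (h : a ≠ 1) : f * a * f⁻¹ ≠ 1 := by
  intro h1
  apply h
  calc a = f⁻¹ * (f * a * f⁻¹) * f := by group
    _ = 1 := by rw [h1]; group

/-- the conjugate `a ↦ a (e (s e s⁻¹))` by `f (s f s⁻¹)`, in general -/
theorem comp (F : EFam 𝓒) (S : Sw 𝓒 c d L M s a) {f : G} (hf : f ∈ M) :
    (f * (s * f * s⁻¹)) * a * (f * (s * f * s⁻¹))⁻¹ =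
      a * ((a * (f * a * f⁻¹)) * (s * (a * (f * a * f⁻¹)) * s⁻¹)) :=
  comp1 (S.hac s S.hs) S.ha2 (S.mm F hf (S.eM F hf))

/-- (2) -/
theorem out2 [Finite G] (F : EFam 𝓒) (sch : ∀ c ∈ 𝓒, ∀ A ∈ c, Sch A) (S : Sw 𝓒 c d L M s a) {f : G} (hf : f ∈ M)
    (hab : a * (f * a * f⁻¹) = (f * a * f⁻¹) * a) (hne : f * a * f⁻¹ ≠ a) : Out2 c M s a f := by
  have hb2 : (f * a * f⁻¹) * (f * a * f⁻¹) = 1 := conj_sq S.ha2
  have hcomp := S.comp F hf
  have heM := S.eM F hf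
  set b := f * a * f⁻¹ with hb
  have he2 : (a * b) * (a * b) = 1 := by
    calc (a * b) * (a * b) = a * (b * a) * b := by group
      _ = (a * a) * (b * b) := by rw [← hab]; group
      _ = 1 := by rw [S.ha2, hb2, one_mul]
  have he1 : a * b ≠ 1 := by
    intro h
    apply hne
    have h1 := eq_inv_of_mul_eq_one_right h
    rw [h1, inv_of_sq S.ha2]
  have hae : a * (a * b) = (a * b) * a := by rw [mul_assoc, ← hab]
  have heS : a * b ∈ St c := F.cen S.hc (F.inU_of_Zc S.hc (S.aZ F) S.ha1) hae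
  have heN := S.toSit.nrm F sch S.hM heM he2 heS
  have hbL : (a * b) * (s * (a * b) * s⁻¹) ∈ L := by
    have h1 := mul_mem (conj_mem_of_cj (heN L S.hL) S.hs) (inv_mem S.hs)
    have e : (a * b) * s * (a * b)⁻¹ * s⁻¹ = (a * b) * (s * (a * b) * s⁻¹) := by
      rw [inv_of_sq he2]; group
    rwa [e] at h1
  have hL := mul_mem S.ha hbL
  set g := f * (s * f * s⁻¹) with hg
  have hgZ : g * a * g⁻¹ ∈ Zc (cjs g c) := conj_mem_Zc g (S.aZ F)
  have hg1 : g * a * g⁻¹ ≠ 1 := conj_ne S.ha1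
  have hgS : g ∈ St c := by
    have h1 : InU c (g * a * g⁻¹) := by
      have := F.inU_of_mem S.hc S.hL hL
      rw [← hcomp] at this
      exact this (conj_sq S.ha2) hg1
    exact (F.uniq c S.hc _ (F.conj g c S.hc) _ h1 (F.inU_of_Zc (F.conj g c S.hc) hgZ hg1)).symm
  have hbZ : (a * b) * (s * (a * b) * s⁻¹) ∈ Zc c := by
    have h1 := Zc_norm hgS (S.aZ F)
    rw [hcomp] at h1
    have h2 := mul_mem (inv_mem (S.aZ F)) h1
    rwa [inv_mul_cancel_left] at h2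
  refine ⟨heM, he2, he1, hae, heS, hgS, hbZ, fun hfS => hne ?_⟩
  have h1 := (S.memY F hf).mp hfS
  rw [hb, ← h1]; group

/-- the conjugate `b` is unique -/
theorem uniq_b [Finite G] (F : EFam 𝓒) (sch : ∀ c ∈ 𝓒, ∀ A ∈ c, Sch A) (S : Sw 𝓒 c d L M s a) {f f' : G} (hf : f ∈ M)
    (hf' : f' ∈ M) (h : Out2 c M s a f) (h' : Out2 c M s a f') : f' * a * f'⁻¹ = f * a * f⁻¹ := by
  have h1 := S.diff F sch hf hf' h.gS h'.gS h.fn h'.fn
  have h2 := (S.memY F (mul_mem (inv_mem hf) hf')).mp h1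
  have h3 : (f⁻¹ * f') * a * (f⁻¹ * f')⁻¹ = a := by rw [← h2]; group
  calc f' * a * f'⁻¹ = f * ((f⁻¹ * f') * a * (f⁻¹ * f')⁻¹) * f⁻¹ := by group
    _ = _ := by rw [h3]

/-- (3): `e` is central in `M` -/
theorem e_central [Finite G] (F : EFam 𝓒) (sch : ∀ c ∈ 𝓒, ∀ A ∈ c, Sch A) (S : Sw 𝓒 c d L M s a) {f : G} (hf : f ∈ M)
    (hab : a * (f * a * f⁻¹) = (f * a * f⁻¹) * a) (O : Out2 c M s a f) :
    ∀ x ∈ M, (a * (f * a * f⁻¹)) * x = x * (a * (f * a * f⁻¹)) := by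
  by_contra hcon
  -- `f` commutes with `e`
  have hff : f * f ∈ St c := by
    have h1 : f⁻¹ * (s * f⁻¹ * s⁻¹) ∈ St c := by
      have h2 := S.mm F (inv_mem hf) (inv_mem hf)
      have e : (f * (s * f * s⁻¹))⁻¹ = (s * f⁻¹ * s⁻¹) * f⁻¹ := by group
      rw [h2, ← e]
      exact inv_mem O.gS
    have h3 : f⁻¹ ∉ St c := fun h => O.fn (by
      have := inv_mem h
      rwa [inv_inv] at this)
    have h4 := S.diff F sch (inv_mem hf) hf h1 O.gS h3 O.fn
    rwa [inv_inv] at h4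
  have hfa := (S.memY F (mul_mem hf hf)).mp hff
  obtain ⟨heM, he2, he1, hae, heS, hgS, hbZ, hfn⟩ := O
  have hfb : f * (f * a * f⁻¹) * f⁻¹ = a := by
    calc f * (f * a * f⁻¹) * f⁻¹ = (f * f) * a * (f * f)⁻¹ := by group
      _ = a := by rw [← hfa]; group
  have hfe : f * (a * (f * a * f⁻¹)) = (a * (f * a * f⁻¹)) * f := by
    calc f * (a * (f * a * f⁻¹)) = (f * a * f⁻¹) * (f * (f * a * f⁻¹) * f⁻¹) * f := by group
      _ = (f * a * f⁻¹) * a * f := by rw [hfb]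
      _ = _ := by rw [← hab]
  set e := a * (f * a * f⁻¹) with he
  have hS' : s * e * s⁻¹ ∈ cj s M := conj_mem_cj heM
  by_cases hb1 : e * (s * e * s⁻¹) = 1
  · -- `e ∈ M ∩ M'`
    have h1 : s * e * s⁻¹ = e := by
      rw [eq_inv_of_mul_eq_one_right hb1, inv_of_sq he2]
    apply hcon
    intro x hx
    have h2 := S.mm F hx heM
    rw [h1] at h2
    exact h2.symm
  · have hbS : e * (s * e * s⁻¹) ∈ St d := mul_mem (F.mem_le_St S.hd S.hM heM) (F.mem_le_St S.hd S.hM' hS')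
    have hbN := S.ns _ hbZ hbS
    refine hfn ((mem_St_iff_comm F S.hc S.hd S.ne hbZ hb1 hbN S.hM hf).mpr ?_)
    have h2 := S.mm F hf heM
    calc e * (s * e * s⁻¹) * f = e * (f * (s * e * s⁻¹)) := by rw [h2]; group
      _ = e * f * (s * e * s⁻¹) := by group
      _ = f * (e * (s * e * s⁻¹)) := by rw [← hfe]; group

theorem e_s [Finite G] (F : EFam 𝓒) (S : Sw 𝓒 c d L M s a) {f : G} (O : Out2 c M s a f)
    (hc : ∀ x ∈ M, (a * (f * a * f⁻¹)) * x = x * (a * (f * a * f⁻¹))) :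
    s * (a * (f * a * f⁻¹)) * s⁻¹ = a * (f * a * f⁻¹) := by
  have hZ : a * (f * a * f⁻¹) ∈ Zc d := mem_Zc_of_mem (F.comm d S.hd) S.hM O.eM O.e2 hc
  have h1 := F.Zc_inter S.hc S.hd S.ne O.bZ (mul_mem hZ (Zc_norm S.hsS hZ))
  rw [eq_inv_of_mul_eq_one_right h1, inv_of_sq O.e2]

/-- (3): `f` exists -/
theorem exists_f [Finite G] (F : EFam 𝓒) (hev : ∀ c ∈ 𝓒, ∀ A ∈ c, 2 ∣ Nat.card A) (S : Sw 𝓒 c d L M s a) :
    ∃ f ∈ M, a * (f * a * f⁻¹) = (f * a * f⁻¹) * a ∧ f * a * f⁻¹ ≠ a := by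
  obtain ⟨f, hf, h1, h2⟩ := ZStar.zst (F.qs d S.hd M S.hM) (hev d S.hd M S.hM) S.ha2 (S.aN F M S.hM) (by
    by_contra hcon
    push Not at hcon
    exact F.not_both S.hc S.hd S.ne (F.inU_of_Zc S.hc (S.aZ F) S.ha1) ⟨S.ha2, S.ha1, M, S.hM, hcon⟩)
  exact ⟨f, hf, h2, h1⟩

end Sw

end two

/-! ### The configuration (sw) for a terminal component -/

section
variable [Finite G] {K : Subgroup G} {c d : Set (Subgroup G)} {L M : Subgroup G} {s a : G}

/-- the output of (4) -/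
structure Out4 (c : Set (Subgroup G)) (L M : Subgroup G) (s a e ep : G) : Prop where
  eM : e ∈ M
  e2 : e * e = 1
  e1 : e ≠ 1
  ec : ∀ x ∈ M, e * x = x * e
  es : s * e * s⁻¹ = e
  pM : ep ∈ M
  p2 : ep * ep = e
  pn : ep ∉ St c
  jS : ep * (s * ep * s⁻¹) ∈ St c
  jN : ep * (s * ep * s⁻¹) ∉ Nm c
  ji : ∀ l ∈ L, (∀ x ∈ L, l * x = x * l) → (∃ k : ℕ, l ^ 2 ^ k = 1) →
    (ep * (s * ep * s⁻¹)) * l * (ep * (s * ep * s⁻¹))⁻¹ = l⁻¹
  uq : ∀ z ∈ L, z * z = 1 → z ≠ 1 → (∀ x ∈ L, z * x = x * z) → z = a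

theorem out4 (hev : EvQ G) (hbal : Bal G) (h : KH K) (F : EFam (Fm K)) (sch : ∀ c ∈ Fm K, ∀ A ∈ c, Sch A)
    (S : Sw (Fm K) c d L M s a) : ∃ e ep : G, Out4 c L M s a e ep := by
  obtain ⟨f, hf, hab, hne⟩ := S.exists_f F fun c hc A hA => hev A (F.qs c hc A hA)
  have O := S.out2 F sch hf hab hne
  have hec := S.e_central F sch hf hab O
  have hes := S.e_s F O hec
  have hb : f * a * f⁻¹ = a * (a * (f * a * f⁻¹)) := by rw [← mul_assoc, S.ha2, one_mul]
  have hae := O.ae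
  have he2 := O.e2
  have he1 := O.e1
  have heM := O.eM
  have hbu : ∀ f' ∈ M, Sw.Out2 c M s a f' → f' * a * f'⁻¹ = a * (a * (f * a * f⁻¹)) := fun f' hf' O' => by
    rw [S.uniq_b F sch hf hf' O O', ← hb]
  generalize a * (f * a * f⁻¹) = e at hec hes hb hae he2 he1 heM hbu
  clear O hab hne hb hf
  clear f
  obtain ⟨w, hw, hw2, hw1, hwe⟩ := F.rk d S.hd M S.hM e
  obtain ⟨f, hf, h1, h2, h3⟩ := zst_mod (F.qs d S.hd M S.hM) he2 hec S.ha2 (S.aN F M S.hM) hae (by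
    by_contra hcon
    push Not at hcon
    exact F.not_both S.hc S.hd S.ne (F.inU_of_Zc S.hc (S.aZ F) S.ha1) ⟨S.ha2, S.ha1, M, S.hM, hcon⟩) hw hw2 hw1 hwe
  have hb2 : (f * a * f⁻¹) * (f * a * f⁻¹) = 1 := Sw.conj_sq S.ha2
  have hpM := S.eM F hf
  have hcomp := S.comp F hf
  have hp2 : (a * (f * a * f⁻¹)) * (a * (f * a * f⁻¹)) = e := by
    rcases h3 with h3 | h3
    · exfalso
      refine h2 (hbu f hf (S.out2 F sch hf ?_ h1))
      have h4 := inv_of_sq h3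
      rw [mul_inv_rev, inv_of_sq hb2, inv_of_sq S.ha2] at h4
      exact h4.symm
    · exact h3
  set ep := a * (f * a * f⁻¹) with hep
  have hpi : ep⁻¹ = (f * a * f⁻¹) * a := by
    rw [hep, mul_inv_rev, inv_of_sq hb2, inv_of_sq S.ha2]
  have hpa : ep * a * ep⁻¹ = a * e := by
    calc ep * a * ep⁻¹ = (a * (f * a * f⁻¹)) * a * ((f * a * f⁻¹) * a) := by rw [hpi]
      _ = (a * (f * a * f⁻¹)) * (a * (f * a * f⁻¹)) * a := by group
      _ = ep * ep * a := by rw [hep]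
      _ = a * e := by rw [hp2, hae]
  have hpab : a * (ep * a * ep⁻¹) = e := by rw [hpa, ← mul_assoc, S.ha2, one_mul]
  have O := S.out2 F sch hpM (by rw [hpab, hpa, mul_assoc, ← hae, ← mul_assoc, S.ha2, one_mul]) (by
    rw [hpa]
    intro h4
    exact he1 (mul_eq_left.mp h4))
  have hjS := O.gS
  have hja : (ep * (s * ep * s⁻¹)) * a * (ep * (s * ep * s⁻¹))⁻¹ = a := by
    rw [S.comp F hpM, hpab, hes, he2, mul_one]
  have hpn := O.fn
  clear O
  have hjN : ep * (s * ep * s⁻¹) ∉ Nm c := fun h4 => hpn (S.mem_of_N0 F sch hpM h4)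
  have hj2 : (ep * (s * ep * s⁻¹)) * (ep * (s * ep * s⁻¹)) = 1 := by
    have h4 := S.mm F hpM hpM
    calc (ep * (s * ep * s⁻¹)) * (ep * (s * ep * s⁻¹)) = ep * ((s * ep * s⁻¹) * ep) * (s * ep * s⁻¹) := by group
      _ = ep * ep * (s * (ep * ep) * s⁻¹) := by rw [← h4]; group
      _ = 1 := by rw [hp2, hes, he2]
  refine ⟨e, ep, ?_⟩
  set j := ep * (s * ep * s⁻¹) with hj
  set g := f * (s * f * s⁻¹) with hg
  have haj : a * j = j * a := by
    calc a * j = (j * a * j⁻¹) * j := by rw [hja]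
      _ = j * a := by group
  have hc' : cjs g c ∈ Fm K := F.conj g c S.hc
  have hajZ : a * j ∈ Zc (cjs g c) := by
    rw [← hcomp]
    exact conj_mem_Zc g (S.aZ F)
  have haj1 : a * j ≠ 1 := by
    rw [← hcomp]
    exact Sw.conj_ne S.ha1
  have haNc : a ∈ Nm c := Zc_le_Nm c (S.aZ F)
  have hcc' : c ≠ cjs g c := by
    intro h4
    rw [← h4] at hajZ
    apply hjN
    have h5 := mul_mem (inv_mem haNc) (Zc_le_Nm c hajZ)
    rwa [inv_mul_cancel_left] at h5
  have hajS : a * j ∈ St c := mul_mem (Nm_le_St c haNc) hjS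
  have hLne : cj (a * j) L ≠ L := by
    intro h4
    apply hjN
    have h5 := mem_Nm_of_cj F S.hc S.c2 S.hL hajS h4
    have h6 := mul_mem (inv_mem haNc) h5
    rwa [inv_mul_cancel_left] at h6
  have haj' : (a * j) * a = a * (a * j) := by
    rw [mul_assoc, ← haj]
  have haS' : a ∈ St (cjs g c) := F.cen hc' (F.inU_of_Zc hc' hajZ haj1) haj'
  obtain ⟨M', T⟩ := exists_SwC hev hbal h F S.hc hc' hcc' hajZ haj1 hajS (S.aZ F) S.ha1 haS' S.hL hLne
  have hCo := T.coL F S.hc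
  have hCo' := T.coM F hc'
  have hinv : ∀ l ∈ L, (∀ x ∈ L, l * x = x * l) → (∃ k : ℕ, l ^ 2 ^ k = 1) → j * l * j⁻¹ = l⁻¹ := by
    intro l hl hlc ⟨k, hk⟩
    have hx1 : l * ((a * j) * l * (a * j)⁻¹) = 1 := by
      by_contra hx
      have hxD := Dg_mem hCo hl
      have hxc : ∀ y ∈ Dg L (a * j) hCo, l * ((a * j) * l * (a * j)⁻¹) * y = y * (l * ((a * j) * l * (a * j)⁻¹)) := by
        intro y hy
        obtain ⟨m, rfl⟩ := hy
        change diag hCo ⟨l, hl⟩ * diag hCo m = diag hCo m * diag hCo ⟨l, hl⟩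
        rw [← map_mul, ← map_mul]
        congr 1
        exact Subtype.ext (hlc m m.2)
      have hk2 : (l * ((a * j) * l * (a * j)⁻¹)) ^ 2 ^ k = 1 := by
        have h4 : Commute l ((a * j) * l * (a * j)⁻¹) := hCo l hl _ (conj_mem_cj hl)
        rw [h4.mul_pow, conj_pow, hk]
        group
      obtain ⟨n, hn2, hn1⟩ := exists_pow_inv (isPGroup_zpowers' ⟨k, hk2⟩) (Subgroup.mem_zpowers _) hx
      have hnD := pow_mem hxD n
      have hnc : ∀ y ∈ Dg L (a * j) hCo, (l * ((a * j) * l * (a * j)⁻¹)) ^ n * y =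
          y * (l * ((a * j) * l * (a * j)⁻¹)) ^ n := fun y hy => Commute.pow_left (hxc y hy) n
      have h5 := mem_Zc_of_Dg F S.hc S.hL T.heS hCo hnD hn2 hnc
      rw [T.eq hCo hCo'] at hnD hnc
      have h6 := mem_Zc_of_Dg F hc' T.hM T.hzS hCo' hnD hn2 hnc
      exact hn1 (F.Zc_inter S.hc hc' hcc' h5 h6)
    have h4 : (a * j) * l * (a * j)⁻¹ = l⁻¹ := eq_inv_of_mul_eq_one_right hx1
    have h5 := S.hac l⁻¹ (inv_mem hl)
    calc j * l * j⁻¹ = a⁻¹ * ((a * j) * l * (a * j)⁻¹) * a := by group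
      _ = a⁻¹ * (l⁻¹ * a) := by rw [h4]; group
      _ = l⁻¹ := by rw [← h5]; group
  refine ⟨heM, he2, he1, hec, hes, hpM, hp2, hpn, hjS, hjN, hinv, ?_⟩
  intro z hz hz2 hz1 hzc
  have h4 := hinv z hz hzc ⟨1, by rw [pow_one, pow_two, hz2]⟩
  rw [inv_of_sq hz2] at h4
  have h5 := S.hac z hz
  have hzZ : z ∈ Zc c := mem_Zc_of_mem (F.comm c S.hc) S.hL hz hz2 hzc
  refine T.eq_z hev hbal h F S.hc hc' hcc' hzZ hz1 (F.cen hc' (F.inU_of_Zc hc' hajZ haj1) ?_)
  calc a * j * z = a * (j * z * j⁻¹) * j := by group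
    _ = a * z * j := by rw [h4]
    _ = z * (a * j) := by rw [h5]; group

omit [Finite G] in
/-- uniqueness of the central involution of `M` -/
theorem Out4.uqM (F : EFam (Fm K)) (S : Sw (Fm K) c d L M s a) {e ep : G} (O : Out4 c L M s a e ep) :
    ∀ z ∈ M, z * z = 1 → z ≠ 1 → (∀ x ∈ M, z * x = x * z) → z = e := by
  obtain ⟨g, hg⟩ := F.tr c S.hc d S.hd L S.hL M S.hM
  have key : ∀ z ∈ M, z * z = 1 → z ≠ 1 → (∀ x ∈ M, z * x = x * z) → g⁻¹ * z * g = a := by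
    intro z hz hz2 hz1 hzc
    have hz' : g⁻¹ * z * g ∈ L := by
      rw [← hg, mem_cj] at hz
      exact hz
    refine O.uq _ hz' ?_ ?_ ?_
    · calc g⁻¹ * z * g * (g⁻¹ * z * g) = g⁻¹ * (z * z) * g := by group
        _ = 1 := by rw [hz2]; group
    · intro h1
      apply hz1
      calc z = g * (g⁻¹ * z * g) * g⁻¹ := by group
        _ = 1 := by rw [h1]; group
    · intro x hx
      have h1 : g * x * g⁻¹ ∈ M := by rw [← hg]; exact conj_mem_cj hx
      have h2 := hzc _ h1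
      calc g⁻¹ * z * g * x = g⁻¹ * (z * (g * x * g⁻¹)) * g := by group
        _ = g⁻¹ * ((g * x * g⁻¹) * z) * g := by rw [h2]
        _ = _ := by group
  intro z hz hz2 hz1 hzc
  have h1 := key z hz hz2 hz1 hzc
  have h2 := key e O.eM O.e2 O.e1 O.ec
  calc z = g * (g⁻¹ * z * g) * g⁻¹ := by group
    _ = g * (g⁻¹ * e * g) * g⁻¹ := by rw [h1, h2]
    _ = e := by group

/-- (5) -/
theorem out5 (F : EFam (Fm K)) (sch : ∀ c ∈ Fm K, ∀ A ∈ c, Sch A) (S : Sw (Fm K) c d L M s a) {e ep : G}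
    (O : Out4 c L M s a e ep) : s * s = a ∧ ∀ x ∈ L, e * x * e⁻¹ = s⁻¹ * x * s := by
  have hz : (s * s) * ep * (s * s)⁻¹ ∈ M := conj_mem_of_cj S.ssM O.pM
  have hd1 := comp2 (S.mm F hz O.pM).symm
  have hjS := O.jS
  have hjN := O.jN
  have hji := O.ji
  set j := ep * (s * ep * s⁻¹) with hj
  have hjL : cj j L ≠ L := fun h1 => hjN (mem_Nm_of_cj F S.hc S.c2 S.hL hjS h1)
  have hcL : ∀ x ∈ L, ∀ y ∈ cj j L, x * y = y * x := F.comm c S.hc L S.hL _ (cj_mem_of_St hjS S.hL) (Ne.symm hjL)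
  have hjs : j * s * j⁻¹ ∈ cj j L := conj_mem_cj S.hs
  -- `δ`
  set δ := ep * ((s * s) * ep * (s * s)⁻¹)⁻¹ with hδ
  have hδM : δ ∈ M := mul_mem O.pM (inv_mem hz)
  have hδs : s * δ * s⁻¹ = δ := by
    have h1 := hcL s S.hs _ hjs
    calc s * δ * s⁻¹ = (s * (j * s * j⁻¹)) * s⁻¹ * s⁻¹ := by rw [← hd1]; group
      _ = j * s * j⁻¹ * s⁻¹ := by rw [h1]; group
      _ = δ := hd1
  have hδc : ∀ x ∈ M, δ * x = x * δ := by
    intro x hx
    have h1 := S.mm F hx hδM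
    rw [hδs] at h1
    exact h1.symm
  have hes2 : (s * s) * e * (s * s)⁻¹ = e := by
    calc (s * s) * e * (s * s)⁻¹ = s * (s * e * s⁻¹) * s⁻¹ := by group
      _ = e := by rw [O.es, O.es]
  have hpp : ep = δ * ((s * s) * ep * (s * s)⁻¹) := by rw [hδ]; group
  have hp'2 : ((s * s) * ep * (s * s)⁻¹) * ((s * s) * ep * (s * s)⁻¹) = e := by
    calc ((s * s) * ep * (s * s)⁻¹) * ((s * s) * ep * (s * s)⁻¹) = (s * s) * (ep * ep) * (s * s)⁻¹ := by group
      _ = e := by rw [O.p2, hes2]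
  have hδ2 : δ * δ = 1 := by
    have h1 := O.p2
    have h2 := hδc _ hz
    have h3 : e = δ * δ * e := by
      calc e = ep * ep := h1.symm
        _ = (δ * ((s * s) * ep * (s * s)⁻¹)) * (δ * ((s * s) * ep * (s * s)⁻¹)) := by rw [← hpp]
        _ = δ * (((s * s) * ep * (s * s)⁻¹) * δ) * ((s * s) * ep * (s * s)⁻¹) := by group
        _ = δ * δ * (((s * s) * ep * (s * s)⁻¹) * ((s * s) * ep * (s * s)⁻¹)) := by rw [← h2]; group
        _ = δ * δ * e := by rw [hp'2]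
    exact (mul_eq_right.mp h3.symm)
  have hδ1 : δ ≠ 1 := by
    intro h1
    rw [h1, one_mul] at hpp
    refine O.pn (S.cen_ss F sch ?_)
    calc (s * s) * ep = ((s * s) * ep * (s * s)⁻¹) * (s * s) := by group
      _ = ep * (s * s) := by rw [← hpp]
  have hδe : δ = e := O.uqM F S δ hδM hδ2 hδ1 hδc
  have hjse : j * s * j⁻¹ = e * s := by
    rw [← hδe, ← hd1]; group
  have hex : ∀ x ∈ L, e * x * e⁻¹ = s⁻¹ * x * s := by
    intro x hx
    have h1 : s⁻¹ * x * s ∈ L := mul_mem (mul_mem (inv_mem S.hs) hx) S.hs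
    have h2 := hcL _ h1 _ hjs
    have h3 : e = (j * s * j⁻¹) * s⁻¹ := by rw [hjse]; group
    calc e * x * e⁻¹ = ((j * s * j⁻¹) * s⁻¹) * x * ((j * s * j⁻¹) * s⁻¹)⁻¹ := by rw [← h3]
      _ = (j * s * j⁻¹) * (s⁻¹ * x * s) * (j * s * j⁻¹)⁻¹ := by group
      _ = s⁻¹ * x * s := by rw [← h2]; group
  refine ⟨?_, hex⟩
  have hsL : s * s ∈ L := mul_mem S.hs S.hs
  have hei := inv_of_sq O.e2
  have hcen : ∀ x ∈ L, (s * s) * x = x * (s * s) := by
    intro x hx
    have h1 := hex x hx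
    have h2 := hex (s⁻¹ * x * s) (mul_mem (mul_mem (inv_mem S.hs) hx) S.hs)
    have h3 : x = s⁻¹ * (s⁻¹ * x * s) * s := by
      calc x = e * e * x * (e * e)⁻¹ := by rw [O.e2]; group
        _ = e * (e * x * e⁻¹) * e⁻¹ := by group
        _ = _ := by rw [h1, h2]
    calc (s * s) * x = (s * s) * (s⁻¹ * (s⁻¹ * x * s) * s) := by rw [← h3]
      _ = x * (s * s) := by group
  have hse : e * s = s * e := by
    calc e * s = (s * e * s⁻¹) * s := by rw [O.es]
      _ = s * e := by group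
  have hjss : j * (s * s) * j⁻¹ = s * s := by
    calc j * (s * s) * j⁻¹ = (j * s * j⁻¹) * (j * s * j⁻¹) := by group
      _ = (e * s) * (s * e) := by rw [hjse, hse]
      _ = (e * s) * (e * s) := by rw [hse]
      _ = (e * s) * (s * e) := by rw [hse]
      _ = e * (s * s) * e := by group
      _ = (s * s) * (e * e) := by
        have : e * (s * s) = (s * s) * e := by
          calc e * (s * s) = (e * s) * s := by group
            _ = (s * e) * s := by rw [hse]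
            _ = s * (e * s) := by group
            _ = s * (s * e) := by rw [hse]
            _ = (s * s) * e := by group
        rw [this]; group
      _ = s * s := by rw [O.e2, mul_one]
  have h1 := hji _ hsL hcen S.ss2
  rw [hjss] at h1
  have h2 : (s * s) * (s * s) = 1 := by
    nth_rewrite 1 [h1]
    group
  exact O.uq _ hsL h2 (S.ss_ne F sch) hcen

end

/-! ### Maximal class -/

theorem mem_zpowers_four {Y : Type*} [Group Y] {y t : Y} (hy : orderOf y = 4) (ht : t ∈ Subgroup.zpowers y)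
    (ht2 : t * t = 1) (ht1 : t ≠ 1) : t = y * y := by
  obtain ⟨k, rfl⟩ := Subgroup.mem_zpowers_iff.mp ht
  have h1 : y ^ (k + k) = 1 := by rw [zpow_add]; exact ht2
  have h2 := orderOf_dvd_iff_zpow_eq_one.mpr h1
  rw [hy] at h2
  obtain ⟨m, hm⟩ : ∃ m, k = 2 * m := by
    obtain ⟨n, hn⟩ := h2
    exact ⟨n, by push_cast at hn; omega⟩
  have h3 : (y * y) * (y * y) = 1 := by
    have := pow_orderOf_eq_one y
    rw [hy] at this
    rw [← pow_two, ← pow_two, ← pow_mul]; exact this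
  have h4 : y ^ k ∈ Subgroup.zpowers (y * y) := by
    refine Subgroup.mem_zpowers_iff.mpr ⟨m, ?_⟩
    rw [hm, zpow_mul, zpow_ofNat, pow_two]
  rcases ZStar.mem_zpowers_sq h3 h4 with h | h
  · exact absurd h ht1
  · exact h

theorem cyclic_inv {Y : Type*} [Group Y] [Finite Y] {C : Subgroup Y} (hC : IsCyclic C) {t t' : Y} (ht : t ∈ C)
    (ht' : t' ∈ C) (ht2 : t * t = 1) (ht1 : t ≠ 1) (ht2' : t' * t' = 1) (ht1' : t' ≠ 1) : t = t' := by
  classical
  have := Fintype.ofFinite C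
  by_contra hne
  have h1 := IsCyclic.card_pow_eq_one_le (α := C) (n := 2) (by norm_num)
  have h2 : ({1, ⟨t, ht⟩, ⟨t', ht'⟩} : Finset C) ⊆ Finset.univ.filter fun a : C => a ^ 2 = 1 := by
    intro x hx
    simp only [Finset.mem_insert, Finset.mem_singleton] at hx
    rw [Finset.mem_filter]
    refine ⟨Finset.mem_univ _, ?_⟩
    rcases hx with rfl | rfl | rfl
    · exact one_pow 2
    · exact Subtype.ext (by rw [pow_two]; exact ht2)
    · exact Subtype.ext (by rw [pow_two]; exact ht2')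
  have h3 := Finset.card_le_card h2
  have h4 : ({1, ⟨t, ht⟩, ⟨t', ht'⟩} : Finset C).card = 3 := by
    rw [Finset.card_insert_of_notMem, Finset.card_insert_of_notMem, Finset.card_singleton]
    · rw [Finset.mem_singleton]
      exact fun h => hne (congrArg Subtype.val h)
    · rw [Finset.mem_insert, Finset.mem_singleton]
      rintro (h | h)
      · exact ht1 (congrArg Subtype.val h).symm
      · exact ht1' (congrArg Subtype.val h).symm
  omega

/-- a perfect group with an element `s` of a Sylow 2-subgroup with `C_P(s) = ⟨s⟩` and `s²` a central involution has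
only one involution -/
theorem unique_inv {X : Type*} [Group X] [Finite X] (hperf : commutator X = ⊤) (P : Sylow 2 X) {s a : X}
    (hs : s ∈ (P : Subgroup X)) (hss : s * s = a) (ha2 : a * a = 1) (ha1 : a ≠ 1) (hac : ∀ x, a * x = x * a)
    (hC : ∀ p ∈ (P : Subgroup X), s * p = p * s → p ∈ Subgroup.zpowers s) : ∀ t : X, t * t = 1 → t ≠ 1 → t = a := by
  have : Fact (Nat.Prime 2) := ⟨Nat.prime_two⟩
  set y : (P : Subgroup X) := ⟨s, hs⟩ with hy
  have hord : orderOf y = 4 := by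
    have h1 : y ^ 4 = 1 := by
      apply Subtype.ext
      change s ^ 4 = 1
      calc s ^ 4 = (s * s) * (s * s) := by rw [← pow_two, ← pow_two, ← pow_mul]
        _ = 1 := by rw [hss, ha2]
    have h2 : ¬ y ^ 2 = 1 := by
      intro h
      apply ha1
      rw [← hss, ← pow_two]
      exact congrArg Subtype.val h
    exact orderOf_eq_prime_pow (p := 2) (n := 1) (by rw [pow_one]; exact h2) h1
  have hyy : ((y * y : (P : Subgroup X)) : X) = a := hss
  have hA4 : Nat.card (Subgroup.zpowers y) = 2 ^ 2 := by rw [Nat.card_zpowers, hord]; norm_num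
  have hcen : ∀ p : (P : Subgroup X), y * p = p * y → p ∈ Subgroup.zpowers y := by
    intro p hp
    obtain ⟨k, hk⟩ := Subgroup.mem_zpowers_iff.mp (hC p p.2 (congrArg Subtype.val hp))
    exact Subgroup.mem_zpowers_iff.mpr ⟨k, Subtype.ext hk⟩
  have hCA : Subgroup.centralizer ((Subgroup.zpowers y : Subgroup (P : Subgroup X)) : Set (P : Subgroup X)) =
      Subgroup.zpowers y := by
    apply le_antisymm
    · intro p hp
      exact hcen p (Subgroup.mem_centralizer_iff.mp hp y (Subgroup.mem_zpowers y))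
    · intro p hp
      obtain ⟨k, rfl⟩ := Subgroup.mem_zpowers_iff.mp hp
      rw [Subgroup.mem_centralizer_iff]
      intro q hq
      obtain ⟨m, rfl⟩ := Subgroup.mem_zpowers_iff.mp hq
      exact ((Commute.refl y).zpow_zpow m k)
  obtain ⟨n, hn⟩ := (IsPGroup.iff_card).mp P.2
  have hn2 : 2 ≤ n := by
    have h1 : 2 ^ 2 ∣ 2 ^ n := by
      rw [← hA4, ← hn]
      exact Subgroup.card_subgroup_dvd_card _
    exact (Nat.pow_dvd_pow_iff_le_right (by norm_num)).mp h1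
  have key : ∀ t : (P : Subgroup X), t * t = 1 → t ≠ 1 → t = y * y := by
    intro t ht2 ht1
    by_cases hn3 : 3 ≤ n
    · have hcl := Cfsg.Agent.S0112.result n hn (Subgroup.zpowers y) hA4 hCA
      obtain ⟨C, hCc, hCi⟩ := Cfsg.Agent.S0113.result n hn3 hn hcl
      have hCn : C.Normal := Subgroup.normal_of_index_eq_two hCi
      have hCcard : Nat.card C * 2 = 2 ^ n := by
        rw [← hn]
        have := Subgroup.card_mul_index C
        rwa [hCi] at this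
      have hCeven : 2 ∣ Nat.card C := by
        obtain ⟨m, rfl⟩ : ∃ m, n = m + 2 := ⟨n - 2, by omega⟩
        refine ⟨2 ^ m, ?_⟩
        rw [pow_add] at hCcard
        omega
      obtain ⟨c0, hc0⟩ := exists_prime_orderOf_dvd_card' (G := C) 2 hCeven
      have hc02 : (c0 : (P : Subgroup X)) * c0 = 1 := by
        have := pow_orderOf_eq_one c0
        rw [hc0, pow_two] at this
        exact congrArg Subtype.val this
      have hc01 : (c0 : (P : Subgroup X)) ≠ 1 := by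
        intro h
        have h1 : c0 = 1 := Subtype.ext h
        rw [h1, orderOf_one] at hc0
        omega
      have hc0c : ∀ x : (P : Subgroup X), x * c0 * x⁻¹ = c0 := by
        intro x
        refine cyclic_inv hCc (hCn.conj_mem _ c0.2 x) c0.2 ?_ ?_ hc02 hc01
        · calc x * c0 * x⁻¹ * (x * c0 * x⁻¹) = x * ((c0 : (P : Subgroup X)) * c0) * x⁻¹ := by group
            _ = 1 := by rw [hc02]; group
        · intro h
          apply hc01
          calc (c0 : (P : Subgroup X)) = x⁻¹ * (x * c0 * x⁻¹) * x := by group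
            _ = 1 := by rw [h]; group
      have hc0y : (c0 : (P : Subgroup X)) = y * y := by
        refine mem_zpowers_four hord (hcen _ ?_) hc02 hc01
        calc y * c0 = (y * c0 * y⁻¹) * y := by group
          _ = c0 * y := by rw [hc0c]
      by_cases htC : t ∈ C
      · rw [← hc0y]
        exact cyclic_inv hCc htC c0.2 ht2 ht1 hc02 hc01
      · exfalso
        have hrel : (C.map (P : Subgroup X).subtype).relIndex (P : Subgroup X) = 2 := by
          have h1 : (C.map (P : Subgroup X).subtype).subgroupOf (P : Subgroup X) = C :=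
            Subgroup.comap_map_eq_self_of_injective (Subgroup.subtype_injective _) C
          unfold Subgroup.relIndex
          rw [h1, hCi]
        have hto : orderOf (t : X) = 2 := by
          refine orderOf_eq_prime ?_ (fun h => ht1 (Subtype.ext h))
          rw [pow_two]
          exact congrArg Subtype.val ht2
        rcases Cfsg.Agent.S0111.result P (C.map (P : Subgroup X).subtype) (Subgroup.map_subtype_le _) hrel (t : X) hto
          t.2 (fun ⟨t', ht', h⟩ => htC (by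
            have : t' = t := Subtype.ext h
            rw [← this]; exact ht')) with ⟨N, hN, hNi, htN⟩ | ⟨g, ⟨t', ht', hg⟩⟩
        · have h1 : commutator X ≤ N := by
            have := hN
            have hc2 : Nat.card (X ⧸ N) = 2 := hNi
            have : IsCyclic (X ⧸ N) := isCyclic_of_prime_card hc2
            have h3 : ∀ a b : X ⧸ N, a * b = b * a := fun a b =>
              (IsCyclic.isMulCommutative (α := X ⧸ N)).is_comm.comm a b
            rw [commutator_def, Subgroup.commutator_le]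
            intro a _ b _
            rw [← QuotientGroup.eq_one_iff]
            have h4 : ((⁅a, b⁆ : X) : X ⧸ N) = ⁅(a : X ⧸ N), (b : X ⧸ N)⁆ := rfl
            rw [h4, commutatorElement_def, h3 (a : X ⧸ N) b]
            group
          rw [hperf, top_le_iff] at h1
          rw [h1, Subgroup.index_top] at hNi
          omega
        · have ht'2 : t' * t' = 1 := by
            apply Subtype.ext
            change (t' : X) * t' = 1
            have hg' : (t' : X) = g * t * g⁻¹ := hg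
            have h2 : (t : X) * t = 1 := congrArg Subtype.val ht2
            rw [hg']
            calc g * (t : X) * g⁻¹ * (g * t * g⁻¹) = g * ((t : X) * t) * g⁻¹ := by group
              _ = 1 := by rw [h2]; group
          have hg' : (t' : X) = g * t * g⁻¹ := hg
          have ht'1 : t' ≠ 1 := by
            intro h
            apply ht1
            apply Subtype.ext
            change (t : X) = 1
            have h2 : g * (t : X) * g⁻¹ = 1 := by rw [← hg', h]; rfl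
            calc (t : X) = g⁻¹ * (g * t * g⁻¹) * g := by group
              _ = 1 := by rw [h2]; group
          have h5 : t' = y * y := by
            rw [← hc0y]
            exact cyclic_inv hCc ht' c0.2 ht'2 ht'1 hc02 hc01
          have h6 : g * (t : X) * g⁻¹ = a := by rw [← hg', h5]; exact hyy
          have h7 : (t : X) = a := by
            calc (t : X) = g⁻¹ * (g * t * g⁻¹) * g := by group
              _ = g⁻¹ * (a * g) := by rw [h6]; group
              _ = a := by rw [hac]; group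
          apply htC
          have h8 : t = c0 := by
            rw [hc0y]
            exact Subtype.ext (h7.trans hyy.symm)
          rw [h8]; exact c0.2
    · have hn' : n = 2 := by omega
      have htop : Subgroup.zpowers y = ⊤ := by
        apply Subgroup.eq_top_of_card_eq
        rw [hA4, hn, hn']
      exact mem_zpowers_four hord (by rw [htop]; trivial) ht2 ht1
  intro t ht2 ht1
  obtain ⟨P', hP'⟩ := (isPGroup_zpowers' (x := t) ⟨1, by rw [pow_one, pow_two, ht2]⟩).exists_le_sylow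
  obtain ⟨g, hg⟩ := MulAction.exists_smul_eq X P' P
  have h1 : g * t * g⁻¹ ∈ (P : Subgroup X) := by
    rw [← hg]
    rw [Sylow.coe_subgroup_smul, Subgroup.mem_pointwise_smul_iff_inv_smul_mem]
    rw [← map_inv, MulAut.smul_def, MulAut.conj_apply, inv_inv]
    have e1 : g⁻¹ * (g * t * g⁻¹) * g = t := by group
    rw [e1]
    exact hP' (Subgroup.mem_zpowers t)
  have h2 := key ⟨g * t * g⁻¹, h1⟩ (Subtype.ext (by
    change g * t * g⁻¹ * (g * t * g⁻¹) = 1
    calc g * t * g⁻¹ * (g * t * g⁻¹) = g * (t * t) * g⁻¹ := by group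
      _ = 1 := by rw [ht2]; group)) (fun h => by
    apply ht1
    have h3 : g * t * g⁻¹ = 1 := congrArg Subtype.val h
    calc t = g⁻¹ * (g * t * g⁻¹) * g := by group
      _ = 1 := by rw [h3]; group)
  have h3 : g * t * g⁻¹ = a := (congrArg Subtype.val h2).trans hyy
  calc t = g⁻¹ * (g * t * g⁻¹) * g := by group
    _ = g⁻¹ * (a * g) := by rw [h3]; group
    _ = a := by rw [hac]; group

section
variable [Finite G] {K : Subgroup G} {c d : Set (Subgroup G)} {L M : Subgroup G} {s a : G}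

/-- **(sw) is dead** -/
theorem sw_false (hev : EvQ G) (hbal : Bal G) (h : KH K) (F : EFam (Fm K)) (sch : ∀ c ∈ Fm K, ∀ A ∈ c, Sch A)
    (S : Sw (Fm K) c d L M s a) : False := by
  obtain ⟨e, ep, O⟩ := out4 hev hbal h F sch S
  obtain ⟨hss, hex⟩ := out5 F sch S O
  have gen : ∀ s' : G, s' ∈ L → s' ∈ St d → cj s' M ≠ M → (∃ k : ℕ, s' ^ 2 ^ k = 1) →
      s' * s' = a ∧ ∀ x ∈ L, e * x * e⁻¹ = s'⁻¹ * x * s' := by
    intro s' h1 h2 h3 h4
    have S' : Sw (Fm K) c d L M s' a := { S with hs := h1, hsS := h2, hsM := h3, hs2 := h4 }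
    obtain ⟨e', ep', O'⟩ := out4 hev hbal h F sch S'
    have h5 := out5 F sch S' O'
    have he : e' = e := O.uqM F S e' O'.eM O'.e2 O'.e1 O'.ec
    rw [he] at h5
    exact h5
  obtain ⟨k, hk⟩ := S.hs2
  have hy2 : IsPGroup 2 (Subgroup.zpowers (⟨s, S.hs⟩ : L)) := isPGroup_zpowers' ⟨k, Subtype.ext hk⟩
  obtain ⟨P, hP⟩ := hy2.exists_le_sylow
  have hperf : commutator L = ⊤ := (F.qs c S.hc L S.hL).1.commutator_eq_top
  have heZ : e ∈ Zc d := mem_Zc_of_mem (F.comm d S.hd) S.hM O.eM O.e2 O.ec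
  have h2el : ∀ q ∈ (P : Subgroup L), ∃ k : ℕ, (q : G) ^ 2 ^ k = 1 := by
    intro q hq
    obtain ⟨m, hm⟩ := P.2 ⟨q, hq⟩
    refine ⟨m, ?_⟩
    have h1 : q ^ 2 ^ m = 1 := congrArg Subtype.val hm
    exact congrArg Subtype.val h1
  have key := unique_inv hperf P (s := ⟨s, S.hs⟩) (a := ⟨a, S.ha⟩) (hP (Subgroup.mem_zpowers _)) (Subtype.ext hss)
    (Subtype.ext S.ha2) (fun h1 => S.ha1 (congrArg Subtype.val h1)) (fun x => Subtype.ext (S.hac x x.2)) (by
    intro p hpP hpc'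
    have hpc : s * p = p * s := congrArg Subtype.val hpc'
    have hpL : (p : G) ∈ L := p.2
    have hpe : e * p = p * e := by
      have h1 := hex p hpL
      have h2 : s⁻¹ * p * s = (p : G) := by
        calc s⁻¹ * p * s = s⁻¹ * (p * s) := by group
          _ = p := by rw [← hpc]; group
      rw [h2] at h1
      calc e * p = (e * p * e⁻¹) * e := by group
        _ = p * e := by rw [h1]
    have hpS : (p : G) ∈ St d := F.cen S.hd (F.inU_of_Zc S.hd heZ O.e1) hpe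
    have hmem : (p : G) ∈ Subgroup.zpowers s → p ∈ Subgroup.zpowers (⟨s, S.hs⟩ : L) := by
      intro h1
      obtain ⟨m, hm⟩ := Subgroup.mem_zpowers_iff.mp h1
      exact Subgroup.mem_zpowers_iff.mpr ⟨m, Subtype.ext hm⟩
    apply hmem
    have haz : a ∈ Subgroup.zpowers s := by
      rw [← hss]
      exact mul_mem (Subgroup.mem_zpowers s) (Subgroup.mem_zpowers s)
    by_cases hpM : cj (p : G) M = M
    · obtain ⟨h1, h2⟩ := gen (s * p) (mul_mem S.hs hpL) (mul_mem S.hsS hpS) (by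
        rw [cj_mul, hpM]
        exact S.hsM) (h2el _ (mul_mem (hP (Subgroup.mem_zpowers (⟨s, S.hs⟩ : L))) hpP))
      have hp2 : (p : G) * p = 1 := by
        have h3 : s * p * (s * p) = a * ((p : G) * p) := by
          calc s * p * (s * p) = s * (p * s) * p := by group
            _ = s * s * ((p : G) * p) := by rw [← hpc]; group
            _ = _ := by rw [hss]
        rw [h3] at h1
        exact mul_eq_left.mp h1
      have hpcen : ∀ x ∈ L, (p : G) * x = x * p := by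
        intro x hx
        have h3 : s * x * s⁻¹ ∈ L := mul_mem (mul_mem S.hs hx) (inv_mem S.hs)
        have h4 := hex _ h3
        have h5 := h2 _ h3
        rw [h4] at h5
        have h6 : x = (p : G)⁻¹ * x * p := by
          calc x = s⁻¹ * (s * x * s⁻¹) * s := by group
            _ = (s * p)⁻¹ * (s * x * s⁻¹) * (s * p) := h5
            _ = _ := by group
        calc (p : G) * x = p * ((p : G)⁻¹ * x * p) := by rw [← h6]
          _ = x * p := by group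
      by_cases hp1 : (p : G) = 1
      · rw [hp1]; exact one_mem _
      · rw [O.uq p hpL hp2 hp1 hpcen]
        exact haz
    · obtain ⟨h1, h2⟩ := gen p hpL hpS hpM (h2el p hpP)
      have hq2 : ((p : G) * s⁻¹) * (p * s⁻¹) = 1 := by
        have h3 : s⁻¹ * p = p * s⁻¹ := by
          calc s⁻¹ * p = s⁻¹ * (p * s) * s⁻¹ := by group
            _ = p * s⁻¹ := by rw [← hpc]; group
        calc ((p : G) * s⁻¹) * (p * s⁻¹) = p * (s⁻¹ * p) * s⁻¹ := by group
          _ = (p * p) * (s * s)⁻¹ := by rw [h3]; group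
          _ = 1 := by rw [h1, hss]; group
      have hqL : (p : G) * s⁻¹ ∈ L := mul_mem hpL (inv_mem S.hs)
      have hqc : ∀ x ∈ L, ((p : G) * s⁻¹) * x = x * (p * s⁻¹) := by
        intro x hx
        have h4 := hex x hx
        have h5 := h2 x hx
        rw [h4] at h5
        calc ((p : G) * s⁻¹) * x = p * (s⁻¹ * x * s) * s⁻¹ := by group
          _ = p * ((p : G)⁻¹ * x * p) * s⁻¹ := by rw [h5]
          _ = _ := by group
      by_cases hq1 : (p : G) * s⁻¹ = 1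
      · have h6 : (p : G) = s := mul_inv_eq_one.mp hq1
        rw [h6]; exact Subgroup.mem_zpowers s
      · have h6 := O.uq _ hqL hq2 hq1 hqc
        have h7 : (p : G) = a * s := by rw [← h6]; group
        rw [h7]
        exact mul_mem haz (Subgroup.mem_zpowers s))
  obtain ⟨w, hw, hw2, hw1, hwa⟩ := F.rk c S.hc L S.hL a
  have h1 := key ⟨w, hw⟩ (Subtype.ext hw2) (fun h2 => hw1 (congrArg Subtype.val h2))
  exact hwa (congrArg Subtype.val h1)

/-- **(sw), `n = 2`**, in the frame `Sit` -/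
theorem mem_Nm_of_sit (hev : EvQ G) (hbal : Bal G) (h : KH K) (F : EFam (Fm K)) (sch : ∀ c ∈ Fm K, ∀ A ∈ c, Sch A)
    (S : Sit (Fm K) c d) (had : EvDefs.Ad c d) (hL : L ∈ c) (hs : s ∈ L) (h2s : ∃ k : ℕ, s ^ 2 ^ k = 1)
    (hsd : s ∈ St d) : s ∈ Nm d := by
  obtain ⟨y, hy, hy1, hyS⟩ := had
  have hyN := S.ns' y hy hyS
  have hX : cj y (L ⊓ Zc c) = L ⊓ Zc c := by rw [cj_inf, hyN L hL, cj_Zc hyS]
  obtain ⟨a0, ha0, ha02, ha01, ha0c⟩ := F.ec c S.hc L hL
  obtain ⟨a, ha, ha2, ha1, hya⟩ := exists_fixed_inv (Zc_sq hy) hX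
    ⟨a0, Subgroup.mem_inf.mpr ⟨ha0, mem_Zc_of_mem (F.comm c S.hc) hL ha0 ha02 ha0c⟩, ha02, ha01⟩
  rw [Subgroup.mem_inf] at ha
  have haS : a ∈ St d := F.cen S.hd (F.inU_of_Zc S.hd hy hy1) hya
  intro M hM
  by_contra hne
  exact sw_false hev hbal h F sch
    { S with hL := hL, hM := hM, hs := hs, hsS := hsd, hsM := hne, hs2 := h2s, ha := ha.1, ha2 := ha2, ha1 := ha1,
             hac := ha.2.2.2 L hL, haS := haS }

/-- **(sw), `n = 2`** -/
theorem sw_two (hev : EvQ G) (hbal : Bal G) (h : KH K) (F : EFam2 (Fm K)) (sch : ∀ c ∈ Fm K, ∀ A ∈ c, Sch A)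
    (two : ∀ c ∈ Fm K, AtMostTwo c) (hc : c ∈ Fm K) (hd : d ∈ Fm K) (hcd : c ≠ d) {u : G} (hu : InU c u)
    (hun : u ∈ Nm d) (hL : L ∈ c) (hs : s ∈ L) (h2s : ∃ k : ℕ, s ^ 2 ^ k = 1) (hsd : s ∈ St d) : s ∈ Nm d :=
  mem_Nm_of_sit hev hbal h F.toEFam sch
    ⟨hc, hd, hcd, two c hc, two d hd, F.nsw c hc d hd hcd u hu hun, F.nsw' c hc d hd hcd u hu hun⟩
    (EvDefs.Ad.of_inU F.toEFam hc hd hu (Nm_le_St d hun)) hL hs h2s hsd

/-- **(sw), `n = 2`**, symmetric form -/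
theorem sw_two' (hev : EvQ G) (hbal : Bal G) (h : KH K) (F : EFam2 (Fm K)) (sch : ∀ c ∈ Fm K, ∀ A ∈ c, Sch A)
    (two : ∀ c ∈ Fm K, AtMostTwo c) (hc : c ∈ Fm K) (hd : d ∈ Fm K) (hcd : c ≠ d) {u : G} (hu : InU c u)
    (hun : u ∈ Nm d) (hM : M ∈ d) (hs : s ∈ M) (h2s : ∃ k : ℕ, s ^ 2 ^ k = 1) (hsc : s ∈ St c) : s ∈ Nm c :=
  mem_Nm_of_sit hev hbal h F.toEFam sch
    ⟨hd, hc, hcd.symm, two d hd, two c hc, F.nsw' c hc d hd hcd u hu hun, F.nsw c hc d hd hcd u hu hun⟩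
    ((EvDefs.Ad.of_inU F.toEFam hc hd hu (Nm_le_St d hun)).symm F.toEFam hc hd) hM hs h2s hsc

end

end Cfsg.Agent.OddHalf.D3.EvSwTwo
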