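import Cfsg.Agent.OddHalf.D3.EvMax
import Cfsg.Agent.OddHalf.D3.EvSwN
import Cfsg.Agent.OddHalf.D3.EvSwTwo
import Cfsg.Agent.OddHalf.D3.Bridge
import Cfsg.Agent.Schreier.CentExt

/-!
# ODD D3 (iii), even centre: the frame `EFam3` of a terminal component; the separation of classes

`efam_of`, `efam3_of`: the frames `EFam`, `EFam3` for the conjugates of a terminal component `K` with a central
involution. `evenSep_of`: `EvenSep` from the impossibility of `ECfg`.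
-/

set_option autoImplicit false

namespace Cfsg.Agent.OddHalf.D3b.EvInst

open Cfsg Cfsg.Agent.OddHalf.Iface
open Cfsg.Agent.OddHalf.D3.ThreeDefs Cfsg.Agent.OddHalf.D3.ThreeFam Cfsg.Agent.OddHalf.D3.FamTerm
open Cfsg.Agent.OddHalf.D3.SCThree Cfsg.Agent.OddHalf.D3.Swap Cfsg.Agent.OddHalf.D3.TwoCfg
open Cfsg.Agent.OddHalf.D3.NormOne
open Cfsg.Agent.OddHalf.D3b.OddCase
open Cfsg.Agent.OddHalf.D3.EvDefs Cfsg.Agent.OddHalf.D3.EvSwap Cfsg.Agent.OddHalf.D3.EvMax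
open Cfsg.Agent.Schreier.Basic (Sch)

universe u

variable {G : Type u} [Group G] {K : Subgroup G}

/-- more than one involution, from the 2-rank -/
theorem rk_of (hr : ¬ PRankLE 2 1 K) (z : G) : ∃ a ∈ K, a * a = 1 ∧ a ≠ 1 ∧ a ≠ z := by
  classical
  by_contra hcon
  push Not at hcon
  apply hr
  intro A _ h2
  have hz : ∀ a : A, (a : K) ≠ 1 → ((a : K) : G) = z := by
    intro a ha
    refine hcon _ (a : K).2 ?_ ?_
    · have := congrArg Subtype.val (h2 a a.2)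
      rw [pow_two] at this
      exact this
    · intro h
      exact ha (Subtype.ext h)
  have hinj : Function.Injective (fun a : A => decide ((a : K) = 1)) := by
    intro a b hab
    have hab' : ((a : K) = 1) ↔ ((b : K) = 1) := by simpa using hab
    by_cases h1 : (a : K) = 1
    · exact Subtype.ext (h1.trans (hab'.mp h1).symm)
    · have h3 : (b : K) ≠ 1 := fun h => h1 (hab'.mpr h)
      exact Subtype.ext (Subtype.ext ((hz a h1).trans (hz b h3).symm))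
  have h3 := Nat.card_le_card_of_injective _ hinj
  simpa using h3

/-- **the frame** -/
theorem efam_of [Finite G] (h : KH K) (hz : ∃ z ∈ K, z * z = 1 ∧ z ≠ 1 ∧ ∀ a ∈ K, z * a = a * z)
    (hrk : ∀ z : G, ∃ a ∈ K, a * a = 1 ∧ a ≠ 1 ∧ a ≠ z) (htwo : ∃ B ∈ Cj K, B ≠ K ∧ D3.FamTerm.Rel K B) : EFam (Fm K) where
  conj := by
    rintro g _ ⟨A, hA, rfl⟩
    exact ⟨cj g A, Cj_conj hA g, cjs_cls g⟩
  comm := by
    rintro _ ⟨A, hA, rfl⟩ B ⟨hB1, hB2⟩ D ⟨hD1, hD2⟩ hne a ha b hb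
    rcases hB2.symm.trans (h.conj hB1).term (h.conj hD1).term (h.conj hA).ev hD2 with h1 | h1
    · exact absurd h1 hne
    · exact h1 a ha b hb
  two := by
    rintro _ ⟨A, hA, rfl⟩ X
    obtain ⟨B, hB, hne, hr⟩ := htwo
    obtain ⟨g, rfl⟩ := hA
    by_cases hX : cj g K = X
    · refine ⟨cj g B, ⟨Cj_conj hB g, hr.conj g⟩, ?_⟩
      rw [← hX]
      exact fun h1 => hne (cj_injective g h1)
    · exact ⟨cj g K, ⟨Cj_conj (Cj_self K) g, Or.inl rfl⟩, hX⟩
  uniq := by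
    rintro _ ⟨A, hA, rfl⟩ _ ⟨A', hA', rfl⟩ u ⟨hu2, hu1, B, ⟨hB1, hB2⟩, hB⟩ ⟨-, -, D, ⟨hD1, hD2⟩, hD⟩
    have h1 : D3.FamTerm.Rel B D := ((h.conj hB1).term.of_comm hu2 hu1 hB).eq_or_comm ((h.conj hD1).term.of_comm hu2 hu1 hD)
    rw [cls_eq h hA hB1 hB2, cls_eq h hA' hD1 hD2, cls_eq h hB1 hD1 h1]
  ec := by
    rintro _ ⟨A, hA, rfl⟩ B ⟨⟨g, rfl⟩, -⟩
    obtain ⟨z, hzK, hz2, hz1, hzc⟩ := hz
    refine ⟨g * z * g⁻¹, conj_mem_cj hzK, ?_, ?_, ?_⟩
    · calc g * z * g⁻¹ * (g * z * g⁻¹) = g * (z * z) * g⁻¹ := by group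
        _ = 1 := by rw [hz2]; group
    · intro h1
      apply hz1
      calc z = g⁻¹ * (g * z * g⁻¹) * g := by group
        _ = 1 := by rw [h1]; group
    · intro b hb
      rw [mem_cj] at hb
      have h2 := hzc _ hb
      calc g * z * g⁻¹ * b = g * (z * (g⁻¹ * b * g)) * g⁻¹ := by group
        _ = g * ((g⁻¹ * b * g) * z) * g⁻¹ := by rw [h2]
        _ = _ := by group
  qs := by
    rintro _ ⟨A, hA, rfl⟩ B ⟨hB, -⟩
    exact (h.conj hB).term.quasi
  rk := by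
    rintro _ ⟨A, hA, rfl⟩ B ⟨⟨g, rfl⟩, -⟩ z
    obtain ⟨a, ha, ha2, ha1, haz⟩ := hrk (g⁻¹ * z * g)
    refine ⟨g * a * g⁻¹, conj_mem_cj ha, ?_, ?_, ?_⟩
    · calc g * a * g⁻¹ * (g * a * g⁻¹) = g * (a * a) * g⁻¹ := by group
        _ = 1 := by rw [ha2]; group
    · intro h1
      apply ha1
      calc a = g⁻¹ * (g * a * g⁻¹) * g := by group
        _ = 1 := by rw [h1]; group
    · intro h1
      apply haz
      calc a = g⁻¹ * (g * a * g⁻¹) * g := by group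
        _ = g⁻¹ * z * g := by rw [h1]
  tr := by
    rintro _ ⟨A, hA, rfl⟩ _ ⟨A', hA', rfl⟩ B ⟨⟨g, rfl⟩, -⟩ D ⟨⟨g', rfl⟩, -⟩
    exact ⟨g' * g⁻¹, by rw [cj_mul, cj_inv_cj]⟩

/-- the centre of a terminal component is a 2-group -/
theorem zp_of [Finite G] (hbal : Bal G) (h : KH K) {a : G} (ha : a ∈ K) (hac : ∀ b ∈ K, a * b = b * a) :
    ∃ k : ℕ, a ^ 2 ^ k = 1 := by
  obtain ⟨t, ht, hc⟩ := h.term.comp
  have hc' : Iface.CompOf t K := ⟨hc.1, hc.2⟩
  have h2 := Soft.CompOf.center_isPGroup (hbal t ht) hc'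
  obtain ⟨k, hk⟩ := h2 ⟨⟨a, ha⟩, Subgroup.mem_center_iff.mpr fun b => Subtype.ext (hac b b.2).symm⟩
  exact ⟨k, congrArg (fun x : Subgroup.center K => ((x : K) : G)) hk⟩

/-- **the frame `EFam3`** -/
theorem efam3_of [Finite G] (hev : EvQ G) (hbal : Bal G) (h : KH K) (F : EFam (Fm K))
    (sch : ∀ c ∈ Fm K, ∀ A ∈ c, Sch A) : EFam3 (Fm K) where
  toEFam2 := efam2 hev hbal h F
  sw := by
    intro c hc d hd hcd hNd L hL s hs hs2 hsd
    by_cases h3 : Three K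
    · exact D3.EvSwN.sw_three hev hbal h F (three_mem h3) hc hd hcd (hNd.ad F hc hd) hL hs hs2 hsd
    · obtain ⟨u, hu, hun⟩ := hNd
      exact D3.EvSwTwo.sw_two hev hbal h (efam2 hev hbal h F) sch (fun c hc => le_two h h3 hc) hc hd hcd hu hun hL hs
        hs2 hsd
  zp := by
    rintro _ ⟨A, hA, rfl⟩ B ⟨hB, -⟩ a ha hac
    exact zp_of hbal (h.conj hB) ha hac

theorem sch_of_term (C : Ctx G) (hSch : Cfsg.Agent.Schreier.Cases.SchFor.{u} @IsKnownSimple') (h : Term0 G K) :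
    Sch K := by
  have := C.fin
  have := C.simple
  obtain ⟨t, ht, hc⟩ := h.comp
  have hq := Soft.CompOf.quasisimple hc
  have hs := hq.2
  have h1 : Sch (K ⧸ Subgroup.center K) := hSch _ (Soft.quo_na hq)
    (Known.known_quotient C.kproper K (Soft.CompOf.ne_top C.na ht hc) _ hs (Soft.quo_na hq))
  exact Cfsg.Agent.Schreier.CentExt.sch_of_quotient (Subgroup.center K)
    (fun φ => Subgroup.characteristic_iff_map_eq.mp inferInstance φ) le_rfl hq.1.commutator_eq_top h1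

/-- **The separation of classes, even centre**, from the impossibility of a configuration. -/
theorem evenSep_of (C : Ctx G) (hSch : Cfsg.Agent.Schreier.Cases.SchFor.{u} @IsKnownSimple') (hFT : haveI := C.fin; D3.FT G)
    (hkill : ∀ (𝓒 : Set (Set (Subgroup G))) (Q : Subgroup G), EFam3 𝓒 → ECfg 𝓒 Q → False) :
    D3b.Bridge.EvenSep G := by
  have hfin := C.fin
  have hsim := C.simple
  intro K h hr hz htwo Λ hΛ Λ' hΛ' u hu huS
  by_contra hne
  have hK := kh_of C.bal h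
  have F := efam_of hK hz (rk_of hr) htwo
  have sch : ∀ c ∈ Fm K, ∀ A ∈ c, Sch A := by
    rintro _ ⟨A, hA, rfl⟩ B ⟨⟨g, rfl⟩, -⟩
    obtain ⟨φ⟩ := equiv_cj g K
    exact (sch_of_term C hSch h).of_equiv φ
  have F3 := efam3_of (fun D hD => hFT.even hD) C.bal hK F sch
  obtain ⟨Q, hQ⟩ := exists_ecfg F3.toEFam2 hΛ' hΛ (Ne.symm hne) (Ad.of_inU F hΛ' hΛ hu huS)
  exact hkill _ Q F3 hQ

end Cfsg.Agent.OddHalf.D3b.EvInst
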