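import Cfsg.Agent.OddHalf.D3.FinalBB
import Cfsg.Agent.OddHalf.D3.EvInst
import Cfsg.Agent.OddHalf.D3.BEven.Kill

/-!
# ODD D3(b): the node, complete

`d3b`: `Iface.D3b` from the Schreier property of the known groups, the odd order theorem, Gorenstein-Walter (S0483) and
S1173.
-/

set_option autoImplicit false

namespace Cfsg.Agent.OddHalf.D3b.FinalAll

open Cfsg Cfsg.Agent.OddHalf.Iface Cfsg.Agent.OddHalf.D3b.OddCase Cfsg.Agent.OddHalf.D3b.Bridge

universe u

/-- the separation of classes, even centre -/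
theorem evenSep (hSch : Cfsg.Agent.Schreier.Cases.SchFor.{u} @IsKnownSimple')
    (hFT : ∀ (G : Type u) [Group G] [Finite G], D3.FT G) (G : Type u) [Group G] (C : Ctx G) : EvenSep G := by
  have := C.fin
  exact EvInst.evenSep_of C hSch (hFT G) fun _ _ F E => D3.BEven.kill F E

/-- **D3(b)** -/
theorem d3b (hSch : Cfsg.Agent.Schreier.Cases.SchFor.{u} @IsKnownSimple')
    (hFT : ∀ (G : Type u) [Group G] [Finite G], D3.FT G) (hgw : D3.BTwo.GW.{u})
    (h1173 : ∀ (G : Type u) [Group G] [Finite G], D3.EndCent.P1173 G) : Iface.D3b.{u} :=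
  FinalBB.d3b_of hSch hFT hgw (evenSep hSch hFT) h1173

/-- **D3(b)**, the odd order theorem discharged -/
theorem d3b' (hSch : Cfsg.Agent.Schreier.Cases.SchFor.{u} @IsKnownSimple') (hgw : D3.BTwo.GW.{u})
    (h1173 : ∀ (G : Type u) [Group G] [Finite G], D3.EndCent.P1173 G) : Iface.D3b.{u} :=
  d3b hSch (fun _ _ _ _ h => Cfsg.Agent.S0205.result h) hgw h1173

end Cfsg.Agent.OddHalf.D3b.FinalAll
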