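import Cfsg.Agent.OddHalf.D3.Class
import Cfsg.Agent.S1301
import Cfsg.Agent.ClassificationK.PCompTransport

/-!
# The system of components of involution centralizers

`odd order theorem` is kept as the hypothesis `FT G` (the file `D3/Main.lean` discharges it).
-/

set_option autoImplicit false
set_option linter.style.haveILetI false

namespace Cfsg.Agent.OddHalf.D3

open Subgroup Cfsg Cfsg.Agent.SignalizersComponents
open scoped commutatorElement

variable {G : Type*} [Group G] [Finite G]

/-- The odd order theorem for the subgroups of `G`. -/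
def FT (G : Type*) [Group G] : Prop := ∀ H : Subgroup G, Odd (Nat.card H) → Group.IsSolvable H

/-- `L_{2'}(C(y)) = E(C(y))` for every involution `y`. -/
def BL (G : Type*) [Group G] : Prop :=
  ∀ y : G, orderOf y = 2 → pLayer 2 ↥(centralizer ({y} : Set G)) = layer ↥(centralizer ({y} : Set G))

omit [Finite G] in
theorem FT.even (h : FT G) {K : Subgroup G} (hK : IsQuasisimple K) : 2 ∣ Nat.card K := by
  by_contra hodd
  have h1 : Odd (Nat.card K) := by
    rwa [← Nat.not_even_iff_odd, even_iff_two_dvd]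
  exact Components.quasisimple_not_isSolvable hK (h K h1)

omit [Finite G] in
theorem FT.even' (h : FT G) {C : Subgroup G} {K : Subgroup C} (hK : IsQuasisimple K) :
    2 ∣ Nat.card K := by
  have e := K.equivMapOfInjective C.subtype (Subgroup.subtype_injective C)
  have h1 := h.even (Components.isQuasisimple_of_mulEquiv e hK)
  rwa [← Nat.card_congr e.toEquiv] at h1

/-- The B-property gives `L_{2'}(C(y)) = E(C(y))` when `O(G) = 1`. -/
theorem bl_of_B (hFT : FT G) (hO : oddCore G = ⊥) (hB : HasBProperty G) : BL G := by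
  haveI : Fact (Nat.Prime 2) := ⟨Nat.prime_two⟩
  intro y hy
  have h0 : ⁅pLayer 2 ↥(centralizer ({y} : Set G)), oddCore ↥(centralizer ({y} : Set G))⁆ = ⊥ := by
    have h1 := hB y hy
    rw [hO, le_bot_iff, Subgroup.map_eq_bot_iff_of_injective _ (Subgroup.subtype_injective _)] at h1
    exact h1
  apply le_antisymm
  · apply sSup_le
    intro J hJ
    have h1 : ⁅J, pPrimeCore 2 ↥(centralizer ({y} : Set G))⁆ = ⊥ := by
      rw [eq_bot_iff, ← h0]
      exact commutator_mono (le_sSup hJ) le_rfl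
    exact Components.component_le_layer
      (ClassificationK.PCompTransport.isComponent_of_isPComponent 2 hJ h1)
  · rw [Components.layer_le_iff]
    intro K hK
    exact le_sSup (EvenComponent.isPComponent_of_isComponent hK (hFT.even' hK.2))

/-- L-balance: an even order component of `C(t)` lies in the layer. -/
theorem le_layer {X : Type*} [Group X] [Finite X] (hL2 : pLayer 2 X = layer X) {t : X}
    (ht : orderOf t = 2) {L : Subgroup X} (hL : Comp t L) (h2 : 2 ∣ Nat.card L) : L ≤ layer X := by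
  haveI : Fact (Nat.Prime 2) := ⟨Nat.prime_two⟩
  have heven : 2 ∣ Nat.card (L.subgroupOf (Subgroup.centralizer ({t} : Set X))) := by
    rw [Nat.card_congr (Subgroup.subgroupOfEquivOfLe hL.le).toEquiv]
    exact h2
  have h2 := EvenComponent.isPComponent_of_isComponent hL.comp heven
  have h3 := Cfsg.Agent.S1301.result (Subgroup.zpowers t) (isPGroup_zpowers ht)
  have hc : Subgroup.centralizer ((Subgroup.zpowers t : Subgroup X) : Set X) =
      Subgroup.centralizer ({t} : Set X) := by
    rw [Subgroup.zpowers_eq_closure, Subgroup.centralizer_closure]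
  rw [hc, hL2] at h3
  refine le_trans ?_ h3
  have h4 := Subgroup.map_mono (f := (Subgroup.centralizer ({t} : Set X)).subtype)
    (show L.subgroupOf (Subgroup.centralizer ({t} : Set X)) ≤
      Cfsg.pLayer 2 (Subgroup.centralizer ({t} : Set X)) from le_sSup h2)
  rwa [Subgroup.map_subgroupOf_eq_of_le hL.le] at h4

/-- The pump-up of a component. -/
theorem exists_pump (hFT : FT G) (hB : BL G) {K : Subgroup G} {x y : G} (hx : orderOf x = 2)
    (hK : Comp x K) (hy : orderOf y = 2) (hxy : x * y = y * x) (hyK : y ∈ centralizer (K : Set G)) :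
    ∃ D : Subgroup G, Comp y D ∧ (K = D ∨ K < D ∨
      (cj x D ≠ D ∧ (∀ d ∈ D, d * (x * d * x⁻¹) ∈ K) ∧ ∀ k ∈ K, ∃ d ∈ D, k = d * (x * d * x⁻¹))) := by
  set Y : Subgroup G := centralizer ({y} : Set G) with hY
  have hxY : x ∈ Y := mem_cs.mpr hxy
  have hKY : K ≤ Y := by
    intro k hk
    exact mem_cs.mpr (mem_centralizer_iff.mp hyK k hk)
  have h1 := comp_subgroupOf hxY hKY hK
  have hx' : orderOf (⟨x, hxY⟩ : Y) = 2 := by rw [Subgroup.orderOf_mk, hx]
  have h2 : 2 ∣ Nat.card (K.subgroupOf Y) := hFT.even' h1.quasi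
  have h3 := le_layer (hB y hy) hx' h1 h2
  have hsq : (⟨x, hxY⟩ : Y) * ⟨x, hxY⟩ = 1 := sq_of_order hx'
  obtain ⟨D, hD, hcase⟩ := trichotomy_of_le_layer (⟨x, hxY⟩ : Y) hsq (K.subgroupOf Y) h1 h3
  refine ⟨D.map Y.subtype, comp_map hD, ?_⟩
  have hKm : (K.subgroupOf Y).map Y.subtype = K := Subgroup.map_subgroupOf_eq_of_le hKY
  rcases hcase with h | h | ⟨h4, h5, h6⟩
  · left
    rw [← h, hKm]
  · right; left
    have := (Subgroup.map_lt_map_iff_of_injective (Subgroup.subtype_injective Y)).mpr h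
    rwa [hKm] at this
  · right; right
    refine ⟨?_, ?_, ?_⟩
    · intro h7
      apply h4
      have h8 := cj_map_subtype D (⟨x, hxY⟩ : Y)
      change (cj (⟨x, hxY⟩ : Y) D).map Y.subtype = cj x (D.map Y.subtype) at h8
      rw [h7] at h8
      exact Subgroup.map_injective (Subgroup.subtype_injective Y) h8
    · rintro _ ⟨d, hd, rfl⟩
      exact h5 d hd
    · intro k hk
      obtain ⟨d, hd, hkd⟩ := h6 ⟨k, hKY hk⟩ hk
      exact ⟨d, ⟨d, hd, rfl⟩, congrArg Subtype.val hkd⟩

/-- The system given by a conjugation invariant family `P` closed under pump-ups. -/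
def sysOf (hFT : FT G) (hB : BL G) (P : Subgroup G → Prop)
    (hconj : ∀ (g : G) (K : Subgroup G), P K → P (cj g K))
    (hpump : ∀ (K D : Subgroup G) (x y : G), P K → orderOf x = 2 → Comp x K → orderOf y = 2 →
      x * y = y * x → y ∈ centralizer (K : Set G) → Comp y D → (K < D ∨
        (cj x D ≠ D ∧ (∀ d ∈ D, d * (x * d * x⁻¹) ∈ K) ∧ ∀ k ∈ K, ∃ d ∈ D, k = d * (x * d * x⁻¹))) →
      P D) : Sys G where
  F K := P K ∧ IsQuasisimple K
  conj := by
    rintro g K ⟨h1, h2⟩
    exact ⟨hconj g K h1, Components.isQuasisimple_of_mulEquiv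
      (K.equivMapOfInjective (MulAut.conj g).toMonoidHom (MulAut.conj g).injective) h2⟩
  even := by
    rintro K ⟨-, h2⟩
    exact hFT.even h2
  pump := by
    rintro K x y ⟨h1, h2⟩ hx hK hy hxy hyK
    obtain ⟨D, hD, hcase⟩ := exists_pump hFT hB hx hK hy hxy hyK
    refine ⟨D, ⟨?_, hD.quasi⟩, hD, hcase⟩
    rcases hcase with h | h
    · rw [← h]; exact h1
    · exact hpump K D x y h1 hx hK hy hxy hyK hD h

/-- THEOREM A for all components. -/
theorem exists_terminal_component (hFT : FT G) (hB : BL G) (hct : ∃ (t : G) (K : Subgroup G),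
    orderOf t = 2 ∧ Comp t K) :
    ∃ (x : G) (K : Subgroup G), orderOf x = 2 ∧ Comp x K ∧ Frame K ∧
      ∀ (y : G) (L : Subgroup G), orderOf y = 2 → Comp y L → Nat.card L ≤ Nat.card K := by
  let S := sysOf hFT hB (fun _ => True) (fun _ _ h => h) (fun _ _ _ _ _ _ _ _ _ _ _ _ => trivial)
  have hS : ∀ K : Subgroup G, S.L K ↔ ∃ x : G, orderOf x = 2 ∧ Comp x K := by
    intro K
    constructor
    · rintro ⟨-, h⟩
      exact h
    · rintro ⟨x, hx, h⟩
      exact ⟨⟨trivial, h.quasi⟩, x, hx, h⟩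
  obtain ⟨t, K0, ht, hK0⟩ := hct
  obtain ⟨K, hM, hT⟩ := exists_terminal S ⟨K0, (hS K0).mpr ⟨t, ht, hK0⟩⟩
  obtain ⟨x, hx, hxK⟩ := (hS K).mp hM.1
  refine ⟨x, K, hx, hxK, ⟨hxK.quasi, hFT.even hxK.quasi, hT⟩, fun y L hy hL => ?_⟩
  exact hM.2 L ((hS L).mpr ⟨y, hy, hL⟩)

/-- Theorem D3 (first form): a standard component of maximal order, or a classical involution, or a
terminal component of 2-rank at least two which commutes with another conjugate. -/
theorem trichotomy_terminal (hFT : FT G) (hB : BL G) (hct : ∃ (t : G) (K : Subgroup G),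
    orderOf t = 2 ∧ Comp t K) :
    ∃ (x : G) (K : Subgroup G), orderOf x = 2 ∧ Comp x K ∧ Frame K ∧
      (∀ (y : G) (L : Subgroup G), orderOf y = 2 → Comp y L → Nat.card L ≤ Nat.card K) ∧
      ((∃ t ∈ K, IsClassicalInvolution t) ∨ (¬ PRankLE 2 1 K ∧ IsStandardSubgroup K) ∨
        (¬ PRankLE 2 1 K ∧ ∃ L ∈ Cls K, L ≠ K)) := by
  obtain ⟨x, K, hx, hxK, hF, hmax⟩ := exists_terminal_component hFT hB hct
  refine ⟨x, K, hx, hxK, hF, hmax, ?_⟩
  by_cases hrk : PRankLE 2 1 K
  · exact Or.inl (classical_of_rank_one hx hxK hF hrk)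
  · by_cases htriv : ∀ L ∈ Cls K, L = K
    · exact Or.inr (Or.inl ⟨hrk, standard_of_trivial_class hx hxK hF.term htriv⟩)
    · push Not at htriv
      exact Or.inr (Or.inr ⟨hrk, htriv⟩)

/-- Component type groups with `O(C(t)) = 1`... : a component of `C(t)/O(C(t))` gives a component of
`C(t)`. -/
theorem exists_comp_of_componentType (hB : BL G) (h : IsComponentType G) :
    ∃ (t : G) (K : Subgroup G), orderOf t = 2 ∧ Comp t K := by
  haveI : Fact (Nat.Prime 2) := ⟨Nat.prime_two⟩
  obtain ⟨t, ht, K, hK⟩ := h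
  have h1 : layer (↥(centralizer ({t} : Set G)) ⧸ pPrimeCore 2 ↥(centralizer ({t} : Set G))) ≠ ⊥ := by
    intro h2
    have h3 : K ≤ layer _ := Components.component_le_layer (K := K) hK
    rw [show layer (↥(centralizer ({t} : Set G)) ⧸ oddCore ↥(centralizer ({t} : Set G))) = ⊥ from h2,
      le_bot_iff] at h3
    exact Components.component_ne_bot (K := K) hK h3
  have h2 : layer ↥(centralizer ({t} : Set G)) ≠ ⊥ := by
    intro h3
    apply h1
    rw [← Lib.PComponents.map_pLayer, hB t ht, h3, Subgroup.map_bot]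
  have h3 : ∃ L : Subgroup ↥(centralizer ({t} : Set G)), IsComponent L := by
    by_contra hcon
    push Not at hcon
    apply h2
    rw [eq_bot_iff, Components.layer_le_iff]
    intro L hL
    exact absurd hL (hcon L)
  obtain ⟨L, hL⟩ := h3
  exact ⟨t, _, ht, comp_map hL⟩

end Cfsg.Agent.OddHalf.D3
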