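import Cfsg.Agent.OddHalf.Iface
import Cfsg.Agent.OddHalf.D3.Inst
import Cfsg.Agent.OddHalf.D6.PumpDown

/-!
# ODD, D3(a): the node (helper848)

From `exists_terminal` (helper245) and the pump-down of `L₂(q)` (helper419). Neither the odd order theorem nor the
B-property is used: `O(C(t)) = 1` gives `L_{2'}(C(t)) = E(C(t))` and the even order of the components.
-/

set_option autoImplicit false
set_option linter.style.haveILetI false

namespace Cfsg.Agent.OddHalf.D3.Plug

open Subgroup Cfsg Cfsg.Agent.SignalizersComponents Cfsg.Agent.OddHalf.D3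
open Cfsg.Agent.OddHalf.D6 (PumpDown.of_le PumpDown.of_diag)

variable {G : Type*} [Group G]

theorem comp_iff {t : G} {K : Subgroup G} : Comp t K ↔ Iface.CompOf t K :=
  ⟨fun h => ⟨h.1, h.2⟩, fun h => ⟨h.1, h.2⟩⟩

theorem isL2o_iff {X : Type*} [Group X] : D6.PumpDown.IsL2o X ↔ Iface.IsL2o X := Iff.rfl

/-- All involution centralizers are core-free. -/
abbrev Bal (G : Type*) [Group G] : Prop := ∀ t : G, orderOf t = 2 → centralizerPPrimeCore 2 t = ⊥

theorem core_bot (hb : Bal G) {y : G} (hy : orderOf y = 2) :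
    pPrimeCore 2 ↥(centralizer ({y} : Set G)) = ⊥ := by
  have h := hb y hy
  unfold centralizerPPrimeCore at h
  exact (map_eq_bot_iff_of_injective _ (subtype_injective _)).1 h

variable [Finite G]

theorem even_of_isComponent (hb : Bal G) {y : G} (hy : orderOf y = 2)
    {K : Subgroup ↥(centralizer ({y} : Set G))} (hK : IsComponent K) : 2 ∣ Nat.card K := by
  by_contra hodd
  have h1 := Lib.PComponents.le_pPrimeCore_of_isSubnormal (p := 2) hK.1
    ((Nat.Prime.coprime_iff_not_dvd Nat.prime_two).2 hodd).symm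
  rw [core_bot hb hy, le_bot_iff] at h1
  exact Components.component_ne_bot (K := K) hK h1

theorem even_of_comp (hb : Bal G) {y : G} (hy : orderOf y = 2) {K : Subgroup G} (h : Comp y K) :
    2 ∣ Nat.card K := by
  rw [← Nat.card_congr (Subgroup.subgroupOfEquivOfLe h.le).toEquiv]
  exact even_of_isComponent hb hy h.comp

theorem bl_of_bal (hb : Bal G) : BL G := by
  haveI : Fact (Nat.Prime 2) := ⟨Nat.prime_two⟩
  intro y hy
  apply le_antisymm
  · apply sSup_le
    intro J hJ
    have h1 : ⁅J, pPrimeCore 2 ↥(centralizer ({y} : Set G))⁆ = ⊥ := by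
      rw [core_bot hb hy, commutator_bot_right]
    exact Components.component_le_layer
      (ClassificationK.PCompTransport.isComponent_of_isPComponent 2 hJ h1)
  · rw [Components.layer_le_iff]
    intro K hK
    exact le_sSup (EvenComponent.isPComponent_of_isComponent hK (even_of_isComponent hb hy hK))

/-- The pump-up of a component. -/
theorem exists_pump (hb : Bal G) {K : Subgroup G} {x y : G} (hx : orderOf x = 2)
    (hK : Comp x K) (hy : orderOf y = 2) (hxy : x * y = y * x) (hyK : y ∈ centralizer (K : Set G)) :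
    ∃ D : Subgroup G, Comp y D ∧ (K = D ∨ K < D ∨
      (cj x D ≠ D ∧ (∀ d ∈ D, d * (x * d * x⁻¹) ∈ K) ∧ ∀ k ∈ K, ∃ d ∈ D, k = d * (x * d * x⁻¹))) := by
  set Y : Subgroup G := centralizer ({y} : Set G) with hY
  have hxY : x ∈ Y := mem_cs.mpr hxy
  have hKY : K ≤ Y := by
    intro k hk
    exact mem_cs.mpr (mem_centralizer_iff.mp hyK k hk)
  have h1 := comp_subgroupOf hxY hKY hK
  have hx' : orderOf (⟨x, hxY⟩ : Y) = 2 := by rw [Subgroup.orderOf_mk, hx]
  have h2 : 2 ∣ Nat.card (K.subgroupOf Y) := by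
    rw [Nat.card_congr (Subgroup.subgroupOfEquivOfLe hKY).toEquiv]
    exact even_of_comp hb hx hK
  have h3 := le_layer (bl_of_bal hb y hy) hx' h1 h2
  have hsq : (⟨x, hxY⟩ : Y) * ⟨x, hxY⟩ = 1 := sq_of_order hx'
  obtain ⟨D, hD, hcase⟩ := trichotomy_of_le_layer (⟨x, hxY⟩ : Y) hsq (K.subgroupOf Y) h1 h3
  refine ⟨D.map Y.subtype, comp_map hD, ?_⟩
  have hKm : (K.subgroupOf Y).map Y.subtype = K := Subgroup.map_subgroupOf_eq_of_le hKY
  rcases hcase with h | h | ⟨h4, h5, h6⟩
  · left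
    rw [← h, hKm]
  · right; left
    have := (Subgroup.map_lt_map_iff_of_injective (Subgroup.subtype_injective Y)).mpr h
    rwa [hKm] at this
  · right; right
    refine ⟨?_, ?_, ?_⟩
    · intro h7
      apply h4
      have h8 := cj_map_subtype D (⟨x, hxY⟩ : Y)
      change (cj (⟨x, hxY⟩ : Y) D).map Y.subtype = cj x (D.map Y.subtype) at h8
      rw [h7] at h8
      exact Subgroup.map_injective (Subgroup.subtype_injective Y) h8
    · rintro _ ⟨d, hd, rfl⟩
      exact h5 d hd
    · intro k hk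
      obtain ⟨d, hd, hkd⟩ := h6 ⟨k, hKY hk⟩ hk
      exact ⟨d, ⟨d, hd, rfl⟩, congrArg Subtype.val hkd⟩

/-- The system given by a conjugation invariant family `P` closed under pump-ups. -/
def sysOf (hb : Bal G) (P : Subgroup G → Prop)
    (hconj : ∀ (g : G) (K : Subgroup G), P K → P (cj g K))
    (hpump : ∀ (K D : Subgroup G) (x y : G), P K → orderOf x = 2 → Comp x K → orderOf y = 2 →
      x * y = y * x → y ∈ centralizer (K : Set G) → Comp y D → (K < D ∨
        (cj x D ≠ D ∧ (∀ d ∈ D, d * (x * d * x⁻¹) ∈ K) ∧ ∀ k ∈ K, ∃ d ∈ D, k = d * (x * d * x⁻¹))) →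
      P D) : Sys G where
  F K := P K ∧ 2 ∣ Nat.card K
  conj := by
    rintro g K ⟨h1, h2⟩
    exact ⟨hconj g K h1, by rwa [card_cj]⟩
  even := by
    rintro K ⟨-, h2⟩
    exact h2
  pump := by
    rintro K x y ⟨h1, h2⟩ hx hK hy hxy hyK
    obtain ⟨D, hD, hcase⟩ := exists_pump hb hx hK hy hxy hyK
    refine ⟨D, ⟨?_, even_of_comp hb hy hD⟩, hD, hcase⟩
    rcases hcase with h | h
    · rw [← h]; exact h1
    · exact hpump K D x y h1 hx hK hy hxy hyK hD h

omit [Finite G] in
/-- Pump-ups of components which are not `L₂(odd)` are not `L₂(odd)`. -/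
theorem not_l2o_pump {K D : Subgroup G} {x y : G} (hP : ¬ Iface.IsL2o K) (hx : orderOf x = 2) (hK : Comp x K)
    (hxy : x * y = y * x) (hD : Comp y D)
    (h : K < D ∨
      (cj x D ≠ D ∧ (∀ d ∈ D, d * (x * d * x⁻¹) ∈ K) ∧ ∀ k ∈ K, ∃ d ∈ D, k = d * (x * d * x⁻¹))) :
    ¬ Iface.IsL2o D := by
  intro hL
  apply hP
  have hx2 : x * x = 1 := sq_of_order hx
  have hKx : ∀ k ∈ K, k * x = x * k := fun k hk => mem_cs.mp (hK.le hk)
  have hKne : K ≠ ⊥ := by
    rintro rfl
    exact not_comm_self hK.quasi bot_le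
  have hDx := hD.conj_of_comm hxy
  rcases h with h | ⟨h1, h2, h3⟩
  · have hKc : cj x K = K := cj_eq_of_mem_centralizer (by
      rw [mem_centralizer_iff]
      exact fun k hk => hKx k hk)
    have hcj : cj x D = D := by
      by_contra hne
      have h4 := hDx.comm hD hne
      have h5 : K ≤ cj x D := by
        rw [← hKc]
        exact cj_mono h.le
      exact not_comm_self hK.quasi ((h5.trans h4).trans (centralizer_le (SetLike.coe_subset_coe.2 h.le)))
    refine D6.PumpDown.of_le (D := D) (x := x) hL hx2 ?_ h.le hKx hK.perfect hKne ?_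
    · intro d hd
      rw [← hcj]
      exact conj_mem_cj hd
    · exact hK.comp.1.comap (inclusion (inf_le_right : D ⊓ centralizer ({x} : Set G) ≤ _))
  · have h4 := hD.comm hDx (Ne.symm h1)
    refine D6.PumpDown.of_diag (D := D) (x := x) hL hx2 ?_ ?_ hKx hKne ?_
    · intro a ha b hb
      exact comm_elt h4 ha (conj_mem_cj hb)
    · intro k hk
      obtain ⟨d, hd, hkd⟩ := h3 k hk
      exact ⟨d, hd, d, hd, hkd⟩
    · intro Δ hΔ
      have h5 : K.subgroupOf Δ = ⊤ := by
        rw [subgroupOf_eq_top]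
        intro g hg
        obtain ⟨d, hd, rfl⟩ := (hΔ g).1 hg
        exact h2 d hd
      rw [h5]
      exact Subgroup.IsSubnormal.top

/-- The terminal component of maximal order in the family `P`. -/
theorem exists_terminal_of (hb : Bal G) (P : Subgroup G → Prop)
    (hconj : ∀ (g : G) (K : Subgroup G), P K → P (cj g K))
    (hpump : ∀ (K D : Subgroup G) (x y : G), P K → orderOf x = 2 → Comp x K → orderOf y = 2 →
      x * y = y * x → y ∈ centralizer (K : Set G) → Comp y D → (K < D ∨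
        (cj x D ≠ D ∧ (∀ d ∈ D, d * (x * d * x⁻¹) ∈ K) ∧ ∀ k ∈ K, ∃ d ∈ D, k = d * (x * d * x⁻¹))) →
      P D) (hne : ∃ (t : G) (L : Subgroup G), orderOf t = 2 ∧ Comp t L ∧ P L) :
    ∃ K : Subgroup G, P K ∧ (∃ t : G, orderOf t = 2 ∧ Comp t K) ∧ Terminal K ∧
      ∀ (y : G) (L : Subgroup G), orderOf y = 2 → Comp y L → P L → Nat.card L ≤ Nat.card K := by
  let S := sysOf hb P hconj hpump
  have hS : ∀ K : Subgroup G, S.L K ↔ P K ∧ ∃ x : G, orderOf x = 2 ∧ Comp x K := by
    intro K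
    constructor
    · rintro ⟨h, h'⟩
      exact ⟨h.1, h'⟩
    · rintro ⟨h, x, hx, h'⟩
      exact ⟨⟨h, even_of_comp hb hx h'⟩, x, hx, h'⟩
  obtain ⟨t, L, ht, hL, hP⟩ := hne
  obtain ⟨K, hM, hT⟩ := exists_terminal S ⟨L, (hS L).mpr ⟨hP, t, ht, hL⟩⟩
  obtain ⟨h1, h2⟩ := (hS K).mp hM.1
  exact ⟨K, h1, h2, hT, fun y L hy hL hP => hM.2 L ((hS L).mpr ⟨hP, y, hy, hL⟩)⟩

theorem exists_term {G : Type*} [Group G] [Finite G] (hb : Bal G)
    (hne : ∃ (t : G) (L : Subgroup G), orderOf t = 2 ∧ Iface.CompOf t L) :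
    ∃ K : Subgroup G, Iface.Term G K := by
  by_cases hc : ∃ (t : G) (L : Subgroup G), orderOf t = 2 ∧ Comp t L ∧ ¬ Iface.IsL2o L
  · obtain ⟨K, hP, hcomp, hT, hmax⟩ := exists_terminal_of hb (fun K => ¬ Iface.IsL2o K)
      (fun g K h h' => h (D6.PumpDown.IsL2o.of_equiv h'
        (K.equivMapOfInjective (MulAut.conj g).toMonoidHom (MulAut.conj g).injective).symm))
      (fun K D x y hP hx hK hy hxy hyK hD h => not_l2o_pump hP hx hK hxy hD h) hc
    obtain ⟨t, ht, hK⟩ := hcomp
    exact ⟨K, {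
      comp := ⟨t, ht, comp_iff.1 hK⟩
      term := fun y hy hyK => comp_iff.1 (hT y hy hyK)
      pref := fun h => absurd h hP
      max := fun y L hy hL hn => hmax y L hy (comp_iff.2 hL) fun h => hP (hn h) }⟩
  · push Not at hc
    obtain ⟨t0, L0, ht0, hL0⟩ := hne
    obtain ⟨K, -, hcomp, hT, hmax⟩ := exists_terminal_of hb (fun _ => True) (fun _ _ h => h)
      (fun _ _ _ _ _ _ _ _ _ _ _ _ => trivial) ⟨t0, L0, ht0, comp_iff.2 hL0, trivial⟩
    obtain ⟨t, ht, hK⟩ := hcomp
    exact ⟨K, {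
      comp := ⟨t, ht, comp_iff.1 hK⟩
      term := fun y hy hyK => comp_iff.1 (hT y hy hyK)
      pref := fun _ y L hy hL => hc y L hy (comp_iff.2 hL)
      max := fun y L hy hL _ => hmax y L hy (comp_iff.2 hL) trivial }⟩

/-- The frame of `D3/Class.lean`. -/
theorem frame_of_term (hb : Bal G) {K : Subgroup G} (h : Iface.Term0 G K) : Frame K := by
  obtain ⟨t, ht, hc⟩ := h.comp
  exact ⟨(comp_iff.2 hc).quasi, even_of_comp hb ht (comp_iff.2 hc), fun y hy hyK => comp_iff.2 (h.term y hy hyK)⟩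

/-- **D3(a)**. -/
theorem d3a : Iface.D3a := by
  intro G _ hfin hb hne
  exact exists_term hb hne

end Cfsg.Agent.OddHalf.D3.Plug
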