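import Cfsg.Agent.SignalizersComponents.InvolutionComponent
import Cfsg.Agent.SignalizersComponents.EvenComponent
import Cfsg.Agent.SignalizersComponents.DistinctComponents
import Cfsg.Agent.S1304

/-!
# Components of centralizers of involutions: basic calculus

`cj g K` is the conjugate `g K g⁻¹`, `Comp t K` says that `K` is a component of `C_G(t)`.
`Diag K D x`: `K = {d d^x : d ∈ D}` where `D` and `D^x` commute and `d ↦ d d^x` is injective.
-/

set_option autoImplicit false

namespace Cfsg.Agent.OddHalf.D3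

open Subgroup Cfsg Cfsg.Agent.SignalizersComponents
open scoped commutatorElement

section Conj

variable {G : Type*} [Group G]

/-- The conjugate `g K g⁻¹`. -/
abbrev cj (g : G) (K : Subgroup G) : Subgroup G := K.map (MulAut.conj g).toMonoidHom

theorem mem_cj {g x : G} {K : Subgroup G} : x ∈ cj g K ↔ g⁻¹ * x * g ∈ K :=
  InvolutionComponent.mem_map_conj_iff g x K

theorem conj_mem_cj {g x : G} {K : Subgroup G} (hx : x ∈ K) : g * x * g⁻¹ ∈ cj g K := by
  rw [mem_cj]
  have : g⁻¹ * (g * x * g⁻¹) * g = x := by group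
  rwa [this]

theorem cj_cj (g h : G) (K : Subgroup G) : cj g (cj h K) = cj (g * h) K := by
  ext x
  rw [mem_cj, mem_cj, mem_cj]
  have : h⁻¹ * (g⁻¹ * x * g) * h = (g * h)⁻¹ * x * (g * h) := by group
  rw [this]

theorem cj_one (K : Subgroup G) : cj 1 K = K := by
  ext x
  rw [mem_cj]
  simp

theorem cj_inv_cj (g : G) (K : Subgroup G) : cj g⁻¹ (cj g K) = K := by
  rw [cj_cj, inv_mul_cancel, cj_one]

theorem cj_cj_inv (g : G) (K : Subgroup G) : cj g (cj g⁻¹ K) = K := by
  rw [cj_cj, mul_inv_cancel, cj_one]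

theorem cj_mono {g : G} {K L : Subgroup G} (h : K ≤ L) : cj g K ≤ cj g L := Subgroup.map_mono h

theorem cj_injective (g : G) : Function.Injective (cj g) := by
  intro K L h
  have := congrArg (cj g⁻¹) h
  rwa [cj_inv_cj, cj_inv_cj] at this

theorem card_cj (g : G) (K : Subgroup G) : Nat.card (cj g K) = Nat.card K :=
  (Nat.card_congr (K.equivMapOfInjective _ (MulAut.conj g).injective).toEquiv).symm

theorem mem_normalizer_iff_cj {g : G} {K : Subgroup G} : g ∈ normalizer (K : Set G) ↔ cj g K = K :=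
  Subgroup.mem_normalizer_iff_map_conj_eq

theorem cj_eq_of_mem {g : G} {K : Subgroup G} (hg : g ∈ K) : cj g K = K :=
  mem_normalizer_iff_cj.mp (le_normalizer hg)

theorem cj_eq_of_mem_centralizer {g : G} {K : Subgroup G} (hg : g ∈ centralizer (K : Set G)) :
    cj g K = K :=
  mem_normalizer_iff_cj.mp (centralizer_le_normalizer _ hg)

theorem cj_centralizer (g : G) (K : Subgroup G) :
    cj g (centralizer (K : Set G)) = centralizer ((cj g K : Subgroup G) : Set G) := by
  ext x
  rw [mem_cj, mem_centralizer_iff, mem_centralizer_iff]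
  constructor
  · intro h y hy
    have h1 := h (g⁻¹ * y * g) (mem_cj.mp hy)
    calc y * x = g * ((g⁻¹ * y * g) * (g⁻¹ * x * g)) * g⁻¹ := by group
      _ = x * y := by rw [h1]; group
  · intro h y hy
    have h1 := h (g * y * g⁻¹) (conj_mem_cj hy)
    calc y * (g⁻¹ * x * g) = g⁻¹ * ((g * y * g⁻¹) * x) * g := by group
      _ = g⁻¹ * x * g * y := by rw [h1]; group

theorem cj_centralizer_singleton (g t : G) :
    cj g (centralizer ({t} : Set G)) = centralizer ({g * t * g⁻¹} : Set G) :=
  DistinctComponents.map_conj_centralizer_singleton g t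

theorem mem_cs {x t : G} : x ∈ centralizer ({t} : Set G) ↔ x * t = t * x :=
  Subgroup.mem_centralizer_singleton_iff

theorem orderOf_conj (g t : G) : orderOf (g * t * g⁻¹) = orderOf t :=
  orderOf_injective (MulAut.conj g).toMonoidHom (MulAut.conj g).injective t

/-- Commuting subgroups, symmetric. -/
theorem comm_symm {K L : Subgroup G} (h : K ≤ centralizer (L : Set G)) : L ≤ centralizer (K : Set G) :=
  le_centralizer_iff.mp h

theorem comm_cj {K L : Subgroup G} {g : G} (h : K ≤ centralizer (L : Set G)) :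
    cj g K ≤ centralizer ((cj g L : Subgroup G) : Set G) := by
  rw [← cj_centralizer]
  exact cj_mono h

theorem comm_elt {K L : Subgroup G} (h : K ≤ centralizer (L : Set G)) {x y : G} (hx : x ∈ K)
    (hy : y ∈ L) : x * y = y * x :=
  (mem_centralizer_iff.mp (h hx) y hy).symm

end Conj

section Comps

variable {G : Type*} [Group G]

/-- `K` is a component of `C_G(t)`. -/
structure Comp (t : G) (K : Subgroup G) : Prop where
  le : K ≤ centralizer ({t} : Set G)
  comp : IsComponent (K.subgroupOf (centralizer ({t} : Set G)))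

theorem Comp.quasi {t : G} {K : Subgroup G} (h : Comp t K) : IsQuasisimple K :=
  (Components.isQuasisimple_congr (Subgroup.subgroupOfEquivOfLe h.le)).mp h.comp.2

theorem Comp.perfect {t : G} {K : Subgroup G} (h : Comp t K) : ⁅K, K⁆ = K :=
  Subgroup.isPerfect_iff.mp h.quasi.1

theorem not_comm_self {K : Subgroup G} (h : IsQuasisimple K) : ¬ K ≤ centralizer (K : Set G) := by
  intro h1
  apply Components.quasisimple_center_ne_top h
  rw [eq_top_iff]
  intro x _
  rw [mem_center_iff]
  intro g
  exact Subtype.ext (comm_elt h1 g.2 x.2)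

theorem Comp.mem {t : G} {K : Subgroup G} (h : Comp t K) : t ∈ centralizer (K : Set G) := by
  rw [mem_centralizer_iff]
  intro x hx
  exact mem_cs.mp (h.le hx)

theorem Comp.conj {t : G} {K : Subgroup G} (h : Comp t K) (g : G) : Comp (g * t * g⁻¹) (cj g K) := by
  have h1 := DistinctComponents.isComponent_subgroupOf_conj h.le h.comp g
  rw [DistinctComponents.map_conj_centralizer_singleton] at h1
  refine ⟨?_, h1⟩
  have h2 := cj_mono (g := g) h.le
  rwa [cj_centralizer_singleton] at h2

theorem Comp.conj_of_comm {t : G} {K : Subgroup G} (h : Comp t K) {g : G} (hg : g * t = t * g) :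
    Comp t (cj g K) := by
  have h1 := h.conj g
  have h2 : g * t * g⁻¹ = t := by rw [hg]; group
  rwa [h2] at h1

theorem Comp.comm {t : G} {K L : Subgroup G} (hK : Comp t K) (hL : Comp t L) (hne : K ≠ L) :
    K ≤ centralizer (L : Set G) := by
  have h1 : K.subgroupOf (centralizer ({t} : Set G)) ≠ L.subgroupOf (centralizer ({t} : Set G)) := by
    intro h
    apply hne
    have := congrArg (Subgroup.map (centralizer ({t} : Set G)).subtype) h
    rwa [Subgroup.map_subgroupOf_eq_of_le hK.le, Subgroup.map_subgroupOf_eq_of_le hL.le] at this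
  have h2 := Components.component_le_centralizer_of_ne hK.comp hL.comp h1
  intro x hx
  rw [mem_centralizer_iff]
  intro y hy
  have h3 := h2 (show (⟨x, hK.le hx⟩ : centralizer ({t} : Set G)) ∈ K.subgroupOf _ from hx)
  exact congrArg Subtype.val (mem_centralizer_iff.mp h3 ⟨y, hL.le hy⟩ hy)

/-- Transport of relative components to a subgroup. -/
theorem comp_subgroupOf {H K : Subgroup G} {x : G} (hxH : x ∈ H) (hKH : K ≤ H) (h : Comp x K) :
    Comp (⟨x, hxH⟩ : H) (K.subgroupOf H) := by
  have hle : K.subgroupOf H ≤ centralizer ({(⟨x, hxH⟩ : H)} : Set H) := by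
    intro k hk
    rw [mem_cs]
    exact Subtype.ext (mem_cs.mp (h.le hk))
  refine ⟨hle, ?_, ?_⟩
  · let ι : centralizer ({(⟨x, hxH⟩ : H)} : Set H) →* centralizer ({x} : Set G) :=
      (H.subtype.comp (centralizer ({(⟨x, hxH⟩ : H)} : Set H)).subtype).codRestrict _ (by
        rintro ⟨c, hc⟩
        rw [mem_cs]
        exact congrArg Subtype.val (mem_cs.mp hc))
    have h2 : (K.subgroupOf H).subgroupOf (centralizer ({(⟨x, hxH⟩ : H)} : Set H)) =
        (K.subgroupOf (centralizer ({x} : Set G))).comap ι := rfl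
    rw [h2]
    exact h.comp.1.comap ι
  · have e1 := Subgroup.subgroupOfEquivOfLe hle
    have e2 := Subgroup.subgroupOfEquivOfLe hKH
    exact Components.isQuasisimple_of_mulEquiv (e1.trans e2).symm h.quasi

/-- A component of `C_G(y)`, viewed in `G`. -/
theorem comp_map {y : G} {D : Subgroup (centralizer ({y} : Set G))} (h : IsComponent D) :
    Comp y (D.map (centralizer ({y} : Set G)).subtype) := by
  refine ⟨map_subtype_le D, ?_⟩
  have h1 : (D.map (centralizer ({y} : Set G)).subtype).subgroupOf (centralizer ({y} : Set G)) = D :=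
    Subgroup.comap_map_eq_self_of_injective (Subgroup.subtype_injective _) D
  rwa [h1]

theorem cj_map_subtype {H : Subgroup G} (D : Subgroup H) (x : H) :
    (cj x D).map H.subtype = cj (x : G) (D.map H.subtype) := by
  ext u
  simp only [Subgroup.mem_map]
  constructor
  · rintro ⟨v, ⟨w, hw, rfl⟩, rfl⟩
    exact ⟨w, ⟨w, hw, rfl⟩, rfl⟩
  · rintro ⟨v, ⟨w, hw, rfl⟩, rfl⟩
    exact ⟨x * w * x⁻¹, ⟨w, hw, rfl⟩, rfl⟩

end Comps

section Trichotomy

variable {G : Type*} [Group G]

/-- The trichotomy for a component `L` of `C_G(t)` contained in the layer, with the diagonal case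
explicit. -/
theorem trichotomy_of_le_layer (t : G) (ht : t * t = 1) (L : Subgroup G) (hL : Comp t L)
    (hLE : L ≤ layer G) :
    ∃ D : Subgroup G, IsComponent D ∧ (L = D ∨ L < D ∨
      (cj t D ≠ D ∧ (∀ d ∈ D, d * (t * d * t⁻¹) ∈ L) ∧ (∀ l ∈ L, ∃ d ∈ D, l = d * (t * d * t⁻¹)))) := by
  obtain ⟨D, hD, hLD⟩ :=
    InvolutionComponent.exists_component_le_sup t ht L hL.le hL.comp hLE
  refine ⟨D, hD, ?_⟩
  by_cases hDt : cj t D = D
  · change L ≤ D ⊔ cj t D at hLD
    rw [hDt, sup_idem] at hLD
    rcases eq_or_lt_of_le hLD with h | h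
    · exact Or.inl h
    · exact Or.inr (Or.inl h)
  · right; right
    refine ⟨hDt, ?_⟩
    have hcomp := Components.component_commutator_eq_bot_of_ne hD (Components.isComponent_conj t hD)
      (fun h => hDt h.symm)
    have hDD : ∀ x ∈ D, ∀ y ∈ D, x * (t * y * t⁻¹) = (t * y * t⁻¹) * x := by
      intro x hx y hy
      rw [commutator_eq_bot_iff_le_centralizer] at hcomp
      exact (mem_centralizer_iff.mp (hcomp hx) (t * y * t⁻¹) (conj_mem_cj hy)).symm
    obtain ⟨δ, hδ⟩ := InvolutionComponent.exists_diag t D hDD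
    have htt : ∀ x : G, t * (t * x * t⁻¹) * t⁻¹ = x := by
      intro x
      have : t * (t * x * t⁻¹) * t⁻¹ = (t * t) * x * (t * t)⁻¹ := by group
      rw [this, ht]; simp
    have hsup : ∀ n ∈ (D ⊔ D.map (MulAut.conj t).toMonoidHom) ⊓
        Subgroup.centralizer ({t} : Set G), ∃ x : D, ∃ z : G,
          z ∈ centralizer ((D ⊔ D.map (MulAut.conj t).toMonoidHom : Subgroup G) : Set G) ∧
          δ x * z = n := by
      rintro n ⟨hn1, hn2⟩
      have hcen : D.map (MulAut.conj t).toMonoidHom ≤ centralizer (D : Set G) := by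
        rw [← commutator_eq_bot_iff_le_centralizer, commutator_comm]; exact hcomp
      obtain ⟨x, hx, y', hy', rfl⟩ :=
        (CoprimeBasic.mem_sup_iff (hcen.trans (centralizer_le_normalizer _)) n).mp hn1
      obtain ⟨y, hy, rfl⟩ := hy'
      have hyy : (MulAut.conj t).toMonoidHom y = t * y * t⁻¹ := rfl
      rw [hyy] at hn2 ⊢
      have h1 : t * (x * (t * y * t⁻¹)) * t⁻¹ = x * (t * y * t⁻¹) := by
        rw [mem_centralizer_iff.mp hn2 t rfl]; group
      have h2 : (t * x * t⁻¹) * y = x * (t * y * t⁻¹) := by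
        rw [← h1]
        have : t * (x * (t * y * t⁻¹)) * t⁻¹ = (t * x * t⁻¹) * (t * (t * y * t⁻¹) * t⁻¹) := by group
        rw [this, htt]
      have h3 : y * (t * x * t⁻¹) = x * (t * y * t⁻¹) := by rw [hDD y hy x hx, h2]
      have hzD : x⁻¹ * y ∈ D := D.mul_mem (D.inv_mem hx) hy
      have hz : t * (x⁻¹ * y) * t⁻¹ = x⁻¹ * y := by
        have e1 : t * (x⁻¹ * y) * t⁻¹ = (t * x * t⁻¹)⁻¹ * (t * y * t⁻¹) := by group
        have e2 : (t * y * t⁻¹) = x⁻¹ * (y * (t * x * t⁻¹)) := by rw [h3]; group
        have e3 : x⁻¹ * y * (t * x * t⁻¹) = (t * x * t⁻¹) * (x⁻¹ * y) := hDD _ hzD x hx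
        rw [e1]
        rw [e2, ← mul_assoc x⁻¹ y, e3]
        group
      refine ⟨⟨x, hx⟩, x⁻¹ * y, ?_, ?_⟩
      · rw [← Subgroup.zpowers_le, le_centralizer_iff]
        refine sup_le ?_ ?_
        · rw [le_centralizer_iff, Subgroup.zpowers_le, mem_centralizer_iff]
          intro d hd
          have := hDD d hd _ hzD
          rwa [hz] at this
        · rw [le_centralizer_iff, Subgroup.zpowers_le, mem_centralizer_iff]
          rintro d ⟨d, hd, rfl⟩
          exact (hDD _ hzD d hd).symm
      · rw [hδ]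
        show x * (t * x * t⁻¹) * (x⁻¹ * y) = x * (t * y * t⁻¹)
        have e2 : (t * y * t⁻¹) = x⁻¹ * (y * (t * x * t⁻¹)) := by rw [h3]; group
        have e3 : x⁻¹ * y * (t * x * t⁻¹) = (t * x * t⁻¹) * (x⁻¹ * y) := hDD _ hzD x hx
        rw [e2, ← mul_assoc x⁻¹ y, e3]
        group
    set N := (D ⊔ D.map (MulAut.conj t).toMonoidHom) ⊓ Subgroup.centralizer ({t} : Set G) with hN
    have hδN : ∀ x : D, δ x ∈ N := by
      rintro ⟨x, hx⟩
      rw [hδ, hN]
      refine mem_inf.mpr ⟨mul_mem (mem_sup_left hx) (mem_sup_right ?_), ?_⟩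
      · exact ⟨x, hx, rfl⟩
      · rw [mem_centralizer_iff]
        rintro s rfl
        show s * (x * (s * x * s⁻¹)) = x * (s * x * s⁻¹) * s
        have e1 : s * (x * (s * x * s⁻¹)) = (s * x * s⁻¹) * (s * (s * x * s⁻¹) * s⁻¹) * s := by group
        rw [e1, htt, ← hDD x hx x hx]
    have hNN : ⁅N, N⁆ ≤ δ.range := by
      rw [commutator_le]
      intro a ha b hb
      obtain ⟨x, z, hz, rfl⟩ := hsup a ha
      obtain ⟨y, w, hw, rfl⟩ := hsup b hb
      have hMx : ∀ x : D, δ x ∈ (D ⊔ D.map (MulAut.conj t).toMonoidHom) := fun x =>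
        (mem_inf.mp (hδN x)).1
      have hwM : w ∈ (D ⊔ D.map (MulAut.conj t).toMonoidHom) := by
        have h1 := (mem_inf.mp hb).1
        have : w = (δ y)⁻¹ * (δ y * w) := by group
        rw [this]
        exact mul_mem (inv_mem (hMx y)) h1
      have c1 : Commute z (δ y * w) := by
        refine Commute.mul_right ?_ ?_
        · exact (mem_centralizer_iff.mp hz _ (hMx y)).symm
        · exact (mem_centralizer_iff.mp hz _ hwM).symm
      have c2 : Commute w (δ x)⁻¹ := Commute.inv_right (mem_centralizer_iff.mp hw _ (hMx x)).symm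
      have e : ⁅δ x * z, δ y * w⁆ = ⁅δ x, δ y⁆ := by
        calc ⁅δ x * z, δ y * w⁆ = δ x * (z * (δ y * w)) * z⁻¹ * (δ x)⁻¹ * (δ y * w)⁻¹ := by
              simp only [commutatorElement_def]; group
          _ = δ x * δ y * (w * (δ x)⁻¹) * w⁻¹ * (δ y)⁻¹ := by rw [c1.eq]; group
          _ = _ := by rw [c2.eq]; simp only [commutatorElement_def]; group
      rw [e, ← map_commutatorElement]
      exact ⟨_, rfl⟩
    have hp : Group.IsPerfect L := hL.quasi.1
    have hLN : L ≤ N := le_inf hLD hL.le
    have hLδ : L ≤ δ.range := by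
      rw [← Subgroup.isPerfect_iff.mp hp]
      exact (commutator_mono hLN hLN).trans hNN
    have hδL : δ.range ≤ L := by
      let δ' : D →* centralizer ({t} : Set G) := δ.codRestrict _ (fun x => (mem_inf.mp (hδN x)).2)
      have h1 : ((L.subgroupOf (centralizer ({t} : Set G))).comap δ').IsSubnormal := hL.comp.1.comap δ'
      have h2 : (L.subgroupOf (centralizer ({t} : Set G))).comap δ' = L.comap δ := rfl
      rw [h2] at h1
      rcases Components.quasisimple_subnormal hD.2 h1 with h | h
      · rintro _ ⟨x, rfl⟩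
        have : x ∈ L.comap δ := by rw [h]; trivial
        exact this
      · exfalso
        apply Components.quasisimple_center_ne_top hL.comp.2
        rw [eq_top_iff]
        intro x _
        rw [mem_center_iff]
        intro g
        apply Subtype.ext
        apply Subtype.ext
        obtain ⟨x', hx'⟩ := hLδ x.2
        obtain ⟨g', hg'⟩ := hLδ g.2
        have h3 : x' ∈ center D := h (by rw [mem_comap, hx']; exact x.2)
        have h4 := mem_center_iff.mp h3 g'
        have h5 := congrArg δ h4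
        rw [map_mul, map_mul, hx', hg'] at h5
        exact h5
    refine ⟨fun d hd => ?_, fun l hl => ?_⟩
    · have := hδL ⟨⟨d, hd⟩, rfl⟩
      rwa [hδ] at this
    · obtain ⟨d, hd⟩ := hLδ hl
      exact ⟨d, d.2, by rw [← hd, hδ]⟩

end Trichotomy

end Cfsg.Agent.OddHalf.D3
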