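import Cfsg.Agent.OddHalf.D3.Swap
import Cfsg.Agent.OddHalf.D3.ThreeMain

/-!
# ODD D3 (iii), `n = 2`: configurations (text of helper133, bb ODD 9195, (0)-(2))

`Fam2`: the frame with at most two members in a class, simple members and no swapping. `Cfg 𝓒 Q`: the maximal
2-subgroup `Q` stabilising two adjacent classes.
-/

set_option autoImplicit false

namespace Cfsg.Agent.OddHalf.D3.TwoCfg

open Cfsg.Agent.OddHalf.D3.ThreeDefs Cfsg.Agent.OddHalf.D3.ThreeFam Cfsg.Agent.OddHalf.D3.ThreeMain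
open Cfsg.Agent.OddHalf.D3.Swap
open scoped commutatorElement

universe u

variable {G : Type u} [Group G]

/-! ### Sylow subgroups inside `G` -/

/-- `T` is a Sylow 2-subgroup of `X` -/
def IsSyl (T X : Subgroup G) : Prop :=
  T ≤ X ∧ IsPGroup 2 T ∧ ∀ R : Subgroup G, R ≤ X → IsPGroup 2 R → ∃ k ∈ X, cj k R ≤ T

theorem IsSyl.eq [Finite G] {T X R : Subgroup G} (h : IsSyl T X) (hRX : R ≤ X) (hR : IsPGroup 2 R) (hTR : T ≤ R) :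
    R = T := by
  obtain ⟨k, -, hk⟩ := h.2.2 R hRX hR
  symm
  refine Subgroup.eq_of_le_of_card_ge hTR ?_
  rw [← card_cj k R]
  exact Nat.card_le_card_of_injective _ (Subgroup.inclusion_injective hk)

theorem IsSyl.le [Finite G] {T X Y : Subgroup G} (h : IsSyl T X) (hYX : Y ≤ X) (hTY : T ≤ Y) : IsSyl T Y := by
  obtain ⟨T', hT'Y, hT', hTT', hc⟩ := exists_syl h.2.1 hTY
  have := h.eq (hT'Y.trans hYX) hT' hTT'
  subst this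
  exact ⟨hTY, h.2.1, hc⟩

/-- a maximal 2-subgroup is Sylow -/
theorem isSyl_of_max [Finite G] {T X : Subgroup G} (hTX : T ≤ X) (hT : IsPGroup 2 T)
    (h : ∀ R : Subgroup G, R ≤ X → IsPGroup 2 R → Nat.card R ≤ Nat.card T) : IsSyl T X := by
  obtain ⟨T', hT'X, hT', hTT', hc⟩ := exists_syl hT hTX
  have h1 : T = T' := Subgroup.eq_of_le_of_card_ge hTT' (h T' hT'X hT')
  subst h1
  exact ⟨hTX, hT, hc⟩

theorem IsSyl.card_le [Finite G] {T X R : Subgroup G} (h : IsSyl T X) (hRX : R ≤ X) (hR : IsPGroup 2 R) :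
    Nat.card R ≤ Nat.card T := by
  obtain ⟨k, -, hk⟩ := h.2.2 R hRX hR
  rw [← card_cj k R]
  exact Nat.card_le_card_of_injective _ (Subgroup.inclusion_injective hk)

/-- a Sylow 2-subgroup meets a normal subgroup with an involution in an involution -/
theorem IsSyl.exists_inv [Finite G] {T X Y : Subgroup G} (h : IsSyl T X) (hYX : Y ≤ X) (hn : ∀ x ∈ X, cj x Y = Y)
    {y : G} (hy : y ∈ Y) (hy2 : y * y = 1) (hy1 : y ≠ 1) : ∃ x ∈ Y, x ∈ T ∧ x * x = 1 ∧ x ≠ 1 := by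
  have hz : IsPGroup 2 (Subgroup.zpowers y) := by
    refine isPGroup_of_sq fun z hz => ?_
    obtain ⟨k, rfl⟩ := Subgroup.mem_zpowers_iff.mp hz
    have h2 : y ^ (2 : ℤ) = 1 := by rw [zpow_ofNat, pow_two]; exact hy2
    rw [← zpow_add, ← two_mul, zpow_mul, h2, one_zpow]
  obtain ⟨k, hk, hkT⟩ := h.2.2 (Subgroup.zpowers y) (by rw [Subgroup.zpowers_le]; exact hYX hy) hz
  refine ⟨k * y * k⁻¹, conj_mem_of_cj (hn k hk) hy, hkT (conj_mem_cj (Subgroup.mem_zpowers y)), ?_, ?_⟩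
  · calc k * y * k⁻¹ * (k * y * k⁻¹) = k * (y * y) * k⁻¹ := by group
      _ = 1 := by rw [hy2]; group
  · intro h1
    apply hy1
    calc y = k⁻¹ * (k * y * k⁻¹) * k := by group
      _ = 1 := by rw [h1]; group

/-! ### The kernel `Nm` of the action on a class -/

/-- the elements normalising all members of `Λ` -/
def Nm (Λ : Set (Subgroup G)) : Subgroup G where
  carrier := {g | ∀ A ∈ Λ, cj g A = A}
  one_mem' := fun A _ => cj_one A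
  mul_mem' := fun ha hb A hA => cj_mul_eq (ha A hA) (hb A hA)
  inv_mem' := fun ha A hA => cj_inv_eq (ha A hA)

theorem mem_Nm {Λ : Set (Subgroup G)} {g : G} : g ∈ Nm Λ ↔ ∀ A ∈ Λ, cj g A = A := Iff.rfl

theorem Nm_le_St (Λ : Set (Subgroup G)) : Nm Λ ≤ St Λ := fun _ hg => Fam.St_of_cj hg

theorem Nm_normal {Λ : Set (Subgroup G)} {x g : G} (hx : x ∈ St Λ) (hg : g ∈ Nm Λ) : x * g * x⁻¹ ∈ Nm Λ := by
  intro A hA
  have h1 := hg _ (cj_mem_of_St (inv_mem hx) hA)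
  rw [cj_mul, cj_mul, h1, cj_cj_inv]

theorem mem_Nm_cjs {Λ : Set (Subgroup G)} {g x : G} : x ∈ Nm (cjs g Λ) ↔ g⁻¹ * x * g ∈ Nm Λ := by
  constructor
  · intro h A hA
    have h1 := h _ (cj_mem_cjs (g := g) hA)
    rw [mul_assoc, cj_mul, cj_mul, h1, cj_inv_cj]
  · rintro h _ ⟨A, hA, rfl⟩
    have h1 := h A hA
    have e : x * g = g * (g⁻¹ * x * g) := by group
    rw [← cj_mul, e, cj_mul, h1]

/-! ### The frame -/

/-- The frame of D3 (iii), `n = 2`, without swapping -/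
structure Fam2 (𝓒 : Set (Set (Subgroup G))) : Prop extends Fam 𝓒 where
  le2 : ∀ Λ ∈ 𝓒, AtMostTwo Λ
  norm : ∀ Λ ∈ 𝓒, ∀ Λ' ∈ 𝓒, Λ ≠ Λ' → ∀ L ∈ Λ, ∀ e ∈ L, e * e = 1 → e ∈ St Λ' → ∀ M ∈ Λ', cj e M = M
  simple : ∀ Λ ∈ 𝓒, ∀ A ∈ Λ, IsSimpleGroup A

/-- adjacent: an involution of a member of `Λ` stabilises `Λ'` -/
def Ad (Λ Λ' : Set (Subgroup G)) : Prop := ∃ L ∈ Λ, ∃ e ∈ L, e * e = 1 ∧ e ≠ 1 ∧ e ∈ St Λ'

variable {𝓒 : Set (Set (Subgroup G))}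

/-- the class of a member is unique -/
theorem class_unique (F : Fam 𝓒) {Λ Λ' : Set (Subgroup G)} (hΛ : Λ ∈ 𝓒) (hΛ' : Λ' ∈ 𝓒) {A : Subgroup G} (hA : A ∈ Λ)
    (hA' : A ∈ Λ') : Λ = Λ' := by
  obtain ⟨a, ha, h2, h1⟩ := F.inv Λ hΛ A hA
  exact F.uniq Λ hΛ Λ' hΛ' a (F.inU_of_mem hΛ hA ha h2 h1) (F.inU_of_mem hΛ' hA' ha h2 h1)

/-- an element normalising a member of a class with two members normalises all the members -/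
theorem mem_Nm_of_cj (F : Fam2 𝓒) {Λ : Set (Subgroup G)} (hΛ : Λ ∈ 𝓒) {A : Subgroup G} (hA : A ∈ Λ) {g : G}
    (hg : cj g A = A) : g ∈ Nm Λ := by
  have hSt : g ∈ St Λ := by
    rw [mem_St]
    refine class_unique F.toFam (F.conj g Λ hΛ) hΛ (A := A) ?_ hA
    have h1 : cj g A ∈ cjs g Λ := cj_mem_cjs hA
    rwa [hg] at h1
  obtain ⟨B, hB, hBA⟩ := F.two Λ hΛ A
  intro C hC
  rcases two_cases (F.le2 Λ hΛ) hA hB hBA hSt with ⟨h1, h2⟩ | ⟨h1, h2⟩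
  · rcases F.le2 Λ hΛ A hA B hB C hC with h | h | h
    · exact absurd h.symm hBA
    · rw [← h]; exact h1
    · rw [← h]; exact h2
  · exact absurd (h1.symm.trans hg) hBA

theorem mem_le_Nm (F : Fam 𝓒) {Λ : Set (Subgroup G)} (hΛ : Λ ∈ 𝓒) {A : Subgroup G} (hA : A ∈ Λ) : A ≤ Nm Λ :=
  fun _ ha _ hB => F.cj_mem hΛ hA hB ha

/-- **L1**: the centralizer of an involution of a member lies in `Nm` -/
theorem cen_Nm (F : Fam2 𝓒) {Λ : Set (Subgroup G)} (hΛ : Λ ∈ 𝓒) {A : Subgroup G} (hA : A ∈ Λ) {u g : G} (hu : u ∈ A)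
    (hu2 : u * u = 1) (hu1 : u ≠ 1) (hg : u * g = g * u) : g ∈ Nm Λ := by
  have hSt := F.cen hΛ (F.inU_of_mem hΛ hA hu hu2 hu1) hg
  refine mem_Nm_of_cj F hΛ hA ?_
  by_contra hne
  refine hu1 (F.inter_same hΛ (cj_mem_of_St hSt hA) hA hne ?_ hu hu2)
  rw [mem_cj]
  have : g⁻¹ * u * g = u := by rw [mul_assoc, hg]; group
  rwa [this]

/-- two different members -/
theorem swap_eq (F : Fam2 𝓒) {Λ : Set (Subgroup G)} (hΛ : Λ ∈ 𝓒) {A B : Subgroup G} (hA : A ∈ Λ) (hB : B ∈ Λ)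
    (hBA : B ≠ A) {g : G} (hg : g ∈ St Λ) (hn : g ∉ Nm Λ) : cj g A = B ∧ cj g B = A := by
  rcases two_cases (F.le2 Λ hΛ) hA hB hBA hg with ⟨h1, -⟩ | h
  · exact absurd (mem_Nm_of_cj F hΛ hA h1) hn
  · exact h

/-- products of swapping elements do not swap -/
theorem mul_mem_Nm (F : Fam2 𝓒) {Λ : Set (Subgroup G)} (hΛ : Λ ∈ 𝓒) {g h : G} (hg : g ∈ St Λ) (hgn : g ∉ Nm Λ)
    (hh : h ∈ St Λ) (hhn : h ∉ Nm Λ) : g * h ∈ Nm Λ := by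
  obtain ⟨A, hA, -⟩ := F.two Λ hΛ ⊥
  obtain ⟨B, hB, hBA⟩ := F.two Λ hΛ A
  refine mem_Nm_of_cj F hΛ hA ?_
  rw [cj_mul, (swap_eq F hΛ hA hB hBA hh hhn).1, (swap_eq F hΛ hA hB hBA hg hgn).2]

/-- **L2**: adjacent classes -/
theorem Ad.exists [Finite G] (F : Fam2 𝓒) {Λ Λ' : Set (Subgroup G)} (hΛ : Λ ∈ 𝓒) (hΛ' : Λ' ∈ 𝓒) (hne : Λ ≠ Λ')
    (h : Ad Λ Λ') {M : Subgroup G} (hM : M ∈ Λ') : ∃ m ∈ M, m ∈ Nm Λ ∧ m * m = 1 ∧ m ≠ 1 := by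
  obtain ⟨L, hL, e, he, he2, he1, heS⟩ := h
  obtain ⟨m, hm, hm2, hm1, hc⟩ := exists_fixed_inv he2 (F.norm Λ hΛ Λ' hΛ' hne L hL e he he2 heS M hM) (F.inv Λ' hΛ' M hM)
  exact ⟨m, hm, cen_Nm F hΛ hL he he2 he1 hc, hm2, hm1⟩

theorem Ad.symm [Finite G] (F : Fam2 𝓒) {Λ Λ' : Set (Subgroup G)} (hΛ : Λ ∈ 𝓒) (hΛ' : Λ' ∈ 𝓒) (hne : Λ ≠ Λ')
    (h : Ad Λ Λ') : Ad Λ' Λ := by
  obtain ⟨M, hM, -⟩ := F.two Λ' hΛ' ⊥
  obtain ⟨m, hm, hmN, hm2, hm1⟩ := h.exists F hΛ hΛ' hne hM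
  exact ⟨M, hM, m, hm, hm2, hm1, Nm_le_St _ hmN⟩

/-! ### Configurations -/

/-- a configuration -/
structure Cfg (𝓒 : Set (Set (Subgroup G))) (Q : Subgroup G) : Prop where
  pg : IsPGroup 2 Q
  mx : ∀ c ∈ 𝓒, ∀ d ∈ 𝓒, c ≠ d → Q ≤ Nm c → Q ≤ Nm d → ∀ R : Subgroup G, IsPGroup 2 R → R ≤ Nm c → R ≤ Nm d →
    Nat.card R ≤ Nat.card Q
  inv : ∀ c ∈ 𝓒, Q ≤ Nm c → ∀ A ∈ c, ∃ x ∈ A, x ∈ Q ∧ x * x = 1 ∧ x ≠ 1
  ex : ∃ c ∈ 𝓒, ∃ d ∈ 𝓒, c ≠ d ∧ Q ≤ Nm c ∧ Q ≤ Nm d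

theorem exists_cfg [Finite G] (F : Fam2 𝓒) {Λ Λ' : Set (Subgroup G)} (hΛ : Λ ∈ 𝓒) (hΛ' : Λ' ∈ 𝓒) (hne : Λ ≠ Λ')
    (h : Ad Λ Λ') : ∃ Q : Subgroup G, Cfg 𝓒 Q := by
  -- the set of orders
  let S : Set ℕ := {n | ∃ c ∈ 𝓒, ∃ d ∈ 𝓒, c ≠ d ∧ Ad c d ∧ ∃ R : Subgroup G, IsPGroup 2 R ∧ R ≤ Nm c ∧ R ≤ Nm d ∧
    Nat.card R = n}
  have hbdd : BddAbove S := by
    refine ⟨Nat.card G, ?_⟩
    rintro n ⟨-, -, -, -, -, -, R, -, -, -, rfl⟩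
    exact Nat.card_le_card_of_injective _ R.subtype_injective
  have hne' : S.Nonempty := ⟨_, Λ, hΛ, Λ', hΛ', hne, h, ⊥, IsPGroup.of_bot, bot_le, bot_le, rfl⟩
  obtain ⟨c, hc, d, hd, hcd, hAd, Q, hQ, hQc, hQd, hcard⟩ := Nat.sSup_mem hne' hbdd
  have hmax : ∀ c ∈ 𝓒, ∀ d ∈ 𝓒, c ≠ d → Ad c d → ∀ R : Subgroup G, IsPGroup 2 R → R ≤ Nm c → R ≤ Nm d →
      Nat.card R ≤ Nat.card Q := by
    intro c' hc' d' hd' hne hAd R hR hRc hRd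
    rw [hcard]
    exact le_csSup hbdd ⟨c', hc', d', hd', hne, hAd, R, hR, hRc, hRd, rfl⟩
  -- members of adjacent classes stabilised by `Q` have involutions in `Q`
  have key : ∀ c ∈ 𝓒, ∀ d ∈ 𝓒, c ≠ d → Ad c d → Q ≤ Nm c → Q ≤ Nm d → ∀ M ∈ d, ∃ x ∈ M, x ∈ Q ∧ x * x = 1 ∧ x ≠ 1 := by
    intro c' hc' d' hd' hne hAd hQc hQd M hM
    have hS : IsSyl Q (Nm c' ⊓ Nm d') := isSyl_of_max (le_inf hQc hQd) hQ fun R hR hR2 =>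
      hmax c' hc' d' hd' hne hAd R hR2 (hR.trans inf_le_left) (hR.trans inf_le_right)
    obtain ⟨m, hm, hmN, hm2, hm1⟩ := hAd.exists F hc' hd' hne hM
    have hY : M ⊓ Nm c' ≤ Nm c' ⊓ Nm d' := le_inf inf_le_right (inf_le_left.trans (mem_le_Nm F.toFam hd' hM))
    obtain ⟨x, hx, hxQ, hx2, hx1⟩ := hS.exists_inv hY (by
      intro g hg
      have h1 : cj g M = M := (Subgroup.mem_inf.mp hg).2 M hM
      have h2 : cj g (Nm c') = Nm c' := cj_eq_of_mem (Subgroup.mem_inf.mp hg).1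
      ext y
      rw [mem_cj, Subgroup.mem_inf, Subgroup.mem_inf, ← mem_cj, ← mem_cj, h1, h2])
      (Subgroup.mem_inf.mpr ⟨hm, hmN⟩) hm2 hm1
    exact ⟨x, (Subgroup.mem_inf.mp hx).1, hxQ, hx2, hx1⟩
  have hAd' := hAd.symm F hc hd hcd
  -- all classes stabilised by `Q` are adjacent to `c` or equal to `c`
  have key2 : ∀ d' ∈ 𝓒, Q ≤ Nm d' → c ≠ d' → Ad c d' := by
    intro d' hd' hQd' hne
    obtain ⟨A, hA, -⟩ := F.two c hc ⊥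
    obtain ⟨x, hx, hxQ, hx2, hx1⟩ := key d hd c hc hcd.symm hAd' hQd hQc A hA
    exact ⟨A, hA, x, hx, hx2, hx1, Nm_le_St _ (hQd' hxQ)⟩
  have hinv : ∀ c' ∈ 𝓒, Q ≤ Nm c' → ∀ A ∈ c', ∃ x ∈ A, x ∈ Q ∧ x * x = 1 ∧ x ≠ 1 := by
    intro c' hc' hQc' A hA
    by_cases h1 : c = c'
    · subst h1
      exact key d hd c hc hcd.symm hAd' hQd hQc A hA
    · exact key c hc c' hc' h1 (key2 c' hc' hQc' h1) hQc hQc' A hA
  refine ⟨Q, hQ, ?_, hinv, c, hc, d, hd, hcd, hQc, hQd⟩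
  intro c' hc' d' hd' hne hQc' hQd'
  refine hmax c' hc' d' hd' hne ?_
  obtain ⟨A, hA, -⟩ := F.two c' hc' ⊥
  obtain ⟨x, hx, hxQ, hx2, hx1⟩ := hinv c' hc' hQc' A hA
  exact ⟨A, hA, x, hx, hx2, hx1, Nm_le_St _ (hQd' hxQ)⟩

namespace Cfg

variable {Q : Subgroup G}

/-- maximality -/
theorem le_of_two [Finite G] (C : Cfg 𝓒 Q) {c d : Set (Subgroup G)} (hc : c ∈ 𝓒) (hd : d ∈ 𝓒) (hcd : c ≠ d)
    (hQc : Q ≤ Nm c) (hQd : Q ≤ Nm d) {R : Subgroup G} (hR : IsPGroup 2 R) (hQR : Q ≤ R) (hRc : R ≤ Nm c)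
    (hRd : R ≤ Nm d) : R ≤ Q := by
  have h := C.mx c hc d hd hcd hQc hQd R hR hRc hRd
  rw [Subgroup.eq_of_le_of_card_ge hQR h]

/-- a 2-element normalising `Q` and lying in `Nm c`, `Nm d` is in `Q` -/
theorem mem_of_norm [Finite G] (C : Cfg 𝓒 Q) {c d : Set (Subgroup G)} (hc : c ∈ 𝓒) (hd : d ∈ 𝓒) (hcd : c ≠ d)
    (hQc : Q ≤ Nm c) (hQd : Q ≤ Nm d) {s : G} (hs : IsPGroup 2 (Subgroup.zpowers s)) (hsQ : cj s Q = Q)
    (hsc : s ∈ Nm c) (hsd : s ∈ Nm d) : s ∈ Q := by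
  have hn : ∀ w ∈ Subgroup.zpowers s, cj w Q = Q := by
    have : Subgroup.zpowers s ≤ Nm ({Q} : Set (Subgroup G)) := by
      rw [Subgroup.zpowers_le]
      intro A hA
      rw [Set.mem_singleton_iff] at hA
      rw [hA]; exact hsQ
    exact fun w hw => this hw Q rfl
  have hT := isPGroup_mulSub (h := hn) C.pg hs
  have := C.le_of_two hc hd hcd hQc hQd hT le_mulSub_left
    (mulSub_le hQc (by rw [Subgroup.zpowers_le]; exact hsc)) (mulSub_le hQd (by rw [Subgroup.zpowers_le]; exact hsd))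
  exact this (le_mulSub_right (Subgroup.mem_zpowers s))

/-- another class -/
theorem other (C : Cfg 𝓒 Q) (c : Set (Subgroup G)) : ∃ d ∈ 𝓒, Q ≤ Nm d ∧ d ≠ c := by
  obtain ⟨a, ha, b, hb, hab, hQa, hQb⟩ := C.ex
  by_cases h : a = c
  · exact ⟨b, hb, hQb, fun h' => hab (h.trans h'.symm)⟩
  · exact ⟨a, ha, hQa, h⟩

end Cfg

end Cfsg.Agent.OddHalf.D3.TwoCfg
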