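import Cfsg.Agent.Involutions.RigidAut
import Cfsg.Agent.S0215
import Cfsg.Agent.OddHalf.D3.TwoCfg

/-!
# 2-groups of automorphisms centralising a Sylow 2-subgroup are abelian (S0227, without the solvability)
-/

set_option autoImplicit false

namespace Cfsg.Agent.OddHalf.D3.RigidSyl

open Cfsg Cfsg.Agent.OddHalf.D3.ThreeDefs Cfsg.Agent.OddHalf.D3.ThreeMain Cfsg.Agent.OddHalf.D3.TwoCfg
open Cfsg.Agent.Involutions.RigidAut

/-- (`odd_commutator` of S0227) -/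
theorem odd_comm {G : Type*} [Group G] [Finite G]
    (hO : ∀ N : Subgroup G, N.Normal → Odd (Nat.card N) → N = ⊥) (S : Sylow 2 G)
    (C : Subgroup (MulAut G)) (hC : ∀ φ : MulAut G, φ ∈ C ↔ ∀ s : G, s ∈ S → φ s = s) :
    Odd (Nat.card (commutator C)) := by
  have hp : Fact (Nat.Prime 2) := ⟨Nat.prime_two⟩
  rw [← Nat.not_even_iff_odd, even_iff_two_dvd]
  intro h2
  obtain ⟨φ, hφ⟩ := exists_prime_orderOf_dvd_card' (G := commutator C) 2 h2
  set ψ : MulAut G := ((φ : C) : MulAut G) with hψ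
  have hord : orderOf ψ = 2 := by rw [hψ, Subgroup.orderOf_coe, Subgroup.orderOf_coe, hφ]
  have hψC : ψ ∈ C := (φ : C).2
  have hS : ∀ s ∈ S, ψ s = s := (hC _).mp hψC
  have hψp : IsPGroup 2 (Subgroup.zpowers ψ) := by
    apply IsPGroup.of_card (n := 1)
    rw [Nat.card_zpowers, hord, pow_one]
  obtain ⟨P, hP⟩ := exists_sylow S ψ hS hψp
  have hiso := isolated S C (fun φ hφ => (hC φ).mp hφ) ψ hψC φ.2 P hP
  have := finite_SD ψ
  have hx2 : orderOf (sx ψ) = 2 := by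
    have h1 : orderOf (sx ψ) = orderOf (⟨ψ, Subgroup.mem_zpowers ψ⟩ : Subgroup.zpowers ψ) :=
      orderOf_injective (SemidirectProduct.inr : Subgroup.zpowers ψ →* SD ψ)
        SemidirectProduct.inr_injective _
    rw [h1, ← Subgroup.orderOf_coe]
    exact hord
  have hxP : sx ψ ∈ P := (hP _).mpr (S : Subgroup G).one_mem
  obtain ⟨N, hN, hNodd, hNc⟩ := Cfsg.Agent.S0215.result P (sx ψ) hx2 hxP hiso
  -- the intersection with `G`
  have hN₀ : N.comap (SemidirectProduct.inl : G →* SD ψ) = ⊥ := by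
    apply hO _ inferInstance
    refine Odd.of_dvd_nat hNodd ?_
    exact Subgroup.card_comap_dvd_of_injective N _ SemidirectProduct.inl_injective
  have hone : ∀ g : G, ψ g = g := by
    intro g
    have h1 := hNc (SemidirectProduct.inl g)
    have h2 : sx ψ * SemidirectProduct.inl g * (sx ψ)⁻¹ * (SemidirectProduct.inl g)⁻¹ =
        SemidirectProduct.inl (ψ g * g⁻¹) := by
      rw [← map_inv SemidirectProduct.inr, ← SemidirectProduct.inl_aut, map_mul, map_inv]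
      rfl
    rw [h2] at h1
    have h3 : ψ g * g⁻¹ ∈ N.comap (SemidirectProduct.inl : G →* SD ψ) := h1
    rw [hN₀, Subgroup.mem_bot, mul_inv_eq_one] at h3
    exact h3
  have h1 : ψ = 1 := MulEquiv.ext hone
  rw [h1, orderOf_one] at hord
  exact absurd hord (by norm_num)

universe u

variable {G : Type u} [Group G]

/-- A 2-group `P` normalising the simple group `A` of even order, centralising a Sylow 2-subgroup `S` of `A` and
faithful on `A` is abelian. -/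
theorem abelian [Finite G] {A P S : Subgroup G} (hA : IsSimpleGroup A) (hev : ∃ a ∈ A, a * a = 1 ∧ a ≠ 1)
    (hP : IsPGroup 2 P) (hPA : ∀ p ∈ P, cj p A = A) (hS : IsSyl S A) (hcomm : ∀ p ∈ P, ∀ s ∈ S, p * s = s * p)
    (hfaith : ∀ p ∈ P, (∀ a ∈ A, p * a = a * p) → p = 1) : ∀ p ∈ P, ∀ q ∈ P, p * q = q * p := by
  have hp : Fact (Nat.Prime 2) := ⟨Nat.prime_two⟩
  -- no normal subgroups of odd order
  have hO : ∀ N : Subgroup A, N.Normal → Odd (Nat.card N) → N = ⊥ := by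
    intro N hN hodd
    rcases hN.eq_bot_or_eq_top with h | h
    · exact h
    · exfalso
      obtain ⟨a, ha, ha2, ha1⟩ := hev
      rw [h, Subgroup.card_top] at hodd
      have h2 : orderOf (⟨a, ha⟩ : A) = 2 := by
        refine orderOf_eq_prime ?_ ?_
        · rw [pow_two]; exact Subtype.ext ha2
        · intro h; exact ha1 (congrArg Subtype.val h)
      have h3 : 2 ∣ Nat.card A := h2 ▸ orderOf_dvd_natCard _
      rw [Nat.odd_iff] at hodd
      omega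
  -- the Sylow subgroup
  have hS' : IsPGroup 2 (S.subgroupOf A) := hS.2.1.of_injective (Subgroup.subgroupOfEquivOfLe hS.1).toMonoidHom
    (Subgroup.subgroupOfEquivOfLe hS.1).injective
  obtain ⟨T, hT⟩ := hS'.exists_le_sylow
  have hTS : (T : Subgroup A).map A.subtype = S := hS.eq (Subgroup.map_subtype_le _) (T.2.map _) (by
    intro s hs
    exact ⟨⟨s, hS.1 hs⟩, hT hs, rfl⟩)
  have hTmem : ∀ t : A, t ∈ T → (t : G) ∈ S := by
    intro t ht
    rw [← hTS]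
    exact ⟨t, ht, rfl⟩
  -- automorphisms fixing `T`
  let C : Subgroup (MulAut A) :=
    { carrier := {φ | ∀ s : A, s ∈ T → φ s = s}
      one_mem' := fun s _ => rfl
      mul_mem' := by
        intro φ ψ h1 h2 s hs
        rw [MulAut.mul_apply, h2 s hs, h1 s hs]
      inv_mem' := by
        intro φ h1 s hs
        have h2 := h1 s hs
        rw [MulAut.inv_apply, MulEquiv.symm_apply_eq, h2] }
  have hodd := odd_comm hO T C (fun φ => Iff.rfl)
  -- the homomorphism `P → C`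
  have hPN : ∀ p ∈ P, p ∈ Subgroup.normalizer (A : Set G) := by
    intro p hp
    rw [Subgroup.mem_normalizer_iff]
    intro x
    have h1 : cj p⁻¹ A = A := cj_inv_eq (hPA p hp)
    have h2 : p * x * p⁻¹ ∈ A ↔ x ∈ cj p⁻¹ A := by rw [mem_cj, inv_inv]
    rw [h2, h1]
  let f : P →* MulAut A := A.normalizerMonoidHom.comp (Subgroup.inclusion hPN)
  have hf : ∀ (p : P) (a : A), ((f p a : A) : G) = p * a * (p : G)⁻¹ := fun p a => rfl
  have hfC : ∀ p : P, f p ∈ C := by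
    intro p s hs
    apply Subtype.ext
    rw [hf, hcomm p p.2 s (hTmem s hs)]
    group
  intro p hp q hq
  -- the commutator
  have h1 : (⟨f ⟨p, hp⟩, hfC _⟩ : C) * ⟨f ⟨q, hq⟩, hfC _⟩ * (⟨f ⟨p, hp⟩, hfC _⟩ : C)⁻¹ * (⟨f ⟨q, hq⟩, hfC _⟩ : C)⁻¹ ∈
      commutator C := Subgroup.commutator_mem_commutator (Subgroup.mem_top _) (Subgroup.mem_top _)
  set c : C := (⟨f ⟨p, hp⟩, hfC _⟩ : C) * ⟨f ⟨q, hq⟩, hfC _⟩ * (⟨f ⟨p, hp⟩, hfC _⟩ : C)⁻¹ *
    (⟨f ⟨q, hq⟩, hfC _⟩ : C)⁻¹ with hc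
  have hcf : (c : MulAut A) = f (⟨p, hp⟩ * ⟨q, hq⟩ * ⟨p, hp⟩⁻¹ * ⟨q, hq⟩⁻¹) := by
    rw [map_mul, map_mul, map_mul, map_inv, map_inv]
    rfl
  obtain ⟨n, hn⟩ := hP (⟨p, hp⟩ * ⟨q, hq⟩ * ⟨p, hp⟩⁻¹ * ⟨q, hq⟩⁻¹)
  have h2 : c ^ 2 ^ n = 1 := by
    apply Subtype.ext
    change (c : MulAut A) ^ 2 ^ n = 1
    rw [hcf, ← map_pow, hn, map_one]
  have h3 : c ^ Nat.card (commutator C) = 1 := by
    have := pow_card_eq_one' (x := (⟨c, h1⟩ : commutator C))
    exact congrArg Subtype.val this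
  have h4 := Nat.dvd_gcd (orderOf_dvd_of_pow_eq_one h2) (orderOf_dvd_of_pow_eq_one h3)
  have h5 : Nat.Coprime (2 ^ n) (Nat.card (commutator C)) :=
    Nat.Coprime.pow_left n (Nat.coprime_two_left.mpr hodd)
  rw [Nat.Coprime.gcd_eq_one h5, Nat.dvd_one, orderOf_eq_one_iff] at h4
  have h6 : f (⟨p, hp⟩ * ⟨q, hq⟩ * ⟨p, hp⟩⁻¹ * ⟨q, hq⟩⁻¹) = 1 := by rw [← hcf, h4]; rfl
  have h7 : p * q * p⁻¹ * q⁻¹ = 1 := by
    refine hfaith _ (mul_mem (mul_mem (mul_mem hp hq) (inv_mem hp)) (inv_mem hq)) ?_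
    intro a ha
    have h8 := hf (⟨p, hp⟩ * ⟨q, hq⟩ * ⟨p, hp⟩⁻¹ * ⟨q, hq⟩⁻¹) ⟨a, ha⟩
    rw [h6] at h8
    have h9 : a = (p * q * p⁻¹ * q⁻¹) * a * (p * q * p⁻¹ * q⁻¹)⁻¹ := h8
    calc p * q * p⁻¹ * q⁻¹ * a = ((p * q * p⁻¹ * q⁻¹) * a * (p * q * p⁻¹ * q⁻¹)⁻¹) * (p * q * p⁻¹ * q⁻¹) := by group
      _ = a * (p * q * p⁻¹ * q⁻¹) := by rw [← h9]
  calc p * q = (p * q * p⁻¹ * q⁻¹) * (q * p) := by group
    _ = q * p := by rw [h7, one_mul]

end Cfsg.Agent.OddHalf.D3.RigidSyl
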