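import Cfsg.Prelude.Def_Local
import Cfsg.Agent.OddHalf.D3.ZStar
import Cfsg.Agent.SignalizersComponents.DistinctComponents

/-!
# ODD D3 (iii): the frame `Fam` from a terminal component `K`

`CompOf t K`: `K` is a component of `C(t)`. `TermH K`: `K` is a component of the centralizer of some involution and of
every involution centralizing `K`. For a class `𝒦` of conjugates of `K` the relation "equal or commuting" is an
equivalence; `fam`: its classes form a `Fam` (if `|Z(K)|` is odd and `K` commutes with another conjugate).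
-/

set_option autoImplicit false

namespace Cfsg.Agent.OddHalf.D3.FamTerm

open Cfsg Cfsg.Agent.OddHalf.D3.ThreeDefs Cfsg.Agent.OddHalf.D3.ThreeFam Cfsg.Agent.OddHalf.D3.ThreeMain
open Cfsg.Agent.SignalizersComponents.Components

universe u

variable {G : Type u} [Group G]

/-- `K` is a component of `C(t)`. -/
def CompOf (t : G) (K : Subgroup G) : Prop :=
  K ≤ Subgroup.centralizer ({t} : Set G) ∧ IsComponent (K.subgroupOf (Subgroup.centralizer ({t} : Set G)))

theorem CompOf.quasi {t : G} {K : Subgroup G} (h : CompOf t K) : IsQuasisimple K :=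
  isQuasisimple_of_mulEquiv (Subgroup.subgroupOfEquivOfLe h.1) h.2.2

theorem CompOf.comm {t : G} {K : Subgroup G} (h : CompOf t K) {k : G} (hk : k ∈ K) : k * t = t * k :=
  Subgroup.mem_centralizer_singleton_iff.mp (h.1 hk)

theorem CompOf.eq_or_comm {t : G} {K L : Subgroup G} (hK : CompOf t K) (hL : CompOf t L) :
    K = L ∨ ∀ x ∈ K, ∀ y ∈ L, x * y = y * x := by
  by_cases h : K.subgroupOf (Subgroup.centralizer ({t} : Set G)) = L.subgroupOf (Subgroup.centralizer ({t} : Set G))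
  · left
    have h1 := congrArg (Subgroup.map (Subgroup.centralizer ({t} : Set G)).subtype) h
    rwa [Subgroup.map_subgroupOf_eq_of_le hK.1, Subgroup.map_subgroupOf_eq_of_le hL.1] at h1
  · right
    intro x hx y hy
    have h1 := component_le_centralizer_of_ne hK.2 hL.2 h
      (show (⟨x, hK.1 hx⟩ : Subgroup.centralizer ({t} : Set G)) ∈ K.subgroupOf _ from hx)
    have h2 := Subgroup.mem_centralizer_iff.mp h1 ⟨y, hL.1 hy⟩ hy
    exact (congrArg Subtype.val h2).symm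

theorem CompOf.conj {t : G} {K : Subgroup G} (h : CompOf t K) (g : G) : CompOf (g * t * g⁻¹) (cj g K) := by
  have e : (Subgroup.centralizer ({t} : Set G)).map (MulAut.conj g).toMonoidHom =
      Subgroup.centralizer ({g * t * g⁻¹} : Set G) := by
    change cj g (Subgroup.centralizer ({t} : Set G)) = _
    ext x
    rw [mem_cj, Subgroup.mem_centralizer_singleton_iff, Subgroup.mem_centralizer_singleton_iff]
    constructor
    · intro h1
      calc x * (g * t * g⁻¹) = g * ((g⁻¹ * x * g) * t) * g⁻¹ := by group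
        _ = g * (t * (g⁻¹ * x * g)) * g⁻¹ := by rw [h1]
        _ = _ := by group
    · intro h1
      calc g⁻¹ * x * g * t = g⁻¹ * (x * (g * t * g⁻¹)) * g := by group
        _ = g⁻¹ * (g * t * g⁻¹ * x) * g := by rw [h1]
        _ = _ := by group
  have h2 := Cfsg.Agent.SignalizersComponents.DistinctComponents.isComponent_subgroupOf_conj h.1 h.2 g
  rw [e] at h2
  refine ⟨?_, h2⟩
  rw [← e]
  exact Subgroup.map_mono h.1

/-- terminal components -/
structure TermH (K : Subgroup G) : Prop where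
  comp : ∃ t : G, orderOf t = 2 ∧ CompOf t K
  term : ∀ y : G, orderOf y = 2 → y ∈ Subgroup.centralizer (K : Set G) → CompOf y K

theorem orderOf_two {y : G} (h2 : y * y = 1) (h1 : y ≠ 1) : orderOf y = 2 :=
  orderOf_eq_prime (by rw [pow_two]; exact h2) h1

theorem orderOf_conj' (g y : G) : orderOf (g * y * g⁻¹) = orderOf y := by
  rw [← MulAut.conj_apply]
  exact orderOf_injective (MulAut.conj g).toMonoidHom (MulAut.conj g).injective y

theorem TermH.of_comm {K : Subgroup G} (h : TermH K) {y : G} (h2 : y * y = 1) (h1 : y ≠ 1)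
    (hy : ∀ a ∈ K, y * a = a * y) : CompOf y K :=
  h.term y (orderOf_two h2 h1) (Subgroup.mem_centralizer_iff.mpr fun a ha => (hy a ha).symm)

theorem TermH.conj {K : Subgroup G} (h : TermH K) (g : G) : TermH (cj g K) := by
  obtain ⟨t, ht, hc⟩ := h.comp
  refine ⟨⟨g * t * g⁻¹, by rw [orderOf_conj']; exact ht, hc.conj g⟩, ?_⟩
  intro y hy hyc
  have h1 : g⁻¹ * y * g ∈ Subgroup.centralizer (K : Set G) := by
    rw [Subgroup.mem_centralizer_iff] at hyc ⊢
    intro k hk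
    have h2 := hyc (g * k * g⁻¹) (conj_mem_cj hk)
    calc k * (g⁻¹ * y * g) = g⁻¹ * ((g * k * g⁻¹) * y) * g := by group
      _ = g⁻¹ * (y * (g * k * g⁻¹)) * g := by rw [h2]
      _ = _ := by group
  have h2 : orderOf (g⁻¹ * y * g) = 2 := by
    have := orderOf_conj' g⁻¹ y
    rw [inv_inv] at this
    rw [this]; exact hy
  have h3 := (h.term _ h2 h1).conj g
  have e : g * (g⁻¹ * y * g) * g⁻¹ = y := by group
  rwa [e] at h3

theorem TermH.quasi {K : Subgroup G} (h : TermH K) : IsQuasisimple K := by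
  obtain ⟨t, -, hc⟩ := h.comp
  exact hc.quasi

/-- equal or commuting -/
def Rel (A B : Subgroup G) : Prop := A = B ∨ ∀ x ∈ A, ∀ y ∈ B, x * y = y * x

theorem Rel.symm {A B : Subgroup G} (h : Rel A B) : Rel B A := by
  rcases h with rfl | h
  · exact Or.inl rfl
  · exact Or.inr fun x hx y hy => (h y hy x hx).symm

theorem Rel.conj {A B : Subgroup G} (h : Rel A B) (g : G) : Rel (cj g A) (cj g B) := by
  rcases h with rfl | h
  · exact Or.inl rfl
  · right
    intro x hx y hy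
    rw [mem_cj] at hx hy
    have := h _ hx _ hy
    calc x * y = g * ((g⁻¹ * x * g) * (g⁻¹ * y * g)) * g⁻¹ := by group
      _ = g * ((g⁻¹ * y * g) * (g⁻¹ * x * g)) * g⁻¹ := by rw [this]
      _ = y * x := by group

theorem Rel.trans [Finite G] {A B D : Subgroup G} (hA : TermH A) (hD : TermH D) (hev : 2 ∣ Nat.card B)
    (h1 : Rel A B) (h2 : Rel B D) : Rel A D := by
  rcases h1 with rfl | h1
  · exact h2
  rcases h2 with rfl | h2
  · exact Or.inr h1
  obtain ⟨y, hy, hy2, hy1⟩ := ZStar.exists_inv hev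
  exact (hA.of_comm hy2 hy1 fun a ha => (h1 a ha y hy).symm).eq_or_comm (hD.of_comm hy2 hy1 fun a ha => h2 y hy a ha)

/-- the conjugates of `K` -/
def Cj (K : Subgroup G) : Set (Subgroup G) := {A | ∃ g : G, A = cj g K}

theorem Cj_self (K : Subgroup G) : K ∈ Cj K := ⟨1, (cj_one K).symm⟩

theorem Cj_conj {K A : Subgroup G} (h : A ∈ Cj K) (g : G) : cj g A ∈ Cj K := by
  obtain ⟨x, rfl⟩ := h
  exact ⟨g * x, (cj_mul g x K).symm⟩

/-- the class of `A` -/
def cls (K A : Subgroup G) : Set (Subgroup G) := {B | B ∈ Cj K ∧ Rel A B}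

/-- all classes -/
def Fm (K : Subgroup G) : Set (Set (Subgroup G)) := {Λ | ∃ A ∈ Cj K, Λ = cls K A}

theorem self_mem_cls {K A : Subgroup G} (h : A ∈ Cj K) : A ∈ cls K A := ⟨h, Or.inl rfl⟩

theorem cjs_cls {K A : Subgroup G} (g : G) : cjs g (cls K A) = cls K (cj g A) := by
  ext B
  constructor
  · rintro ⟨D, ⟨hD1, hD2⟩, rfl⟩
    exact ⟨Cj_conj hD1 g, hD2.conj g⟩
  · rintro ⟨h1, h2⟩
    refine ⟨cj g⁻¹ B, ⟨Cj_conj h1 _, ?_⟩, cj_cj_inv g B⟩
    have := h2.conj g⁻¹
    rwa [cj_inv_cj] at this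

/-- hypotheses on `K` -/
structure KH (K : Subgroup G) : Prop where
  term : TermH K
  ev : 2 ∣ Nat.card K

theorem KH.conj {K A : Subgroup G} (h : KH K) (hA : A ∈ Cj K) : KH A := by
  obtain ⟨g, rfl⟩ := hA
  exact ⟨h.term.conj g, by rw [card_cj]; exact h.ev⟩

theorem cls_eq [Finite G] {K A B : Subgroup G} (h : KH K) (hA : A ∈ Cj K) (hB : B ∈ Cj K) (hAB : Rel A B) :
    cls K A = cls K B := by
  ext D
  constructor
  · rintro ⟨h1, h2⟩
    exact ⟨h1, hAB.symm.trans (h.conj hB).term (h.conj h1).term (h.conj hA).ev h2⟩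
  · rintro ⟨h1, h2⟩
    exact ⟨h1, hAB.trans (h.conj hA).term (h.conj h1).term (h.conj hB).ev h2⟩

/-- **the frame** -/
theorem fam [Finite G] {K : Subgroup G} (h : KH K)
    (hcen : ∀ a ∈ K, a * a = 1 → (∀ b ∈ K, a * b = b * a) → a = 1)
    (htwo : ∃ B ∈ Cj K, B ≠ K ∧ Rel K B) : Fam (Fm K) where
  conj := by
    rintro g _ ⟨A, hA, rfl⟩
    exact ⟨cj g A, Cj_conj hA g, cjs_cls g⟩
  comm := by
    rintro _ ⟨A, hA, rfl⟩ B ⟨hB1, hB2⟩ D ⟨hD1, hD2⟩ hne a ha b hb
    rcases hB2.symm.trans (h.conj hB1).term (h.conj hD1).term (h.conj hA).ev hD2 with h1 | h1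
    · exact absurd h1 hne
    · exact h1 a ha b hb
  two := by
    rintro _ ⟨A, hA, rfl⟩ X
    obtain ⟨B, hB, hne, hr⟩ := htwo
    obtain ⟨g, rfl⟩ := hA
    by_cases hX : cj g K = X
    · refine ⟨cj g B, ⟨Cj_conj hB g, hr.conj g⟩, ?_⟩
      rw [← hX]
      exact fun h1 => hne (cj_injective g h1)
    · exact ⟨cj g K, ⟨Cj_conj (Cj_self K) g, Or.inl rfl⟩, hX⟩
  uniq := by
    rintro _ ⟨A, hA, rfl⟩ _ ⟨A', hA', rfl⟩ u ⟨hu2, hu1, B, ⟨hB1, hB2⟩, hB⟩ ⟨-, -, D, ⟨hD1, hD2⟩, hD⟩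
    have h1 : Rel B D := ((h.conj hB1).term.of_comm hu2 hu1 hB).eq_or_comm ((h.conj hD1).term.of_comm hu2 hu1 hD)
    rw [cls_eq h hA hB1 hB2, cls_eq h hA' hD1 hD2, cls_eq h hB1 hD1 h1]
  cent := by
    rintro _ ⟨A, hA, rfl⟩ B ⟨⟨g, rfl⟩, -⟩ a ha ha2 hac
    rw [mem_cj] at ha
    have h1 := hcen (g⁻¹ * a * g) ha (by
      calc (g⁻¹ * a * g) * (g⁻¹ * a * g) = g⁻¹ * (a * a) * g := by group
        _ = 1 := by rw [ha2]; group) (by
      intro b hb
      have h2 := hac (g * b * g⁻¹) (conj_mem_cj hb)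
      calc g⁻¹ * a * g * b = g⁻¹ * (a * (g * b * g⁻¹)) * g := by group
        _ = g⁻¹ * ((g * b * g⁻¹) * a) * g := by rw [h2]
        _ = _ := by group)
    calc a = g * (g⁻¹ * a * g) * g⁻¹ := by group
      _ = 1 := by rw [h1]; group
  inv := by
    rintro _ ⟨A, hA, rfl⟩ B ⟨hB, -⟩
    exact ZStar.exists_inv (h.conj hB).ev
  zst := by
    rintro _ ⟨A, hA, rfl⟩ B ⟨hB, -⟩ u hu huB hne
    exact ZStar.zst (h.conj hB).term.quasi (h.conj hB).ev hu huB hne
  tr := by
    rintro _ ⟨A, hA, rfl⟩ _ ⟨A', hA', rfl⟩ B ⟨⟨g, rfl⟩, -⟩ D ⟨⟨g', rfl⟩, -⟩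
    exact ⟨g' * g⁻¹, by rw [cj_mul, cj_inv_cj]⟩

end Cfsg.Agent.OddHalf.D3.FamTerm
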