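import Cfsg.Agent.S1301
import Cfsg.Agent.SignalizersComponents.InvolutionComponent
import Cfsg.Agent.SignalizersComponents.EvenComponent
import Cfsg.Agent.Cit.Comp
import Cfsg.Agent.OddHalf.D3.FamTerm

/-!
# ODD D3 (iii): (1) of the text of helper133 (bb ODD 7641)

`pump`: a component `D` of `C(v) ∩ C(y)` lies in `F F^y` for some component `F` of `C(v)` (no cores).
`norm`: if the classes have at least three members, an involution `v` centralising a member of `Λ` and stabilising
`Λ' ≠ Λ` normalises all the members of `Λ'`.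
-/

set_option autoImplicit false

namespace Cfsg.Agent.OddHalf.D3.NormOne

open Cfsg Cfsg.Agent.OddHalf.D3.ThreeDefs Cfsg.Agent.OddHalf.D3.ThreeFam Cfsg.Agent.OddHalf.D3.ThreeMain
open Cfsg.Agent.OddHalf.D3.FamTerm
open Cfsg.Agent.SignalizersComponents.Components Cfsg.Agent.SignalizersComponents

universe u

variable {G : Type u} [Group G]

/-- every quasisimple subgroup has even order -/
def EvQ (G : Type u) [Group G] : Prop := ∀ D : Subgroup G, IsQuasisimple D → 2 ∣ Nat.card D

/-- cores of involution centralizers are trivial -/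
def Bal (G : Type u) [Group G] : Prop := ∀ t : G, orderOf t = 2 → centralizerPPrimeCore 2 t = ⊥

/-- `K` is a component of the subgroup `H`. -/
def Cmp (H K : Subgroup G) : Prop := K ≤ H ∧ IsComponent (K.subgroupOf H)

theorem isComponent_comap {A B : Type*} [Group A] [Group B] (f : A →* B)
    (hf : Function.Injective f) {K : Subgroup B} (hK : IsComponent K) (hle : K ≤ f.range) :
    IsComponent (K.comap f) := by
  refine ⟨hK.1.comap f, ?_⟩
  have h1 : (K.comap f).map f = K := Subgroup.map_comap_eq_self hle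
  have e : K.comap f ≃* K :=
    ((K.comap f).equivMapOfInjective f hf).trans (MulEquiv.subgroupCongr h1)
  exact isQuasisimple_of_mulEquiv e.symm hK.2

theorem pLayer_le_layer (hO : pPrimeCore 2 G = ⊥) : pLayer 2 G ≤ layer G := by
  refine sSup_le fun K hK => component_le_layer ⟨hK.1, ?_⟩
  let f := (QuotientGroup.mk' (pPrimeCore 2 G)).subgroupMap K
  have hker : f.ker = ⊥ := by
    rw [eq_bot_iff]
    intro x hx
    rw [MonoidHom.mem_ker] at hx
    have h2 : QuotientGroup.mk' (pPrimeCore 2 G) (x : G) = 1 := congrArg Subtype.val hx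
    rw [← MonoidHom.mem_ker, QuotientGroup.ker_mk', hO, Subgroup.mem_bot] at h2
    rw [Subgroup.mem_bot]
    exact Subtype.ext h2
  exact isQuasisimple_of_mulEquiv (MulEquiv.ofBijective f
    ⟨(MonoidHom.ker_eq_bot_iff f).mp hker, MonoidHom.subgroupMap_surjective _ K⟩).symm hK.2.1.2

theorem core_eq_bot {t : G} (h : centralizerPPrimeCore 2 t = ⊥) :
    pPrimeCore 2 ↥(Subgroup.centralizer ({t} : Set G)) = ⊥ := by
  rw [centralizerPPrimeCore, Subgroup.map_eq_bot_iff, Subgroup.ker_subtype] at h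
  exact le_bot_iff.mp h

theorem pump [Finite G] (hev : EvQ G) (hbal : Bal G) {v y : G} (hv : orderOf v = 2) (hy : orderOf y = 2)
    (hvy : v * y = y * v) {D : Subgroup G}
    (hD : Cmp (Subgroup.centralizer ({v} : Set G) ⊓ Subgroup.centralizer ({y} : Set G)) D) :
    ∃ F : Subgroup G, CompOf v F ∧ D ≤ F ⊔ cj y F := by
  haveI : Fact (Nat.Prime 2) := ⟨Nat.prime_two⟩
  obtain ⟨hDle, hDc⟩ := hD
  have hDv : D ≤ Subgroup.centralizer ({v} : Set G) := hDle.trans inf_le_left
  have hDy : D ≤ Subgroup.centralizer ({y} : Set G) := hDle.trans inf_le_right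
  have hyv : y ∈ Subgroup.centralizer ({v} : Set G) := Subgroup.mem_centralizer_singleton_iff.mpr hvy.symm
  set y' : ↥(Subgroup.centralizer ({v} : Set G)) := ⟨y, hyv⟩ with hy'
  have hyy : y * y = 1 := by
    have := pow_orderOf_eq_one y
    rwa [hy, pow_two] at this
  have hy2 : y' * y' = 1 := Subtype.ext hyy
  have hD'le : D.subgroupOf (Subgroup.centralizer ({v} : Set G)) ≤ Subgroup.centralizer {y'} := by
    intro x hx
    rw [Subgroup.mem_centralizer_singleton_iff]
    exact Subtype.ext (Subgroup.mem_centralizer_singleton_iff.mp (hDy hx))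
  -- the component condition
  let f : ↥(Subgroup.centralizer {y'}) →* ↥(Subgroup.centralizer ({v} : Set G) ⊓ Subgroup.centralizer ({y} : Set G)) :=
    { toFun := fun x => ⟨((x : ↥(Subgroup.centralizer ({v} : Set G))) : G), Subgroup.mem_inf.mpr ⟨x.1.2, by
        rw [Subgroup.mem_centralizer_singleton_iff]
        exact congrArg Subtype.val (Subgroup.mem_centralizer_singleton_iff.mp x.2)⟩⟩
      map_one' := rfl
      map_mul' := fun _ _ => rfl }
  have hf : Function.Injective f := by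
    intro a b hab
    apply Subtype.ext
    apply Subtype.ext
    exact congrArg (fun z : ↥(Subgroup.centralizer ({v} : Set G) ⊓ Subgroup.centralizer ({y} : Set G)) => (z : G)) hab
  have hD'c : IsComponent ((D.subgroupOf (Subgroup.centralizer ({v} : Set G))).subgroupOf (Subgroup.centralizer {y'})) := by
    refine isComponent_comap f hf hDc ?_
    rintro ⟨x, hx⟩ hxD
    have hxv : x ∈ Subgroup.centralizer ({v} : Set G) := (Subgroup.mem_inf.mp hx).1
    have hxy : x ∈ Subgroup.centralizer ({y} : Set G) := (Subgroup.mem_inf.mp hx).2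
    exact ⟨⟨⟨x, hxv⟩, Subgroup.mem_centralizer_singleton_iff.mpr
      (Subtype.ext (Subgroup.mem_centralizer_singleton_iff.mp hxy))⟩, rfl⟩
  have heven : 2 ∣ Nat.card ((D.subgroupOf (Subgroup.centralizer ({v} : Set G))).subgroupOf
      (Subgroup.centralizer {y'})) := by
    have h1 : IsQuasisimple D := isQuasisimple_of_mulEquiv (Subgroup.subgroupOfEquivOfLe hDle) hDc.2
    have h2 := hev D h1
    rwa [Nat.card_congr (Subgroup.subgroupOfEquivOfLe hD'le).toEquiv,
      Nat.card_congr (Subgroup.subgroupOfEquivOfLe hDv).toEquiv]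
  have h2 := EvenComponent.isPComponent_of_isComponent hD'c heven
  have hord : orderOf y' = 2 := orderOf_two hy2 (by
    intro h
    have : y = 1 := congrArg Subtype.val h
    rw [this, orderOf_one] at hy
    omega)
  have hT : IsPGroup 2 (Subgroup.zpowers y') := by
    apply IsPGroup.of_card (n := 1)
    rw [Nat.card_zpowers, hord, pow_one]
  have h3 := Cfsg.Agent.S1301.result (Subgroup.zpowers y') hT
  have hc : Subgroup.centralizer ((Subgroup.zpowers y' : Subgroup ↥(Subgroup.centralizer ({v} : Set G))) : Set _) =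
      Subgroup.centralizer {y'} := by
    rw [Subgroup.zpowers_eq_closure, Subgroup.centralizer_closure]
  rw [hc] at h3
  have h4 := Subgroup.map_mono (f := (Subgroup.centralizer {y'}).subtype)
    (show (D.subgroupOf (Subgroup.centralizer ({v} : Set G))).subgroupOf (Subgroup.centralizer {y'}) ≤
      pLayer 2 (Subgroup.centralizer {y'}) from le_sSup h2)
  rw [Subgroup.map_subgroupOf_eq_of_le hD'le] at h4
  have h5 := (h4.trans h3).trans (pLayer_le_layer (core_eq_bot (hbal v hv)))
  obtain ⟨D1, hD1, hle⟩ := InvolutionComponent.exists_component_le_sup y' hy2 _ hD'le hD'c h5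
  refine ⟨D1.map (Subgroup.centralizer ({v} : Set G)).subtype, ⟨Subgroup.map_subtype_le _, ?_⟩, ?_⟩
  · have e : (D1.map (Subgroup.centralizer ({v} : Set G)).subtype).subgroupOf (Subgroup.centralizer ({v} : Set G)) = D1 :=
      Subgroup.comap_map_eq_self_of_injective (Subgroup.subtype_injective _) D1
    rw [e]
    exact hD1
  · have h6 := Subgroup.map_mono (f := (Subgroup.centralizer ({v} : Set G)).subtype) hle
    rw [Subgroup.map_subgroupOf_eq_of_le hDv, Subgroup.map_sup] at h6
    refine h6.trans (sup_le_sup_left ?_ _)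
    rintro _ ⟨_, ⟨x, hx, rfl⟩, rfl⟩
    rw [mem_cj]
    refine ⟨x, hx, ?_⟩
    change (x : G) = y⁻¹ * (y * x * y⁻¹) * y
    group

theorem map_cj_subtype {H : Subgroup G} (z : H) (E : Subgroup H) :
    (E.map (MulAut.conj z).toMonoidHom).map H.subtype = cj (z : G) (E.map H.subtype) := by
  ext x
  rw [mem_cj]
  constructor
  · rintro ⟨_, ⟨e, he, rfl⟩, rfl⟩
    refine ⟨e, he, ?_⟩
    change (e : G) = (z : G)⁻¹ * ((z : G) * e * (z : G)⁻¹) * z
    group
  · rintro ⟨e, he, hx⟩
    refine ⟨_, ⟨e, he, rfl⟩, ?_⟩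
    change (z : G) * e * (z : G)⁻¹ = x
    have hx' : (e : G) = (z : G)⁻¹ * x * z := hx
    rw [hx']; group

theorem cj_le_iff {g : G} {X Y : Subgroup G} : cj g X ≤ Y ↔ X ≤ cj g⁻¹ Y := by
  constructor
  · intro h
    have := cj_mono (g := g⁻¹) h
    rwa [cj_inv_cj] at this
  · intro h
    have := cj_mono (g := g) h
    rwa [cj_cj_inv] at this

/-- **(1)** -/
theorem norm [Finite G] (hev : EvQ G) (hbal : Bal G) {K : Subgroup G} (h : KH K)
    (F : Fam (Fm K)) (three : ∀ Λ ∈ Fm K, ∀ A B, ∃ D ∈ Λ, D ≠ A ∧ D ≠ B)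
    {Λ Λ' : Set (Subgroup G)} (hΛ : Λ ∈ Fm K) (hΛ' : Λ' ∈ Fm K) (hne : Λ ≠ Λ') {v : G} (hv : InU Λ v)
    (hvS : v ∈ St Λ') {B : Subgroup G} (hB : B ∈ Λ') : cj v B = B := by
  have hCj : ∀ Λ ∈ Fm K, ∀ A ∈ Λ, A ∈ Cj K := by
    rintro _ ⟨A, hA, rfl⟩ D hD
    exact hD.1
  have hmem : ∀ {Λ : Set (Subgroup G)} {g : G} {A : Subgroup G}, g ∈ St Λ → A ∈ Λ → cj g A ∈ Λ := by
    intro Λ g A hg hA
    have h1 : cj g A ∈ cjs g Λ := cj_mem_cjs hA
    rwa [mem_St.mp hg] at h1
  by_contra hcon
  obtain ⟨hv2, hv1, A, hA, hvA⟩ := id hv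
  have hB'Λ : cj v B ∈ Λ' := hmem hvS hB
  have hvv : cj v (cj v B) = B := by rw [← cj_mul, hv2, cj_one]
  -- the product of the other members
  set Xs : Subgroup G := sSup {A | A ∈ Λ' ∧ A ≠ B ∧ A ≠ cj v B} with hXs
  have hvX : cj v Xs = Xs := by
    have h1 : cj v Xs ≤ Xs := by
      rw [cj_le_iff, hXs]
      refine sSup_le ?_
      rintro D ⟨hD, hD1, hD2⟩
      rw [← cj_le_iff]
      refine le_sSup ⟨hmem hvS hD, ?_, ?_⟩
      · intro h2
        apply hD2
        rw [← h2, ← cj_mul, hv2, cj_one]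
      · intro h2
        exact hD1 (cj_injective v h2)
    refine le_antisymm h1 ?_
    have h2 := cj_mono (g := v) h1
    rwa [← cj_mul, hv2, cj_one] at h2
  obtain ⟨B3, hB3, hB31, hB32⟩ := three Λ' hΛ' B (cj v B)
  have hB3X : B3 ≤ Xs := le_sSup ⟨hB3, hB31, hB32⟩
  obtain ⟨y, hyX, hy2, hy1, hvy⟩ := exists_fixed_inv hv2 hvX (by
    obtain ⟨x, hx, hx2, hx1⟩ := F.inv Λ' hΛ' B3 hB3
    exact ⟨x, hB3X hx, hx2, hx1⟩)
  have hXc : ∀ D ∈ Λ', (D = B ∨ D = cj v B) → ∀ x ∈ Xs, ∀ a ∈ D, x * a = a * x := by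
    intro D hD hDB
    have h1 : Xs ≤ Subgroup.centralizer (D : Set G) := by
      rw [hXs]
      refine sSup_le ?_
      rintro A' ⟨hA', h2, h3⟩ a ha
      rw [Subgroup.mem_centralizer_iff]
      intro b hb
      refine (F.comm Λ' hΛ' A' hA' D hD ?_ a ha b hb).symm
      rintro rfl
      rcases hDB with h4 | h4
      · exact h2 h4
      · exact h3 h4
    intro x hx a ha
    exact (Subgroup.mem_centralizer_iff.mp (h1 hx) a ha).symm
  have hyB : CompOf y B := (h.conj (hCj Λ' hΛ' B hB)).term.of_comm hy2 hy1 (hXc B hB (Or.inl rfl) y hyX)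
  -- the diagonal component in `C(y)`
  have hvyC : v ∈ Subgroup.centralizer ({y} : Set G) := Subgroup.mem_centralizer_singleton_iff.mpr hvy
  set z : ↥(Subgroup.centralizer ({y} : Set G)) := ⟨v, hvyC⟩ with hz
  have hzz : z * z = 1 := Subtype.ext hv2
  have hEmap : (B.subgroupOf (Subgroup.centralizer ({y} : Set G))).map (Subgroup.centralizer ({y} : Set G)).subtype = B :=
    Subgroup.map_subgroupOf_eq_of_le hyB.1
  have hEne : Cit.cj z (B.subgroupOf (Subgroup.centralizer ({y} : Set G))) ≠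
      B.subgroupOf (Subgroup.centralizer ({y} : Set G)) := by
    intro h1
    apply hcon
    have h2 := congrArg (Subgroup.map (Subgroup.centralizer ({y} : Set G)).subtype) h1
    rw [Cit.cj_def, map_cj_subtype, hEmap] at h2
    exact h2
  obtain ⟨D1, hD1z, hD1E, hD1c, hD1q, -⟩ := Cfsg.Agent.Cit.Comp.exists_diag hyB.2 hzz hEne
  set D : Subgroup G := D1.map (Subgroup.centralizer ({y} : Set G)).subtype with hDdef
  have hDy : D ≤ Subgroup.centralizer ({y} : Set G) := Subgroup.map_subtype_le _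
  have hDv : D ≤ Subgroup.centralizer ({v} : Set G) := by
    rintro _ ⟨d, hd, rfl⟩
    rw [Subgroup.mem_centralizer_singleton_iff]
    exact congrArg Subtype.val (Subgroup.mem_centralizer_singleton_iff.mp (hD1z hd))
  have hDB : D ≤ B ⊔ cj v B := by
    have h1 := Subgroup.map_mono (f := (Subgroup.centralizer ({y} : Set G)).subtype) hD1E
    rw [Subgroup.map_sup, Cit.cj_def, map_cj_subtype, hEmap] at h1
    exact h1
  have hDq : IsQuasisimple D :=
    isQuasisimple_of_mulEquiv (D1.equivMapOfInjective _ (Subgroup.subtype_injective _)) hD1q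
  have hDc : Cmp (Subgroup.centralizer ({v} : Set G) ⊓ Subgroup.centralizer ({y} : Set G)) D := by
    refine ⟨le_inf hDv hDy, ?_⟩
    let f : ↥(Subgroup.centralizer ({v} : Set G) ⊓ Subgroup.centralizer ({y} : Set G)) →* ↥(Subgroup.centralizer {z}) :=
      { toFun := fun x => ⟨⟨x, (Subgroup.mem_inf.mp x.2).2⟩, by
          rw [Subgroup.mem_centralizer_singleton_iff]
          exact Subtype.ext (Subgroup.mem_centralizer_singleton_iff.mp (Subgroup.mem_inf.mp x.2).1)⟩
        map_one' := rfl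
        map_mul' := fun _ _ => rfl }
    have hf : Function.Injective f := by
      intro a b hab
      apply Subtype.ext
      exact congrArg (fun w : ↥(Subgroup.centralizer {z}) => ((w : ↥(Subgroup.centralizer ({y} : Set G))) : G)) hab
    have h1 := isComponent_comap f hf hD1c (by
      rintro ⟨⟨x, hxy⟩, hxz⟩ hxD
      have hxv : x ∈ Subgroup.centralizer ({v} : Set G) := by
        rw [Subgroup.mem_centralizer_singleton_iff]
        exact congrArg Subtype.val (Subgroup.mem_centralizer_singleton_iff.mp hxz)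
      exact ⟨⟨x, Subgroup.mem_inf.mpr ⟨hxv, hxy⟩⟩, rfl⟩)
    have h2 : (D1.subgroupOf (Subgroup.centralizer {z})).comap f =
        D.subgroupOf (Subgroup.centralizer ({v} : Set G) ⊓ Subgroup.centralizer ({y} : Set G)) := by
      ext x
      rw [Subgroup.mem_comap, Subgroup.mem_subgroupOf, Subgroup.mem_subgroupOf, hDdef]
      constructor
      · intro hx
        exact ⟨_, hx, rfl⟩
      · rintro ⟨w, hw, hwx⟩
        have : w = (f x : ↥(Subgroup.centralizer ({y} : Set G))) := Subtype.ext hwx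
        rw [← this]
        exact hw
    rwa [h2] at h1
  obtain ⟨FF, hFF, hDF⟩ := pump hev hbal (orderOf_two hv2 hv1) (orderOf_two hy2 hy1) hvy hDc
  have hyS : y ∈ St Λ := F.cen hΛ hv hvy
  have hyy : ∀ X : Subgroup G, cj y (cj y X) = X := fun X => by rw [← cj_mul, hy2, cj_one]
  have hFF' : CompOf v (cj y FF) := by
    have h1 := hFF.conj y
    have e : y * v * y⁻¹ = v := by rw [← hvy]; group
    rwa [e] at h1
  have hAv : CompOf v A := (h.conj (hCj Λ hΛ A hA)).term.of_comm hv2 hv1 hvA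
  obtain ⟨Lk, hLk, hc1, hc2⟩ : ∃ Lk ∈ Λ, (∀ x ∈ Lk, ∀ w ∈ FF, x * w = w * x) ∧
      (∀ x ∈ Lk, ∀ w ∈ cj y FF, x * w = w * x) := by
    by_cases hFΛ : FF ∈ Λ
    · obtain ⟨Lk, hLk, h1, h2⟩ := three Λ hΛ FF (cj y FF)
      exact ⟨Lk, hLk, F.comm Λ hΛ Lk hLk FF hFΛ h1, F.comm Λ hΛ Lk hLk _ (hmem hyS hFΛ) h2⟩
    · refine ⟨A, hA, ?_, ?_⟩
      · rcases hAv.eq_or_comm hFF with h1 | h1
        · exact absurd (h1 ▸ hA) hFΛ
        · exact h1
      · rcases hAv.eq_or_comm hFF' with h1 | h1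
        · exfalso
          apply hFΛ
          have h2 := hmem hyS hA
          rw [h1, hyy] at h2
          exact h2
        · exact h1
  obtain ⟨d, hd, hd2, hd1⟩ := ZStar.exists_inv (hev D hDq)
  have hsup : ∀ (X Y Z : Subgroup G), (∀ x ∈ Z, ∀ w ∈ X, x * w = w * x) → (∀ x ∈ Z, ∀ w ∈ Y, x * w = w * x) →
      ∀ d ∈ X ⊔ Y, ∀ a ∈ Z, d * a = a * d := by
    intro X Y Z h1 h2 d hd a ha
    have h3 : X ⊔ Y ≤ Subgroup.centralizer (Z : Set G) := by
      refine sup_le ?_ ?_
      · intro x hx; exact Subgroup.mem_centralizer_iff.mpr fun b hb => h1 b hb x hx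
      · intro x hx; exact Subgroup.mem_centralizer_iff.mpr fun b hb => h2 b hb x hx
    exact (Subgroup.mem_centralizer_iff.mp (h3 hd) a ha).symm
  refine hne (F.uniq Λ hΛ Λ' hΛ' d ⟨hd2, hd1, Lk, hLk, hsup FF (cj y FF) Lk hc1 hc2 d (hDF hd)⟩
    ⟨hd2, hd1, B3, hB3, hsup B (cj v B) B3 (F.comm Λ' hΛ' B3 hB3 B hB hB31)
      (F.comm Λ' hΛ' B3 hB3 _ hB'Λ hB32) d (hDB hd)⟩)

end Cfsg.Agent.OddHalf.D3.NormOne
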