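import Cfsg.Agent.OddHalf.D3.EvDefs
import Cfsg.Agent.OddHalf.D3.NormOne

/-!
# ODD D3 (iii), even centre: diagonals (text of helper760, bb ODD 10166, the order lemma)
-/

set_option autoImplicit false

namespace Cfsg.Agent.OddHalf.D3.EvDiag

open Cfsg Cfsg.Agent.OddHalf.D3.ThreeDefs Cfsg.Agent.OddHalf.D3.ThreeFam Cfsg.Agent.OddHalf.D3.ThreeMain
open Cfsg.Agent.OddHalf.D3.Swap Cfsg.Agent.OddHalf.D3.TwoCfg Cfsg.Agent.OddHalf.D3.EvDefs
open Cfsg.Agent.OddHalf.D3.FamTerm Cfsg.Agent.OddHalf.D3.NormOne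
open Cfsg.Agent.SignalizersComponents.Components Cfsg.Agent.SignalizersComponents
open scoped commutatorElement

universe u

variable {G : Type u} [Group G]

/-- `M` and `e M e⁻¹` commute elementwise -/
def Co (M : Subgroup G) (e : G) : Prop := ∀ a ∈ M, ∀ b ∈ cj e M, a * b = b * a

/-- the diagonal `{m (e m e⁻¹)}` -/
def Dg (M : Subgroup G) (e : G) (h : Co M e) : Subgroup G := (diag (M := M) (e := e) h).range

theorem mem_Dg {M : Subgroup G} {e : G} {h : Co M e} {g : G} : g ∈ Dg M e h ↔ ∃ m ∈ M, m * (e * m * e⁻¹) = g := by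
  constructor
  · rintro ⟨m, rfl⟩; exact ⟨m, m.2, rfl⟩
  · rintro ⟨m, hm, rfl⟩; exact ⟨⟨m, hm⟩, rfl⟩

theorem Dg_mem {M : Subgroup G} {e : G} (h : Co M e) {m : G} (hm : m ∈ M) : m * (e * m * e⁻¹) ∈ Dg M e h :=
  mem_Dg.mpr ⟨m, hm, rfl⟩

theorem Dg_le {M : Subgroup G} {e : G} (h : Co M e) : Dg M e h ≤ M ⊔ cj e M := by
  intro x hx
  obtain ⟨m, hm, rfl⟩ := mem_Dg.mp hx
  exact mul_mem (Subgroup.mem_sup_left hm) (Subgroup.mem_sup_right (conj_mem_cj hm))

theorem Dg_comm {M : Subgroup G} {e : G} (h : Co M e) (he : e * e = 1) {x : G} (hx : x ∈ Dg M e h) : x * e = e * x := by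
  obtain ⟨m, rfl⟩ := hx
  exact diag_comm h he m

theorem perfect_iff {M : Subgroup G} : ⁅M, M⁆ = M ↔ Group.IsPerfect M := Subgroup.isPerfect_iff.symm

theorem top_comm {M : Subgroup G} (h : ⁅M, M⁆ = M) : ⁅(⊤ : Subgroup M), (⊤ : Subgroup M)⁆ = ⊤ := by
  have := perfect_iff.mp h
  exact Group.IsPerfect.commutator_eq_top

theorem Dg_perfect {M : Subgroup G} {e : G} (h : Co M e) (hM : ⁅M, M⁆ = M) : ⁅Dg M e h, Dg M e h⁆ = Dg M e h := by
  unfold Dg
  rw [MonoidHom.range_eq_map, ← Subgroup.map_commutator, top_comm hM]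

/-- an element of `M ∩ e M e⁻¹` is central in `M` -/
theorem cen_of_inter {M : Subgroup G} {e : G} (h : Co M e) {k : G} (hk' : k ∈ cj e M) {a : G}
    (ha : a ∈ M) : a * k = k * a := h a ha k hk'

/-- **perfect subgroups of `C(e)` in `M M^e` lie in the diagonal** -/
theorem perfect_le_Dg {M : Subgroup G} {e : G} (h : Co M e) (he : e * e = 1) {D : Subgroup G} (hD : ⁅D, D⁆ = D)
    (hle : D ≤ M ⊔ cj e M) (hDe : ∀ x ∈ D, x * e = e * x) : D ≤ Dg M e h := by
  have hei : e⁻¹ = e := inv_eq_of_mul_eq_one_right he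
  have key : ∀ x ∈ D, ∃ a ∈ M, ∃ k, k ∈ M ∧ k ∈ cj e M ∧ x = a * (e * a * e⁻¹) * k := by
    intro x hx
    obtain ⟨a, ha, b, hb, hab⟩ := Cit.Comp.mem_sup_comm h (hle hx)
    have h1 : e * a * e⁻¹ ∈ cj e M := conj_mem_cj ha
    have h2 : e * b * e⁻¹ ∈ M := by
      rw [mem_cj] at hb
      rw [hei] at hb ⊢
      exact hb
    have h3 : (e * a * e⁻¹) * (e * b * e⁻¹) = a * b := by
      have h4 := hDe x hx
      rw [← hab] at h4
      calc (e * a * e⁻¹) * (e * b * e⁻¹) = e * (a * b) * e⁻¹ := by group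
        _ = a * b := by rw [← h4]; group
    have h5 : (e * a * e⁻¹)⁻¹ * b = a⁻¹ * (e * b * e⁻¹) := by
      have h6 := h a ha _ h1
      calc (e * a * e⁻¹)⁻¹ * b = (e * a * e⁻¹)⁻¹ * a⁻¹ * (a * b) := by group
        _ = (a * (e * a * e⁻¹))⁻¹ * (a * b) := by group
        _ = ((e * a * e⁻¹) * a)⁻¹ * ((e * a * e⁻¹) * (e * b * e⁻¹)) := by rw [h6, h3]
        _ = a⁻¹ * (e * b * e⁻¹) := by group
    refine ⟨a, ha, (e * a * e⁻¹)⁻¹ * b, ?_, mul_mem (inv_mem h1) hb, ?_⟩
    · rw [h5]; exact mul_mem (inv_mem ha) h2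
    · rw [← hab]; group
  rw [← hD, Subgroup.commutator_le]
  intro x hx y hy
  obtain ⟨a, ha, k, hk, hk', rfl⟩ := key x hx
  obtain ⟨b, hb, l, hl, hl', rfl⟩ := key y hy
  set p := a * (e * a * e⁻¹) with hp
  set q := b * (e * b * e⁻¹) with hq
  have hpD : p ∈ Dg M e h := Dg_mem h ha
  have hqD : q ∈ Dg M e h := Dg_mem h hb
  have hcen : ∀ k, k ∈ M → k ∈ cj e M → ∀ x ∈ M ⊔ cj e M, k * x = x * k := by
    intro k hk hk' x hx
    have h1 : M ⊔ cj e M ≤ Subgroup.centralizer ({k} : Set G) := by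
      refine sup_le ?_ ?_
      · intro x hx; exact Subgroup.mem_centralizer_singleton_iff.mpr (h x hx k hk')
      · intro x hx; exact Subgroup.mem_centralizer_singleton_iff.mpr (h k hk x hx).symm
    exact (Subgroup.mem_centralizer_singleton_iff.mp (h1 hx)).symm
  have hpS := Dg_le h hpD
  have hqS := Dg_le h hqD
  have h1 := hcen k hk hk' _ (mul_mem hqS (Subgroup.mem_sup_left hl))
  have h2 := hcen l hl hl' p hpS
  have h3 : ⁅p * k, q * l⁆ = ⁅p, q⁆ := by
    rw [commutatorElement_def, commutatorElement_def]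
    calc p * k * (q * l) * (p * k)⁻¹ * (q * l)⁻¹ = p * (k * (q * l)) * k⁻¹ * p⁻¹ * (q * l)⁻¹ := by group
      _ = p * ((q * l) * k) * k⁻¹ * p⁻¹ * (q * l)⁻¹ := by rw [h1]
      _ = p * q * (l * p⁻¹) * l⁻¹ * q⁻¹ := by group
      _ = p * q * (p⁻¹ * (p * l) * p⁻¹) * l⁻¹ * q⁻¹ := by group
      _ = p * q * (p⁻¹ * (l * p) * p⁻¹) * l⁻¹ * q⁻¹ := by rw [h2]
      _ = p * q * p⁻¹ * q⁻¹ := by group
  rw [h3, commutatorElement_def]
  exact mul_mem (mul_mem (mul_mem hpD hqD) (inv_mem hpD)) (inv_mem hqD)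

/-! ### The index of the centre -/

/-- `|M / Z(M)|` -/
noncomputable def qi (M : Subgroup G) : ℕ := (Subgroup.center M).index

theorem qi_pos [Finite G] (M : Subgroup G) : 0 < qi M :=
  Nat.pos_of_ne_zero (Subgroup.index_ne_zero_of_finite)

theorem index_center_of_surj {X Y : Type*} [Group X] [Group Y] (hX : IsQuasisimple X) (f : X →* Y)
    (hf : Function.Surjective f) (hne : ¬ ∀ x y : Y, x * y = y * x) :
    (Subgroup.center Y).index = (Subgroup.center X).index := by
  have h1 : (Subgroup.center Y).comap f = Subgroup.center X := by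
    apply le_antisymm
    · rcases Lib.ComponentSolvable.quasisimple_normal_cases hX (N := (Subgroup.center Y).comap f) inferInstance with h | h
      · exfalso
        apply hne
        intro x y
        obtain ⟨a, rfl⟩ := hf x
        have : a ∈ (Subgroup.center Y).comap f := by rw [h]; trivial
        rw [Subgroup.mem_comap, Subgroup.mem_center_iff] at this
        exact (this y).symm
      · exact h
    · intro x hx
      rw [Subgroup.mem_comap, Subgroup.mem_center_iff]
      intro y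
      obtain ⟨b, rfl⟩ := hf y
      rw [← map_mul, ← map_mul, Subgroup.mem_center_iff.mp hx b]
  rw [← h1, Subgroup.index_comap_of_surjective _ hf]

theorem not_comm_of_perfect {M : Subgroup G} (h : ⁅M, M⁆ = M) (h1 : ∃ x ∈ M, x ≠ 1) : ¬ ∀ x ∈ M, ∀ y ∈ M, x * y = y * x := by
  intro hc
  obtain ⟨x, hx, hx1⟩ := h1
  apply hx1
  rw [← h] at hx
  have h2 : ⁅M, M⁆ ≤ ⊥ := by
    rw [Subgroup.commutator_le]
    intro a ha b hb
    rw [Subgroup.mem_bot, commutatorElement_def, hc a ha b hb]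
    group
  exact Subgroup.mem_bot.mp (h2 hx)

theorem qs_perfect {M : Subgroup G} (h : IsQuasisimple M) : ⁅M, M⁆ = M := perfect_iff.mpr h.1

theorem qs_not_comm {M : Subgroup G} (h : IsQuasisimple M) : ¬ ∀ x ∈ M, ∀ y ∈ M, x * y = y * x := by
  intro hc
  exact quasisimple_not_isMulCommutative h ⟨⟨fun a b => Subtype.ext (hc a a.2 b b.2)⟩⟩

theorem Dg_not_comm {M : Subgroup G} {e : G} (h : Co M e) (hq : IsQuasisimple M) :
    ¬ ∀ x ∈ Dg M e h, ∀ y ∈ Dg M e h, x * y = y * x := by
  refine not_comm_of_perfect (Dg_perfect h (qs_perfect hq)) ?_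
  by_contra hcon
  push Not at hcon
  apply qs_not_comm hq
  intro x hx y hy
  have h1 := hcon _ (Dg_mem h hx)
  have h2 : x = (e * x * e⁻¹)⁻¹ := eq_inv_of_mul_eq_one_left h1
  have h3 := h y hy (e * x * e⁻¹)⁻¹ (inv_mem (conj_mem_cj hx))
  rw [← h2] at h3
  exact h3.symm

theorem qi_Dg {M : Subgroup G} {e : G} (h : Co M e) (hq : IsQuasisimple M) : qi (Dg M e h) = qi M := by
  refine index_center_of_surj hq (diag h).rangeRestrict (MonoidHom.rangeRestrict_surjective _) ?_
  intro hc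
  exact Dg_not_comm h hq fun x hx y hy => congrArg Subtype.val (hc ⟨x, hx⟩ ⟨y, hy⟩)

theorem qi_cj (g : G) (M : Subgroup G) : qi (cj g M) = qi M := by
  let φ : M ≃* cj g M := M.equivMapOfInjective _ (MulAut.conj g).injective
  have hc : (Subgroup.center (cj g M)).comap φ.toMonoidHom = Subgroup.center M := by
    ext x
    rw [Subgroup.mem_comap, Subgroup.mem_center_iff, Subgroup.mem_center_iff]
    constructor
    · intro h y
      apply φ.injective
      rw [map_mul, map_mul]
      exact h (φ y)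
    · intro h y
      obtain ⟨y, rfl⟩ := φ.surjective y
      change φ y * φ x = φ x * φ y
      rw [← map_mul, ← map_mul, h y]
  unfold qi
  rw [← hc, Subgroup.index_comap_of_surjective _ φ.surjective]

/-- the centre of the diagonal -/
theorem mem_center_of_Dg {M : Subgroup G} {e : G} (h : Co M e) (hq : IsQuasisimple M) {l : G} (hl : l ∈ M)
    (hc : ∀ x ∈ Dg M e h, l * (e * l * e⁻¹) * x = x * (l * (e * l * e⁻¹))) : ∀ x ∈ M, l * x = x * l := by
  rcases Lib.ComponentSolvable.quasisimple_normal_cases hq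
    (N := (Subgroup.center (diag h).range).comap (diag h).rangeRestrict) inferInstance with h1 | h1
  · exfalso
    apply Dg_not_comm h hq
    rintro _ ⟨a, rfl⟩ y hy
    have : a ∈ (Subgroup.center (diag h).range).comap (diag h).rangeRestrict := by rw [h1]; trivial
    rw [Subgroup.mem_comap, Subgroup.mem_center_iff] at this
    exact (congrArg Subtype.val (this ⟨y, hy⟩)).symm
  · have h2 : (⟨l, hl⟩ : M) ∈ (Subgroup.center (diag h).range).comap (diag h).rangeRestrict := by
      rw [Subgroup.mem_comap, Subgroup.mem_center_iff]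
      rintro ⟨x, hx⟩
      exact Subtype.ext (hc x hx).symm
    have h3 := Subgroup.mem_center_iff.mp (h1 h2)
    intro x hx
    exact (congrArg Subtype.val (h3 ⟨x, hx⟩)).symm

/-- **the order lemma** -/
theorem order_lemma [Finite G] {D N : Subgroup G} (hN : ⁅N, N⁆ = N) (hle : D ≤ N)
    (hq : qi N ≤ qi D) : D = N := by
  have key : (D.subgroupOf N) ⊔ Subgroup.center N = ⊤ := by
    rw [← Subgroup.index_eq_one]
    have h1 : (Subgroup.center N).relIndex (D.subgroupOf N ⊔ Subgroup.center N) =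
        (Subgroup.center N).relIndex (D.subgroupOf N) := Subgroup.relIndex_sup_right _ _
    have h2 : (Subgroup.center N).relIndex (D.subgroupOf N ⊔ Subgroup.center N) *
        (D.subgroupOf N ⊔ Subgroup.center N).index = (Subgroup.center N).index :=
      Subgroup.relIndex_mul_index le_sup_right
    have h3 : qi D ≤ (Subgroup.center N).relIndex (D.subgroupOf N) := by
      have h4 : ((Subgroup.center N).subgroupOf (D.subgroupOf N)).index =
          (((Subgroup.center N).subgroupOf (D.subgroupOf N)).comap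
            (Subgroup.subgroupOfEquivOfLe hle).symm.toMonoidHom).index :=
        (Subgroup.index_comap_of_surjective _ (Subgroup.subgroupOfEquivOfLe hle).symm.surjective).symm
      unfold qi Subgroup.relIndex
      rw [h4]
      have h5 : ((Subgroup.center N).subgroupOf (D.subgroupOf N)).comap
            (Subgroup.subgroupOfEquivOfLe hle).symm.toMonoidHom ≤ Subgroup.center D := by
        intro x hx
        rw [Subgroup.mem_center_iff]
        intro y
        have h6 : (⟨(x : G), hle x.2⟩ : N) ∈ Subgroup.center N := hx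
        have h7 := Subgroup.mem_center_iff.mp h6 ⟨y, hle y.2⟩
        exact Subtype.ext (congrArg (fun w : N => (w : G)) h7)
      exact Nat.le_of_dvd (Nat.pos_of_ne_zero Subgroup.index_ne_zero_of_finite) (Subgroup.index_dvd_of_le h5)
    rw [h1] at h2
    have hpos : 0 < (Subgroup.center N).relIndex (D.subgroupOf N) := lt_of_lt_of_le (qi_pos D) h3
    have h8 : (Subgroup.center N).relIndex (D.subgroupOf N) * (D.subgroupOf N ⊔ Subgroup.center N).index ≤
        (Subgroup.center N).relIndex (D.subgroupOf N) * 1 := by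
      rw [h2, mul_one]; exact hq.trans h3
    have h9 := Nat.le_of_mul_le_mul_left h8 hpos
    have h10 : (D.subgroupOf N ⊔ Subgroup.center N).index ≠ 0 := Subgroup.index_ne_zero_of_finite
    omega
  refine le_antisymm hle ?_
  have hex : ∀ n ∈ N, ∃ d ∈ D, ∃ z : G, (∀ x ∈ N, x * z = z * x) ∧ z ∈ N ∧ n = d * z := by
    intro n hn
    have h1 : (⟨n, hn⟩ : N) ∈ (D.subgroupOf N) ⊔ Subgroup.center N := by rw [key]; trivial
    obtain ⟨d, hd, z, hz, hdz⟩ := Subgroup.mem_sup_of_normal_right.mp h1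
    refine ⟨d, hd, z, ?_, z.2, (congrArg Subtype.val hdz).symm⟩
    intro x hx
    exact congrArg Subtype.val (Subgroup.mem_center_iff.mp hz ⟨x, hx⟩)
  have : ⁅N, N⁆ ≤ D := by
    rw [Subgroup.commutator_le]
    intro x hx y hy
    obtain ⟨d, hd, z, hz, hzN, rfl⟩ := hex x hx
    obtain ⟨d', hd', z', hz', hzN', rfl⟩ := hex y hy
    have h1 := hz _ hy
    have h2 := hz' d (hle hd)
    have h3 : ⁅d * z, d' * z'⁆ = ⁅d, d'⁆ := by
      rw [commutatorElement_def, commutatorElement_def]
      calc d * z * (d' * z') * (d * z)⁻¹ * (d' * z')⁻¹ = d * (z * (d' * z')) * z⁻¹ * d⁻¹ * (d' * z')⁻¹ := by group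
        _ = d * ((d' * z') * z) * z⁻¹ * d⁻¹ * (d' * z')⁻¹ := by rw [← h1]
        _ = d * d' * (d⁻¹ * (d * z') * d⁻¹) * z'⁻¹ * d'⁻¹ := by group
        _ = d * d' * (d⁻¹ * (z' * d) * d⁻¹) * z'⁻¹ * d'⁻¹ := by rw [h2]
        _ = d * d' * d⁻¹ * d'⁻¹ := by group
    rw [h3, commutatorElement_def]
    exact mul_mem (mul_mem (mul_mem hd hd') (inv_mem hd)) (inv_mem hd')
  rwa [hN] at this

/-- the diagonal as a component of `C(v) ∩ C(y)` -/
theorem exists_J {y v : G} {B : Subgroup G} (hyB : CompOf y B) (hv2 : v * v = 1)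
    (hvy : v * y = y * v) (hcon : cj v B ≠ B) : ∃ D : Subgroup G, D ≤ Subgroup.centralizer ({v} : Set G) ∧
      D ≤ Subgroup.centralizer ({y} : Set G) ∧ D ≤ B ⊔ cj v B ∧ IsQuasisimple D ∧
      Cmp (Subgroup.centralizer ({v} : Set G) ⊓ Subgroup.centralizer ({y} : Set G)) D ∧
      ∀ x ∈ B, x * (v * x * v⁻¹) ∈ D := by
  have hvyC : v ∈ Subgroup.centralizer ({y} : Set G) := Subgroup.mem_centralizer_singleton_iff.mpr hvy
  set z : ↥(Subgroup.centralizer ({y} : Set G)) := ⟨v, hvyC⟩ with hz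
  have hzz : z * z = 1 := Subtype.ext hv2
  have hEmap : (B.subgroupOf (Subgroup.centralizer ({y} : Set G))).map (Subgroup.centralizer ({y} : Set G)).subtype = B :=
    Subgroup.map_subgroupOf_eq_of_le hyB.1
  have hEne : Cit.cj z (B.subgroupOf (Subgroup.centralizer ({y} : Set G))) ≠
      B.subgroupOf (Subgroup.centralizer ({y} : Set G)) := by
    intro h1
    apply hcon
    have h2 := congrArg (Subgroup.map (Subgroup.centralizer ({y} : Set G)).subtype) h1
    rw [Cit.cj_def, map_cj_subtype, hEmap] at h2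
    exact h2
  obtain ⟨D1, hD1z, hD1E, hD1c, hD1q, hD1m⟩ := Cfsg.Agent.Cit.Comp.exists_diag hyB.2 hzz hEne
  set D : Subgroup G := D1.map (Subgroup.centralizer ({y} : Set G)).subtype with hDdef
  have hDy : D ≤ Subgroup.centralizer ({y} : Set G) := Subgroup.map_subtype_le _
  have hDv : D ≤ Subgroup.centralizer ({v} : Set G) := by
    rintro _ ⟨d, hd, rfl⟩
    rw [Subgroup.mem_centralizer_singleton_iff]
    exact congrArg Subtype.val (Subgroup.mem_centralizer_singleton_iff.mp (hD1z hd))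
  have hDB : D ≤ B ⊔ cj v B := by
    have h1 := Subgroup.map_mono (f := (Subgroup.centralizer ({y} : Set G)).subtype) hD1E
    rw [Subgroup.map_sup, Cit.cj_def, map_cj_subtype, hEmap] at h1
    exact h1
  have hDq : IsQuasisimple D :=
    isQuasisimple_of_mulEquiv (D1.equivMapOfInjective _ (Subgroup.subtype_injective _)) hD1q
  refine ⟨D, hDv, hDy, hDB, hDq, ⟨le_inf hDv hDy, ?_⟩, ?_⟩
  · let f : ↥(Subgroup.centralizer ({v} : Set G) ⊓ Subgroup.centralizer ({y} : Set G)) →* ↥(Subgroup.centralizer {z}) :=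
      { toFun := fun x => ⟨⟨x, (Subgroup.mem_inf.mp x.2).2⟩, by
          rw [Subgroup.mem_centralizer_singleton_iff]
          exact Subtype.ext (Subgroup.mem_centralizer_singleton_iff.mp (Subgroup.mem_inf.mp x.2).1)⟩
        map_one' := rfl
        map_mul' := fun _ _ => rfl }
    have hf : Function.Injective f := by
      intro a b hab
      apply Subtype.ext
      exact congrArg (fun w : ↥(Subgroup.centralizer {z}) => ((w : ↥(Subgroup.centralizer ({y} : Set G))) : G)) hab
    have h1 := isComponent_comap f hf hD1c (by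
      rintro ⟨⟨x, hxy⟩, hxz⟩ hxD
      have hxv : x ∈ Subgroup.centralizer ({v} : Set G) := by
        rw [Subgroup.mem_centralizer_singleton_iff]
        exact congrArg Subtype.val (Subgroup.mem_centralizer_singleton_iff.mp hxz)
      exact ⟨⟨x, Subgroup.mem_inf.mpr ⟨hxv, hxy⟩⟩, rfl⟩)
    have h2 : (D1.subgroupOf (Subgroup.centralizer {z})).comap f =
        D.subgroupOf (Subgroup.centralizer ({v} : Set G) ⊓ Subgroup.centralizer ({y} : Set G)) := by
      ext x
      rw [Subgroup.mem_comap, Subgroup.mem_subgroupOf, Subgroup.mem_subgroupOf, hDdef]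
      constructor
      · intro hx
        exact ⟨_, hx, rfl⟩
      · rintro ⟨w, hw, hwx⟩
        have : w = (f x : ↥(Subgroup.centralizer ({y} : Set G))) := Subtype.ext hwx
        rw [← this]
        exact hw
    rwa [h2] at h1
  · intro x hx
    exact ⟨_, hD1m ⟨x, hyB.1 hx⟩ hx, rfl⟩

end Cfsg.Agent.OddHalf.D3.EvDiag
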