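import Cfsg.Agent.OddHalf.D3.EvSwap
import Cfsg.Agent.OddHalf.D3.RigidSyl

/-!
# ODD D3 (iii), even centre: the maximal 2-subgroup (texts of helper760, bb ODD 10166, (E3), and 13086, (mv) FRAME)

`EFam3`: the frame with the results of (E2) and (sw). `ECfg 𝓒 Q`: the maximal 2-subgroup `Q`.
-/

set_option autoImplicit false

namespace Cfsg.Agent.OddHalf.D3.EvMax

open Cfsg Cfsg.Agent.OddHalf.D3.ThreeDefs Cfsg.Agent.OddHalf.D3.ThreeFam Cfsg.Agent.OddHalf.D3.ThreeMain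
open Cfsg.Agent.OddHalf.D3.Swap Cfsg.Agent.OddHalf.D3.TwoCfg Cfsg.Agent.OddHalf.D3.TwoNF Cfsg.Agent.OddHalf.D3.TwoKey
open Cfsg.Agent.OddHalf.D3.EvDefs Cfsg.Agent.OddHalf.D3.EvSwap Cfsg.Agent.OddHalf.D3.EvDiag
open Cfsg.Agent.Involutions.RigidAut
open scoped commutatorElement

universe u

variable {G : Type u} [Group G]

/-! ### Sylow 2-subgroups of perfect groups with even centre -/

theorem IsSyl.exists_sylow [Finite G] {T X : Subgroup G} (h : IsSyl T X) :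
    ∃ P : Sylow 2 X, (P : Subgroup X).map X.subtype = T := by
  have hS' : IsPGroup 2 (T.subgroupOf X) := h.2.1.of_injective (Subgroup.subgroupOfEquivOfLe h.1).toMonoidHom
    (Subgroup.subgroupOfEquivOfLe h.1).injective
  obtain ⟨P, hP⟩ := hS'.exists_le_sylow
  exact ⟨P, h.eq (Subgroup.map_subtype_le _) (P.2.map _) (fun s hs => ⟨⟨s, h.1 hs⟩, hP hs, rfl⟩)⟩

/-- the Sylow 2-subgroups of a perfect group with a central involution are not abelian -/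
theorem syl_not_comm [Finite G] {M T : Subgroup G} (hM : ⁅M, M⁆ = M) (hT : IsSyl T M) {z : G} (hz : z ∈ M)
    (hz2 : z * z = 1) (hz1 : z ≠ 1) (hzc : ∀ a ∈ M, z * a = a * z) : ¬ ∀ x ∈ T, ∀ y ∈ T, x * y = y * x := by
  intro hab
  have hp : Fact (Nat.Prime 2) := ⟨Nat.prime_two⟩
  obtain ⟨P, hP⟩ := IsSyl.exists_sylow hT
  have hPab : ∀ a b : (P : Subgroup M), a * b = b * a := by
    intro a b
    apply Subtype.ext
    apply Subtype.ext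
    exact hab _ (by rw [← hP]; exact ⟨a, a.2, rfl⟩) _ (by rw [← hP]; exact ⟨b, b.2, rfl⟩)
  let _ : CommGroup (P : Subgroup M) := { (inferInstance : Group (P : Subgroup M)) with mul_comm := hPab }
  let τ : M →* (P : Subgroup M) := MonoidHom.transfer (MonoidHom.id (P : Subgroup M))
  have hτ : ∀ m : M, τ m = 1 := by
    intro m
    have h1 : (⊤ : Subgroup M) ≤ τ.ker := by
      rw [← top_comm hM, Subgroup.commutator_le]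
      intro a _ b _
      rw [MonoidHom.mem_ker, commutatorElement_def, map_mul, map_mul, map_mul, map_inv, map_inv, mul_comm (τ a)]
      group
    exact MonoidHom.mem_ker.mp (h1 (Subgroup.mem_top m))
  have hkey : ∀ (k : ℕ) (g₀ : M), g₀⁻¹ * (⟨z, hz⟩ : M) ^ k * g₀ ∈ (P : Subgroup M) →
      g₀⁻¹ * (⟨z, hz⟩ : M) ^ k * g₀ = (⟨z, hz⟩ : M) ^ k := by
    intro k g₀ _
    have h1 : Commute (⟨z, hz⟩ : M) g₀ := Subtype.ext (hzc g₀ g₀.2)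
    have h2 := (h1.pow_left k).eq
    rw [mul_assoc, h2]
    group
  have h1 := MonoidHom.transfer_eq_pow (MonoidHom.id (P : Subgroup M)) (⟨z, hz⟩ : M) hkey
  have h2 : (⟨z, hz⟩ : M) ^ (P : Subgroup M).index = 1 := by
    have h3 := hτ ⟨z, hz⟩
    change MonoidHom.transfer (MonoidHom.id (P : Subgroup M)) ⟨z, hz⟩ = 1 at h3
    rw [h1] at h3
    exact congrArg Subtype.val h3
  have hodd : ¬ 2 ∣ (P : Subgroup M).index := P.not_dvd_index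
  apply hz1
  obtain ⟨m, hm⟩ : Odd (P : Subgroup M).index := Nat.not_even_iff_odd.mp (by rw [even_iff_two_dvd]; exact hodd)
  rw [hm, pow_succ, pow_mul] at h2
  have h4 : (⟨z, hz⟩ : M) ^ 2 = 1 := by rw [pow_two]; exact Subtype.ext hz2
  rw [h4, one_pow, one_mul] at h2
  exact congrArg Subtype.val h2

/-- A 2-group `P` normalising `A` (without normal subgroups of odd order), centralising a Sylow 2-subgroup `S` of `A`
and faithful on `A` is abelian (`RigidSyl.abelian`). -/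
theorem rigid [Finite G] {A P S : Subgroup G} (hO : ∀ N : Subgroup A, N.Normal → Odd (Nat.card N) → N = ⊥)
    (hP : IsPGroup 2 P) (hPA : ∀ p ∈ P, cj p A = A) (hS : IsSyl S A) (hcomm : ∀ p ∈ P, ∀ s ∈ S, p * s = s * p)
    (hfaith : ∀ p ∈ P, (∀ a ∈ A, p * a = a * p) → p = 1) : ∀ p ∈ P, ∀ q ∈ P, p * q = q * p := by
  have hp : Fact (Nat.Prime 2) := ⟨Nat.prime_two⟩
  obtain ⟨T, hTS⟩ := IsSyl.exists_sylow hS
  have hTmem : ∀ t : A, t ∈ T → (t : G) ∈ S := by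
    intro t ht
    rw [← hTS]
    exact ⟨t, ht, rfl⟩
  let C : Subgroup (MulAut A) :=
    { carrier := {φ | ∀ s : A, s ∈ T → φ s = s}
      one_mem' := fun s _ => rfl
      mul_mem' := by
        intro φ ψ h1 h2 s hs
        rw [MulAut.mul_apply, h2 s hs, h1 s hs]
      inv_mem' := by
        intro φ h1 s hs
        have h2 := h1 s hs
        rw [MulAut.inv_apply, MulEquiv.symm_apply_eq, h2] }
  have hodd := RigidSyl.odd_comm hO T C (fun φ => Iff.rfl)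
  have hPN : ∀ p ∈ P, p ∈ Subgroup.normalizer (A : Set G) := by
    intro p hp
    rw [Subgroup.mem_normalizer_iff]
    intro x
    have h1 : cj p⁻¹ A = A := cj_inv_eq (hPA p hp)
    have h2 : p * x * p⁻¹ ∈ A ↔ x ∈ cj p⁻¹ A := by rw [mem_cj, inv_inv]
    rw [h2, h1]
  let f : P →* MulAut A := A.normalizerMonoidHom.comp (Subgroup.inclusion hPN)
  have hf : ∀ (p : P) (a : A), ((f p a : A) : G) = p * a * (p : G)⁻¹ := fun p a => rfl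
  have hfC : ∀ p : P, f p ∈ C := by
    intro p s hs
    apply Subtype.ext
    rw [hf, hcomm p p.2 s (hTmem s hs)]
    group
  intro p hp q hq
  have h1 : (⟨f ⟨p, hp⟩, hfC _⟩ : C) * ⟨f ⟨q, hq⟩, hfC _⟩ * (⟨f ⟨p, hp⟩, hfC _⟩ : C)⁻¹ * (⟨f ⟨q, hq⟩, hfC _⟩ : C)⁻¹ ∈
      commutator C := Subgroup.commutator_mem_commutator (Subgroup.mem_top _) (Subgroup.mem_top _)
  set c : C := (⟨f ⟨p, hp⟩, hfC _⟩ : C) * ⟨f ⟨q, hq⟩, hfC _⟩ * (⟨f ⟨p, hp⟩, hfC _⟩ : C)⁻¹ *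
    (⟨f ⟨q, hq⟩, hfC _⟩ : C)⁻¹ with hc
  have hcf : (c : MulAut A) = f (⟨p, hp⟩ * ⟨q, hq⟩ * ⟨p, hp⟩⁻¹ * ⟨q, hq⟩⁻¹) := by
    rw [map_mul, map_mul, map_mul, map_inv, map_inv]
    rfl
  obtain ⟨n, hn⟩ := hP (⟨p, hp⟩ * ⟨q, hq⟩ * ⟨p, hp⟩⁻¹ * ⟨q, hq⟩⁻¹)
  have h2 : c ^ 2 ^ n = 1 := by
    apply Subtype.ext
    change (c : MulAut A) ^ 2 ^ n = 1
    rw [hcf, ← map_pow, hn, map_one]
  have h3 : c ^ Nat.card (commutator C) = 1 := by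
    have := pow_card_eq_one' (x := (⟨c, h1⟩ : commutator C))
    exact congrArg Subtype.val this
  have h4 := Nat.dvd_gcd (orderOf_dvd_of_pow_eq_one h2) (orderOf_dvd_of_pow_eq_one h3)
  have h5 : Nat.Coprime (2 ^ n) (Nat.card (commutator C)) :=
    Nat.Coprime.pow_left n (Nat.coprime_two_left.mpr hodd)
  rw [Nat.Coprime.gcd_eq_one h5, Nat.dvd_one, orderOf_eq_one_iff] at h4
  have h6 : f (⟨p, hp⟩ * ⟨q, hq⟩ * ⟨p, hp⟩⁻¹ * ⟨q, hq⟩⁻¹) = 1 := by rw [← hcf, h4]; rfl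
  have h7 : p * q * p⁻¹ * q⁻¹ = 1 := by
    refine hfaith _ (mul_mem (mul_mem (mul_mem hp hq) (inv_mem hp)) (inv_mem hq)) ?_
    intro a ha
    have h8 : ((f (⟨p, hp⟩ * ⟨q, hq⟩ * ⟨p, hp⟩⁻¹ * ⟨q, hq⟩⁻¹) ⟨a, ha⟩ : A) : G) = a := by rw [h6]; rfl
    rw [hf] at h8
    exact mul_inv_eq_iff_eq_mul.mp h8
  calc p * q = (p * q * p⁻¹ * q⁻¹) * (q * p) := by group
    _ = q * p := by rw [h7, one_mul]

/-- a quasisimple group whose centre is a 2-group `≠ 1` has no normal subgroup of odd order -/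
theorem no_odd [Finite G] {A : Subgroup G} (hq : IsQuasisimple A) (hev : ∃ a ∈ A, a * a = 1 ∧ a ≠ 1)
    (hzp : ∀ a ∈ A, (∀ b ∈ A, a * b = b * a) → ∃ k : ℕ, a ^ 2 ^ k = 1) :
    ∀ N : Subgroup A, N.Normal → Odd (Nat.card N) → N = ⊥ := by
  intro N hN hodd
  rcases Lib.ComponentSolvable.quasisimple_normal_cases hq (N := N) hN with h | h
  · exfalso
    obtain ⟨a, ha, ha2, ha1⟩ := hev
    rw [h, Subgroup.card_top] at hodd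
    have h2 : orderOf (⟨a, ha⟩ : A) = 2 := by
      refine orderOf_eq_prime ?_ ?_
      · rw [pow_two]; exact Subtype.ext ha2
      · intro h; exact ha1 (congrArg Subtype.val h)
    have h3 : 2 ∣ Nat.card A := h2 ▸ orderOf_dvd_natCard _
    rw [Nat.odd_iff] at hodd
    omega
  · rw [eq_bot_iff]
    intro x hx
    have hxc := Subgroup.mem_center_iff.mp (h hx)
    obtain ⟨k, hk⟩ := hzp x x.2 (fun b hb => (congrArg Subtype.val (hxc ⟨b, hb⟩)).symm)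
    have h1 : x ^ 2 ^ k = 1 := Subtype.ext hk
    have h2 : x ^ Nat.card N = 1 := by
      have := pow_card_eq_one' (x := (⟨x, hx⟩ : N))
      exact congrArg Subtype.val this
    have h4 := Nat.dvd_gcd (orderOf_dvd_of_pow_eq_one h1) (orderOf_dvd_of_pow_eq_one h2)
    have h5 : Nat.Coprime (2 ^ k) (Nat.card N) := Nat.Coprime.pow_left k (Nat.coprime_two_left.mpr hodd)
    rw [Nat.Coprime.gcd_eq_one h5, Nat.dvd_one, orderOf_eq_one_iff] at h4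
    rw [Subgroup.mem_bot]
    exact h4

/-- a normal 2-subgroup lies in every Sylow 2-subgroup -/
theorem IsSyl.le_of_normal {T X N : Subgroup G} (h : IsSyl T X) (hNX : N ≤ X) (hN : IsPGroup 2 N)
    (hn : ∀ x ∈ X, cj x N = N) : N ≤ T := by
  obtain ⟨k, hk, hkT⟩ := h.2.2 N hNX hN
  rwa [hn k hk] at hkT

/-! ### The frame -/

/-- `U_c ∩ H0_d ≠ 0` -/
def Nd (c d : Set (Subgroup G)) : Prop := ∃ u, InU c u ∧ u ∈ Nm d

/-- The frame of D3 (iii), even centre, with the results of (E2) and (sw). -/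
structure EFam3 (𝓒 : Set (Set (Subgroup G))) : Prop extends EFam2 𝓒 where
  /-- (sw): the 2-elements of the members do not permute the members of `d` if `U_c ∩ H0_d ≠ 0` -/
  sw : ∀ c ∈ 𝓒, ∀ d ∈ 𝓒, c ≠ d → Nd c d → ∀ L ∈ c, ∀ s ∈ L, (∃ n : ℕ, s ^ 2 ^ n = 1) → s ∈ St d → s ∈ Nm d
  /-- the centres of the members are 2-groups -/
  zp : ∀ c ∈ 𝓒, ∀ A ∈ c, ∀ a ∈ A, (∀ b ∈ A, a * b = b * a) → ∃ k : ℕ, a ^ 2 ^ k = 1

section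
variable {𝓒 : Set (Set (Subgroup G))}

theorem Nd.ad [Finite G] (F : EFam 𝓒) {c d : Set (Subgroup G)} (hc : c ∈ 𝓒) (hd : d ∈ 𝓒) (h : Nd c d) :
    EvDefs.Ad c d := by
  obtain ⟨u, hu, hud⟩ := h
  exact Ad.of_inU F hc hd hu (Nm_le_St _ hud)

theorem Nd.exists_e [Finite G] (F : EFam2 𝓒) {c d : Set (Subgroup G)} (hc : c ∈ 𝓒) (hd : d ∈ 𝓒) (hcd : c ≠ d)
    (h : Nd c d) : ∃ e ∈ Zc d, e ≠ 1 ∧ e ∈ Nm c := by
  obtain ⟨e, he, he1, heS⟩ := h.ad F.toEFam hc hd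
  obtain ⟨u, hu, hud⟩ := h
  exact ⟨e, he, he1, F.nsw' c hc d hd hcd u hu hud e he heS⟩

theorem Nd.symm [Finite G] (F : EFam2 𝓒) {c d : Set (Subgroup G)} (hc : c ∈ 𝓒) (hd : d ∈ 𝓒) (hcd : c ≠ d)
    (h : Nd c d) : Nd d c := by
  obtain ⟨e, he, he1, heN⟩ := h.exists_e F hc hd hcd
  exact ⟨e, F.inU_of_Zc hd he he1, heN⟩

/-- a configuration -/
structure ECfg (𝓒 : Set (Set (Subgroup G))) (Q : Subgroup G) : Prop where
  pg : IsPGroup 2 Q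
  mx : ∀ c ∈ 𝓒, ∀ d ∈ 𝓒, c ≠ d → Q ≤ Nm c → Q ≤ Nm d → ∀ R : Subgroup G, IsPGroup 2 R → R ≤ Nm c → R ≤ Nm d →
    Nat.card R ≤ Nat.card Q
  /-- `Z_c ∩ Q ≠ 1` -/
  inv : ∀ c ∈ 𝓒, Q ≤ Nm c → ∃ z ∈ Zc c, z ≠ 1 ∧ z ∈ Q
  ex : ∃ c ∈ 𝓒, ∃ d ∈ 𝓒, c ≠ d ∧ Q ≤ Nm c ∧ Q ≤ Nm d

theorem zc_le_of_syl [Finite G] (F : EFam2 𝓒) {c d : Set (Subgroup G)} (hc : c ∈ 𝓒) (hd : d ∈ 𝓒) (hcd : c ≠ d)
    (h : Nd c d) {Q : Subgroup G} (hQ : IsSyl Q (Nm c ⊓ Nm d)) : Zc c ⊓ St d ≤ Q := by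
  obtain ⟨u, hu, hud⟩ := h
  refine IsSyl.le_of_normal hQ ?_ ((isPGroup_Zc c).to_le inf_le_left) ?_
  · intro z hz
    rw [Subgroup.mem_inf] at hz
    exact Subgroup.mem_inf.mpr ⟨Zc_le_Nm c hz.1, F.nsw c hc d hd hcd u hu hud z hz.1 hz.2⟩
  · intro g hg
    rw [Subgroup.mem_inf] at hg
    rw [cj_inf, cj_Zc (Nm_le_St c hg.1), cj_eq_of_mem (Nm_le_St d hg.2)]

theorem exists_ecfg [Finite G] (F : EFam2 𝓒) {c₀ d₀ : Set (Subgroup G)} (hc₀ : c₀ ∈ 𝓒) (hd₀ : d₀ ∈ 𝓒)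
    (hne₀ : c₀ ≠ d₀) (h₀ : EvDefs.Ad c₀ d₀) : ∃ Q : Subgroup G, ECfg 𝓒 Q := by
  obtain ⟨c₁, hc₁, d₁, hd₁, hne₁, h₁⟩ := F.red c₀ hc₀ d₀ hd₀ hne₀ h₀
  let S : Set ℕ := {n | ∃ c ∈ 𝓒, ∃ d ∈ 𝓒, c ≠ d ∧ Nd c d ∧ ∃ R : Subgroup G, IsPGroup 2 R ∧ R ≤ Nm c ∧ R ≤ Nm d ∧
    Nat.card R = n}
  have hbdd : BddAbove S := by
    refine ⟨Nat.card G, ?_⟩
    rintro n ⟨-, -, -, -, -, -, R, -, -, -, rfl⟩
    exact Nat.card_le_card_of_injective _ R.subtype_injective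
  have hne' : S.Nonempty := ⟨_, c₁, hc₁, d₁, hd₁, hne₁, h₁, ⊥, IsPGroup.of_bot, bot_le, bot_le, rfl⟩
  obtain ⟨c, hc, d, hd, hcd, hNd, Q, hQ, hQc, hQd, hcard⟩ := Nat.sSup_mem hne' hbdd
  have hmax : ∀ c ∈ 𝓒, ∀ d ∈ 𝓒, c ≠ d → Nd c d → ∀ R : Subgroup G, IsPGroup 2 R → R ≤ Nm c → R ≤ Nm d →
      Nat.card R ≤ Nat.card Q := by
    intro c' hc' d' hd' hne hAd R hR hRc hRd
    rw [hcard]
    exact le_csSup hbdd ⟨c', hc', d', hd', hne, hAd, R, hR, hRc, hRd, rfl⟩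
  have key : ∀ c ∈ 𝓒, ∀ d ∈ 𝓒, c ≠ d → Nd c d → Q ≤ Nm c → Q ≤ Nm d → ∃ z ∈ Zc c, z ≠ 1 ∧ z ∈ Q := by
    intro c hc d hd hcd hNd hQc hQd
    have hS : IsSyl Q (Nm c ⊓ Nm d) := isSyl_of_max (le_inf hQc hQd) hQ fun R hR hR2 =>
      hmax c hc d hd hcd hNd R hR2 (hR.trans inf_le_left) (hR.trans inf_le_right)
    have h1 := zc_le_of_syl F hc hd hcd hNd hS
    obtain ⟨e, he, he1, heN⟩ := (hNd.symm F hc hd hcd).exists_e F hd hc (Ne.symm hcd)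
    exact ⟨e, he, he1, h1 (Subgroup.mem_inf.mpr ⟨he, Nm_le_St _ heN⟩)⟩
  have hcQ := key c hc d hd hcd hNd hQc hQd
  have key2 : ∀ d' ∈ 𝓒, Q ≤ Nm d' → c ≠ d' → Nd c d' := by
    intro d' hd' hQd' hne
    obtain ⟨z, hz, hz1, hzQ⟩ := hcQ
    exact ⟨z, F.inU_of_Zc hc hz hz1, hQd' hzQ⟩
  have hinv : ∀ c' ∈ 𝓒, Q ≤ Nm c' → ∃ z ∈ Zc c', z ≠ 1 ∧ z ∈ Q := by
    intro c' hc' hQc'
    by_cases h1 : c = c'
    · subst h1; exact hcQ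
    · exact key c' hc' c hc (Ne.symm h1) ((key2 c' hc' hQc' h1).symm F hc hc' h1) hQc' hQc
  refine ⟨Q, hQ, ?_, hinv, c, hc, d, hd, hcd, hQc, hQd⟩
  intro c' hc' d' hd' hne hQc' hQd'
  refine hmax c' hc' d' hd' hne ?_
  obtain ⟨z, hz, hz1, hzQ⟩ := hinv c' hc' hQc'
  exact ⟨z, F.inU_of_Zc hc' hz hz1, hQd' hzQ⟩

namespace ECfg

variable {Q : Subgroup G}

theorem le_of_two [Finite G] (C : ECfg 𝓒 Q) {c d : Set (Subgroup G)} (hc : c ∈ 𝓒) (hd : d ∈ 𝓒) (hcd : c ≠ d)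
    (hQc : Q ≤ Nm c) (hQd : Q ≤ Nm d) {R : Subgroup G} (hR : IsPGroup 2 R) (hQR : Q ≤ R) (hRc : R ≤ Nm c)
    (hRd : R ≤ Nm d) : R ≤ Q := by
  have h := C.mx c hc d hd hcd hQc hQd R hR hRc hRd
  rw [Subgroup.eq_of_le_of_card_ge hQR h]

theorem mem_of_norm [Finite G] (C : ECfg 𝓒 Q) {c d : Set (Subgroup G)} (hc : c ∈ 𝓒) (hd : d ∈ 𝓒) (hcd : c ≠ d)
    (hQc : Q ≤ Nm c) (hQd : Q ≤ Nm d) {s : G} (hs : IsPGroup 2 (Subgroup.zpowers s)) (hsQ : cj s Q = Q)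
    (hsc : s ∈ Nm c) (hsd : s ∈ Nm d) : s ∈ Q := by
  have hn : ∀ w ∈ Subgroup.zpowers s, cj w Q = Q := by
    have : Subgroup.zpowers s ≤ Nm ({Q} : Set (Subgroup G)) := by
      rw [Subgroup.zpowers_le]
      intro A hA
      rw [Set.mem_singleton_iff] at hA
      rw [hA]; exact hsQ
    exact fun w hw => this hw Q rfl
  have hT := isPGroup_mulSub (h := hn) C.pg hs
  have := C.le_of_two hc hd hcd hQc hQd hT le_mulSub_left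
    (mulSub_le hQc (by rw [Subgroup.zpowers_le]; exact hsc)) (mulSub_le hQd (by rw [Subgroup.zpowers_le]; exact hsd))
  exact this (le_mulSub_right (Subgroup.mem_zpowers s))

theorem other (C : ECfg 𝓒 Q) (c : Set (Subgroup G)) : ∃ d ∈ 𝓒, Q ≤ Nm d ∧ d ≠ c := by
  obtain ⟨a, ha, b, hb, hab, hQa, hQb⟩ := C.ex
  by_cases h : a = c
  · exact ⟨b, hb, hQb, fun h' => hab (h.trans h'.symm)⟩
  · exact ⟨a, ha, hQa, h⟩

theorem nd (F : EFam 𝓒) (C : ECfg 𝓒 Q) {c d : Set (Subgroup G)} (hc : c ∈ 𝓒) (hQc : Q ≤ Nm c)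
    (hQd : Q ≤ Nm d) : Nd c d := by
  obtain ⟨z, hz, hz1, hzQ⟩ := C.inv c hc hQc
  exact ⟨z, F.inU_of_Zc hc hz hz1, hQd hzQ⟩

theorem syl [Finite G] (C : ECfg 𝓒 Q) {c d : Set (Subgroup G)} (hc : c ∈ 𝓒) (hd : d ∈ 𝓒) (hcd : c ≠ d)
    (hQc : Q ≤ Nm c) (hQd : Q ≤ Nm d) : IsSyl Q (Nm c ⊓ Nm d) :=
  isSyl_of_max (le_inf hQc hQd) C.pg fun R hR hR2 =>
    C.mx c hc d hd hcd hQc hQd R hR2 (hR.trans inf_le_left) (hR.trans inf_le_right)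

/-- `Z_c ∩ H_d ≤ Q` -/
theorem zc_le [Finite G] (F : EFam2 𝓒) (C : ECfg 𝓒 Q) {c d : Set (Subgroup G)} (hc : c ∈ 𝓒) (hd : d ∈ 𝓒)
    (hcd : c ≠ d) (hQc : Q ≤ Nm c) (hQd : Q ≤ Nm d) : Zc c ⊓ St d ≤ Q :=
  zc_le_of_syl F hc hd hcd (C.nd F.toEFam hc hQc hQd) (C.syl hc hd hcd hQc hQd)

end ECfg

section
variable {Q : Subgroup G}

/-- no element of the 2-group `Q` centralises members of two different classes -/
theorem eq_one_of_two (F : EFam 𝓒) (hQ : IsPGroup 2 Q) {c d : Set (Subgroup G)} (hc : c ∈ 𝓒) (hd : d ∈ 𝓒)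
    (hcd : c ≠ d) {A M : Subgroup G} (hA : A ∈ c) (hM : M ∈ d) {x : G} (hx : x ∈ QC Q A) (hx' : x ∈ QC Q M) : x = 1 := by
  by_contra h1
  obtain ⟨n, hn2, hn1⟩ := exists_pow_inv hQ (mem_QC.mp hx).1 h1
  refine hcd (F.uniq c hc d hd (x ^ n) ⟨hn2, hn1, A, hA, ?_⟩ ⟨hn2, hn1, M, hM, ?_⟩)
  · intro a ha
    have : Commute x a := (mem_QC.mp hx).2 a ha
    exact (this.pow_left n).eq
  · intro a ha
    have : Commute x a := (mem_QC.mp hx').2 a ha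
    exact (this.pow_left n).eq

/-- the centralizer of an element of `Q ∩ C(A)` -/
theorem cen_QC (F : EFam 𝓒) (hQ : IsPGroup 2 Q) {c : Set (Subgroup G)} (hc : c ∈ 𝓒) {A : Subgroup G} (hA : A ∈ c)
    {x g : G} (hx : x ∈ QC Q A) (hx1 : x ≠ 1) (hg : x * g = g * x) : g ∈ St c := by
  obtain ⟨n, hn2, hn1⟩ := exists_pow_inv hQ (mem_QC.mp hx).1 hx1
  refine F.cen hc (u := x ^ n) ⟨hn2, hn1, A, hA, ?_⟩ ?_
  · intro a ha
    have : Commute x a := (mem_QC.mp hx).2 a ha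
    exact (this.pow_left n).eq
  · have : Commute x g := hg
    exact (this.pow_left n).eq

/-- **C1** -/
theorem comm_of_two (F : EFam 𝓒) (hQ : IsPGroup 2 Q) {c d : Set (Subgroup G)} (hc : c ∈ 𝓒) (hd : d ∈ 𝓒)
    (hcd : c ≠ d) (hQc : Q ≤ Nm c) (hQd : Q ≤ Nm d) {A M : Subgroup G} (hA : A ∈ c) (hM : M ∈ d) {x y : G}
    (hx : x ∈ QC Q A) (hy : y ∈ QC Q M) : x * y = y * x := by
  have hxQ := (mem_QC.mp hx).1
  have hyQ := (mem_QC.mp hy).1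
  have h1 : cj y (QC Q A) = QC Q A := by
    rw [cj_QC (cj_eq_of_mem hyQ), hQc hyQ A hA]
  have h2 : cj x (QC Q M) = QC Q M := by
    rw [cj_QC (cj_eq_of_mem hxQ), hQd hxQ M hM]
  have h3 : ⁅x, y⁆ ∈ QC Q A := by
    have e : ⁅x, y⁆ = x * (y * x⁻¹ * y⁻¹) := by rw [commutatorElement_def]; group
    rw [e]
    exact mul_mem hx (conj_mem_of_cj h1 (inv_mem hx))
  have h4 : ⁅x, y⁆ ∈ QC Q M := by
    rw [commutatorElement_def]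
    exact mul_mem (conj_mem_of_cj h2 hy) (inv_mem hy)
  have h5 := eq_one_of_two F hQ hc hd hcd hA hM h3 h4
  rw [commutatorElement_def] at h5
  calc x * y = (x * y * x⁻¹ * y⁻¹) * (y * x) := by group
    _ = y * x := by rw [h5, one_mul]

/-- `Q ∩ A' ≤ Q ∩ C(A)` -/
theorem inf_le_QC (F : EFam 𝓒) {c : Set (Subgroup G)} (hc : c ∈ 𝓒) {A A' : Subgroup G} (hA : A ∈ c) (hA' : A' ∈ c)
    (hne : A' ≠ A) : Q ⊓ A' ≤ QC Q A := by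
  intro x hx
  rw [Subgroup.mem_inf] at hx
  exact mem_QC.mpr ⟨hx.1, F.comm c hc A' hA' A hA hne x hx.2⟩

theorem tri_QC (F : EFam 𝓒) (hQ : IsPGroup 2 Q) {c d : Set (Subgroup G)} (hc : c ∈ 𝓒) (hd : d ∈ 𝓒) (hcd : c ≠ d)
    {A M : Subgroup G} (hA : A ∈ c) (hM : M ∈ d) : ∀ x ∈ QC Q M, x ∈ A → x = 1 := by
  intro x hx hxA
  obtain ⟨A', hA', hne⟩ := F.two c hc A
  exact eq_one_of_two F hQ hc hd hcd hA' hM
    (mem_QC.mpr ⟨(mem_QC.mp hx).1, F.comm c hc A hA A' hA' (Ne.symm hne) x hxA⟩) hx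

/-- (mv) -/
theorem rp_mv (F : EFam 𝓒) (hQ : IsPGroup 2 Q) {c d : Set (Subgroup G)} (hc : c ∈ 𝓒) (hd : d ∈ 𝓒)
    (hcd : c ≠ d) (hQd : Q ≤ Nm d) {A M : Subgroup G} (hA : A ∈ c) (hM : M ∈ d)
    {s : G} (hs : cj s Q = Q) (hmv : cjs s d ≠ d) : RP Q A (QC Q M) s where
  le := QC_le
  tri := tri_QC F hQ hc hd hcd hA hM
  comm := by
    intro b hb b' hb'
    have h1 : s * b' * s⁻¹ ∈ QC Q (cj s M) := by
      rw [← cj_QC hs]; exact conj_mem_cj hb'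
    exact comm_of_two F hQ hd (F.conj s d hd) (Ne.symm hmv) hQd (le_Nm_cjs hs hQd) hM (cj_mem_cjs hM) hb h1
  inj := by
    intro b hb h
    have h1 : s * b * s⁻¹ ∈ QC Q (cj s M) := by
      rw [← cj_QC hs]; exact conj_mem_cj hb
    rw [h] at h1
    exact eq_one_of_two F hQ hd (F.conj s d hd) (Ne.symm hmv) hM (cj_mem_cjs hM) hb h1

/-- witnesses move all the other classes -/
theorem wit_mv [Finite G] (F : EFam3 𝓒) (C : ECfg 𝓒 Q) {c d : Set (Subgroup G)} (hc : c ∈ 𝓒) (hd : d ∈ 𝓒)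
    (hcd : c ≠ d) (hQc : Q ≤ Nm c) (hQd : Q ≤ Nm d) {A : Subgroup G} (hA : A ∈ c) {s : G} (w : Wit Q A s) :
    cjs s d ≠ d := by
  intro h
  obtain ⟨k, hk⟩ := C.pg ⟨s * s, w.sq⟩
  have hk' : (s * s) ^ 2 ^ k = 1 := congrArg Subtype.val hk
  have h1 : s ^ 2 ^ (k + 1) = 1 := by
    rw [pow_succ', pow_mul, pow_two]; exact hk'
  have h2 : s ∈ Nm d := F.sw c hc d hd hcd (C.nd F.toEFam hc hQc hQd) A hA s w.mem ⟨_, h1⟩ h
  exact w.not (C.mem_of_norm hc hd hcd hQc hQd (sq_pgroup C.pg w.sq) w.norm (F.mem_le_Nm hc hA w.mem) h2)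

theorem rp [Finite G] (F : EFam3 𝓒) (C : ECfg 𝓒 Q) {c d : Set (Subgroup G)} (hc : c ∈ 𝓒) (hd : d ∈ 𝓒)
    (hcd : c ≠ d) (hQc : Q ≤ Nm c) (hQd : Q ≤ Nm d) {A M : Subgroup G} (hA : A ∈ c) (hM : M ∈ d) {s : G}
    (w : Wit Q A s) : RP Q A (QC Q M) s :=
  rp_mv F.toEFam C.pg hc hd hcd hQd hA hM w.norm (wit_mv F C hc hd hcd hQc hQd hA w)

/-- **(E3)**: nothing is full -/
theorem wit [Finite G] (F : EFam3 𝓒) (C : ECfg 𝓒 Q) {c : Set (Subgroup G)} (hc : c ∈ 𝓒) (hQc : Q ≤ Nm c)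
    {A : Subgroup G} (hA : A ∈ c) : ∃ s, Wit Q A s := by
  have hQA : ∀ q ∈ Q, cj q A = A := fun q hq => hQc hq A hA
  by_contra hno
  have hS : IsSyl (Q ⊓ A) A := by
    by_contra hS
    exact hno (exists_wit C.pg hQA hS)
  have hnot : ∀ {c : Set (Subgroup G)} (hc : c ∈ 𝓒) {A : Subgroup G} (hA : A ∈ c), IsSyl (Q ⊓ A) A →
      ¬ ∀ x ∈ Q ⊓ A, ∀ y ∈ Q ⊓ A, x * y = y * x := by
    intro c hc A hA hS
    obtain ⟨z, hz, hz2, hz1, hzc⟩ := F.ec c hc A hA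
    exact syl_not_comm (qs_perfect (F.qs c hc A hA)) hS hz hz2 hz1 hzc
  obtain ⟨d, hd, hQd, hdc⟩ := C.other c
  obtain ⟨M, hM⟩ := F.exists_mem hd
  obtain ⟨A', hA', hne⟩ := F.two c hc A
  by_cases hSM : IsSyl (Q ⊓ M) M
  · -- full / full
    apply hnot hd hM hSM
    obtain ⟨M', hM', hneM⟩ := F.two d hd M
    refine rigid (A := A) (S := Q ⊓ A) (no_odd (F.qs c hc A hA) ?_ (F.zp c hc A hA)) (C.pg.to_le inf_le_left) ?_ hS ?_ ?_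
    · obtain ⟨z, hz, hz2, hz1, -⟩ := F.ec c hc A hA
      exact ⟨z, hz, hz2, hz1⟩
    · intro p hp; exact hQA p (Subgroup.mem_inf.mp hp).1
    · intro p hp s hs
      exact comm_of_two F.toEFam C.pg hd hc hdc hQd hQc hM' hA' (inf_le_QC F.toEFam hd hM' hM (Ne.symm hneM) hp)
        (inf_le_QC F.toEFam hc hA' hA (Ne.symm hne) hs)
    · intro p hp hpA
      exact tri_QC F.toEFam C.pg hd hc hdc hM hA p (mem_QC.mpr ⟨(Subgroup.mem_inf.mp hp).1, hpA⟩)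
        (Subgroup.mem_inf.mp hp).2
  · -- a witness for `M` moves `c`
    obtain ⟨t, w⟩ := exists_wit C.pg (fun q hq => hQd hq M hM) hSM
    have h1 := rp F C hd hc hdc hQd hQc hM hA' w
    apply hnot hc hA hS
    intro x hx y hy
    exact h1.abelian (fun q hq => hQd hq M hM) w x (inf_le_QC F.toEFam hc hA' hA (Ne.symm hne) hx) y
      (inf_le_QC F.toEFam hc hA' hA (Ne.symm hne) hy)

/-! ### The (mv) frame -/

theorem card_QC_le [Finite G] (F : EFam3 𝓒) (C : ECfg 𝓒 Q) {c d : Set (Subgroup G)} (hc : c ∈ 𝓒) (hd : d ∈ 𝓒)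
    (hcd : c ≠ d) (hQc : Q ≤ Nm c) (hQd : Q ≤ Nm d) {A M : Subgroup G} (hA : A ∈ c) (hM : M ∈ d) :
    Nat.card (QC Q M) ≤ Nat.card (Q ⊓ A : Subgroup G) := by
  obtain ⟨s, w⟩ := wit F C hc hQc hA
  exact (rp F C hc hd hcd hQc hQd hA hM w).card_le (fun q hq => hQc hq A hA) w

theorem card_inf_le [Finite G] (F : EFam 𝓒) {c : Set (Subgroup G)} (hc : c ∈ 𝓒) {A A' : Subgroup G} (hA : A ∈ c)
    (hA' : A' ∈ c) (hne : A' ≠ A) : Nat.card (Q ⊓ A : Subgroup G) ≤ Nat.card (QC Q A') :=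
  Nat.card_le_card_of_injective _ (Subgroup.inclusion_injective (inf_le_QC F hc hA' hA (Ne.symm hne)))

theorem card_inf_le_inf [Finite G] (F : EFam3 𝓒) (C : ECfg 𝓒 Q) {c d : Set (Subgroup G)} (hc : c ∈ 𝓒) (hd : d ∈ 𝓒)
    (hcd : c ≠ d) (hQc : Q ≤ Nm c) (hQd : Q ≤ Nm d) {A M : Subgroup G} (hA : A ∈ c) (hM : M ∈ d) :
    Nat.card (Q ⊓ A : Subgroup G) ≤ Nat.card (Q ⊓ M : Subgroup G) := by
  obtain ⟨A', hA', hne⟩ := F.two c hc A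
  exact (card_inf_le F.toEFam hc hA hA' hne).trans (card_QC_le F C hd hc (Ne.symm hcd) hQd hQc hM hA')

/-- all the groups `Q ∩ A` have the same order -/
theorem card_inf_eq [Finite G] (F : EFam3 𝓒) (C : ECfg 𝓒 Q) {c d : Set (Subgroup G)} (hc : c ∈ 𝓒) (hd : d ∈ 𝓒)
    (hQc : Q ≤ Nm c) (hQd : Q ≤ Nm d) {A M : Subgroup G} (hA : A ∈ c) (hM : M ∈ d) :
    Nat.card (Q ⊓ A : Subgroup G) = Nat.card (Q ⊓ M : Subgroup G) := by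
  by_cases hcd : c = d
  · subst hcd
    obtain ⟨e, he, hQe, hec⟩ := C.other c
    obtain ⟨N, hN⟩ := F.exists_mem he
    have h1 := card_inf_le_inf F C hc he (Ne.symm hec) hQc hQe hA hN
    have h2 := card_inf_le_inf F C he hc hec hQe hQc hN hM
    have h3 := card_inf_le_inf F C hc he (Ne.symm hec) hQc hQe hM hN
    have h4 := card_inf_le_inf F C he hc hec hQe hQc hN hA
    omega
  · exact le_antisymm (card_inf_le_inf F C hc hd hcd hQc hQd hA hM)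
      (card_inf_le_inf F C hd hc (Ne.symm hcd) hQd hQc hM hA)

/-- `C_Q(A') = Q ∩ A` for two members of a class -/
theorem QC_eq [Finite G] (F : EFam3 𝓒) (C : ECfg 𝓒 Q) {c : Set (Subgroup G)} (hc : c ∈ 𝓒)
    (hQc : Q ≤ Nm c) {A A' : Subgroup G} (hA : A ∈ c) (hA' : A' ∈ c) (hne : A' ≠ A) : QC Q A' = Q ⊓ A := by
  obtain ⟨e, he, hQe, hec⟩ := C.other c
  obtain ⟨N, hN⟩ := F.exists_mem he
  symm
  refine Subgroup.eq_of_le_of_card_ge (inf_le_QC F.toEFam hc hA' hA (Ne.symm hne)) ?_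
  rw [card_inf_eq F C hc he hQc hQe hA hN]
  exact card_QC_le F C he hc hec hQe hQc hN hA'

/-- with at least three members all `Q ∩ A` are equal -/
theorem inf_eq_of_three [Finite G] (F : EFam3 𝓒) (C : ECfg 𝓒 Q) {c : Set (Subgroup G)} (hc : c ∈ 𝓒)
    (hQc : Q ≤ Nm c) {A A' B : Subgroup G} (hA : A ∈ c) (hA' : A' ∈ c) (hB : B ∈ c) (h1 : B ≠ A) (h2 : B ≠ A') :
    Q ⊓ A = Q ⊓ A' := by
  rw [← QC_eq F C hc hQc hA hB h1, ← QC_eq F C hc hQc hA' hB h2]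

theorem QC_abelian [Finite G] (F : EFam3 𝓒) (C : ECfg 𝓒 Q) {c : Set (Subgroup G)} (hc : c ∈ 𝓒) (hQc : Q ≤ Nm c)
    {A : Subgroup G} (hA : A ∈ c) : ∀ x ∈ QC Q A, ∀ y ∈ QC Q A, x * y = y * x := by
  obtain ⟨d, hd, hQd, hdc⟩ := C.other c
  obtain ⟨M, hM⟩ := F.exists_mem hd
  obtain ⟨t, w⟩ := wit F C hd hQd hM
  exact (rp F C hd hc hdc hQd hQc hM hA w).abelian (fun q hq => hQd hq M hM) w

theorem inf_abelian [Finite G] (F : EFam3 𝓒) (C : ECfg 𝓒 Q) {c : Set (Subgroup G)} (hc : c ∈ 𝓒) (hQc : Q ≤ Nm c)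
    {A : Subgroup G} (hA : A ∈ c) : ∀ x ∈ Q ⊓ A, ∀ y ∈ Q ⊓ A, x * y = y * x := by
  obtain ⟨A', hA', hne⟩ := F.two c hc A
  rw [← QC_eq F C hc hQc hA hA' hne]
  exact QC_abelian F C hc hQc hA'

/-- `r_s` is surjective -/
theorem surj [Finite G] (F : EFam3 𝓒) (C : ECfg 𝓒 Q) {c d : Set (Subgroup G)} (hc : c ∈ 𝓒) (hd : d ∈ 𝓒)
    (hcd : c ≠ d) (hQc : Q ≤ Nm c) (hQd : Q ≤ Nm d) {A M : Subgroup G} (hA : A ∈ c) (hM : M ∈ d) {s : G}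
    (w : Wit Q A s) {a : G} (ha : a ∈ Q) (haA : a ∈ A) : ∃ b ∈ QC Q M, b⁻¹ * (s * b * s⁻¹) = a := by
  obtain ⟨M', hM', hne⟩ := F.two d hd M
  refine (rp F C hc hd hcd hQc hQd hA hM w).surj (fun q hq => hQc hq A hA) w ?_ ha haA
  rw [card_inf_eq F C hc hd hQc hQd hA hM']
  exact card_inf_le F.toEFam hd hM' hM (Ne.symm hne)

/-- a witness inverts `Q ∩ A` -/
theorem inverts [Finite G] (F : EFam3 𝓒) (C : ECfg 𝓒 Q) {c : Set (Subgroup G)} (hc : c ∈ 𝓒) (hQc : Q ≤ Nm c)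
    {A : Subgroup G} (hA : A ∈ c) {s : G} (w : Wit Q A s) {a : G} (ha : a ∈ Q) (haA : a ∈ A) : s * a * s⁻¹ = a⁻¹ := by
  obtain ⟨d, hd, hQd, hdc⟩ := C.other c
  obtain ⟨M, hM⟩ := F.exists_mem hd
  obtain ⟨A', hA', hne⟩ := F.two c hc A
  obtain ⟨b, hb, hba⟩ := surj F C hc hd (Ne.symm hdc) hQc hQd hA hM w ha haA
  have hs2 : s * s ∈ QC Q A' := inf_le_QC F.toEFam hc hA' hA (Ne.symm hne)
    (Subgroup.mem_inf.mpr ⟨w.sq, mul_mem w.mem w.mem⟩)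
  have h1 := comm_of_two F.toEFam C.pg hc hd (Ne.symm hdc) hQc hQd hA' hM hs2 hb
  rw [← hba]
  calc s * (b⁻¹ * (s * b * s⁻¹)) * s⁻¹ = (s * b * s⁻¹)⁻¹ * ((s * s * b) * (s * s)⁻¹) := by group
    _ = (s * b * s⁻¹)⁻¹ * ((b * (s * s)) * (s * s)⁻¹) := by rw [h1]
    _ = (b⁻¹ * (s * b * s⁻¹))⁻¹ := by group

/-- `Q ∩ C(∏ c) = Q ∩ Z_c` -/
theorem mem_Zc_iff [Finite G] (F : EFam3 𝓒) (C : ECfg 𝓒 Q) {c : Set (Subgroup G)} (hc : c ∈ 𝓒) (hQc : Q ≤ Nm c)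
    {x : G} (hx : x ∈ Q) : x ∈ Zc c ↔ ∀ A ∈ c, ∀ a ∈ A, x * a = a * x := by
  refine ⟨fun h => h.2.2, fun h => ?_⟩
  obtain ⟨A, hA⟩ := F.exists_mem hc
  obtain ⟨A', hA', hne⟩ := F.two c hc A
  have hxA : x ∈ Q ⊓ A := by
    rw [← QC_eq F C hc hQc hA hA' hne]
    exact mem_QC.mpr ⟨hx, h A' hA'⟩
  have hxA' := (Subgroup.mem_inf.mp hxA).2
  obtain ⟨s, w⟩ := wit F C hc hQc hA
  have h1 := inverts F C hc hQc hA w hx hxA'
  have h2 := h A hA s w.mem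
  have h3 : x = x⁻¹ := by
    rw [← h1, ← h2]; group
  exact ⟨le_sSup hA hxA', by
    calc x * x = x * x⁻¹ := by rw [← h3]
      _ = 1 := by group, h⟩

/-- `A` central in `A` of `Q ∩ A`: in `Z_c` -/
theorem mem_Zc_of_cen [Finite G] (F : EFam3 𝓒) (C : ECfg 𝓒 Q) {c : Set (Subgroup G)} (hc : c ∈ 𝓒) (hQc : Q ≤ Nm c)
    {A : Subgroup G} (hA : A ∈ c) {x : G} (hx : x ∈ Q) (hxA : x ∈ A) (hxc : ∀ a ∈ A, x * a = a * x) : x ∈ Zc c := by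
  rw [mem_Zc_iff F C hc hQc hx]
  intro B hB b hb
  by_cases h : A = B
  · subst h; exact hxc b hb
  · exact F.comm c hc A hA B hB h x hxA b hb

/-- `Q ∩ Z_c` lies in every member -/
theorem Zc_le_mem [Finite G] (F : EFam3 𝓒) (C : ECfg 𝓒 Q) {c : Set (Subgroup G)} (hc : c ∈ 𝓒) (hQc : Q ≤ Nm c)
    {A : Subgroup G} (hA : A ∈ c) : Q ⊓ Zc c ≤ Q ⊓ A := by
  obtain ⟨A', hA', hne⟩ := F.two c hc A
  intro x hx
  rw [Subgroup.mem_inf] at hx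
  rw [← QC_eq F C hc hQc hA hA' hne]
  exact mem_QC.mpr ⟨hx.1, hx.2.2.2 A' hA'⟩

/-- `Q ∩ Z_c = Z_c ∩ H_d` -/
theorem Zc_inf [Finite G] (F : EFam3 𝓒) (C : ECfg 𝓒 Q) {c d : Set (Subgroup G)} (hc : c ∈ 𝓒) (hd : d ∈ 𝓒)
    (hcd : c ≠ d) (hQc : Q ≤ Nm c) (hQd : Q ≤ Nm d) : Q ⊓ Zc c = Zc c ⊓ St d := by
  apply le_antisymm
  · exact le_inf inf_le_right (inf_le_left.trans (hQd.trans (Nm_le_St d)))
  · exact le_inf (C.zc_le F.toEFam2 hc hd hcd hQc hQd) inf_le_left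

/-- `|Q ∩ Z_c| = |Q ∩ Z_d|` -/
theorem card_Zc_inf [Finite G] (F : EFam3 𝓒) (C : ECfg 𝓒 Q) {c d : Set (Subgroup G)} (hc : c ∈ 𝓒) (hd : d ∈ 𝓒)
    (hcd : c ≠ d) (hQc : Q ≤ Nm c) (hQd : Q ≤ Nm d) :
    Nat.card (Q ⊓ Zc c : Subgroup G) = Nat.card (Q ⊓ Zc d : Subgroup G) := by
  rw [Zc_inf F C hc hd hcd hQc hQd, Zc_inf F C hd hc (Ne.symm hcd) hQd hQc]
  exact card_eq F.toEFam hc hd hcd

/-- with at least three members `Q ∩ A` is central and `Q ∩ A = Q ∩ Z_c` -/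
theorem inf_eq_Zc_of_three [Finite G] (F : EFam3 𝓒) (C : ECfg 𝓒 Q) {c : Set (Subgroup G)} (hc : c ∈ 𝓒)
    (hQc : Q ≤ Nm c) {A A' B : Subgroup G} (hA : A ∈ c) (hA' : A' ∈ c) (hB : B ∈ c) (h0 : A' ≠ A) (h1 : B ≠ A)
    (h2 : B ≠ A') : Q ⊓ A = Q ⊓ Zc c := by
  refine le_antisymm (fun x hx => ?_) (Zc_le_mem F C hc hQc hA)
  have hx' := hx
  rw [inf_eq_of_three F C hc hQc hA hA' hB h1 h2] at hx'
  rw [Subgroup.mem_inf] at hx hx'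
  exact Subgroup.mem_inf.mpr ⟨hx.1, mem_Zc_of_cen F C hc hQc hA hx.1 hx.2
    (F.comm c hc A' hA' A hA h0 x hx'.2)⟩

/-- `S ∩ H_d = Q ∩ A` for a `Q`-invariant Sylow 2-subgroup `S` of `A` (only: 2-subgroup) -/
theorem mem_Q_of_St [Finite G] (F : EFam3 𝓒) (C : ECfg 𝓒 Q) {c d : Set (Subgroup G)} (hc : c ∈ 𝓒) (hd : d ∈ 𝓒)
    (hcd : c ≠ d) (hQc : Q ≤ Nm c) (hQd : Q ≤ Nm d) {A S : Subgroup G} (hA : A ∈ c) (hSA : S ≤ A) (hS : IsPGroup 2 S)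
    (hQS : ∀ q ∈ Q, cj q S = S) {x : G} (hx : x ∈ S) (hxd : x ∈ St d) : x ∈ Q := by
  have hn : ∀ q ∈ Q, cj q (S ⊓ Nm d) = S ⊓ Nm d := by
    intro q hq
    rw [cj_inf, hQS q hq, cj_eq_of_mem (hQd hq)]
  have hT := isPGroup_mulSub (h := hn) (hS.to_le inf_le_left) C.pg
  have h1 := C.le_of_two hc hd hcd hQc hQd hT le_mulSub_right
    (mulSub_le (inf_le_left.trans (hSA.trans (F.mem_le_Nm hc hA))) hQc) (mulSub_le inf_le_right hQd)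
  obtain ⟨k, hk⟩ := hS ⟨x, hx⟩
  have h2 : x ∈ Nm d := F.sw c hc d hd hcd (C.nd F.toEFam hc hQc hQd) A hA x (hSA hx)
    ⟨k, congrArg Subtype.val hk⟩ hxd
  exact h1 (le_mulSub_left (Subgroup.mem_inf.mpr ⟨hx, h2⟩))

/-- `C_S(y) = Q ∩ A` for `y ∈ C_Q(M)#` -/
theorem mem_of_comm [Finite G] (F : EFam3 𝓒) (C : ECfg 𝓒 Q) {c d : Set (Subgroup G)} (hc : c ∈ 𝓒) (hd : d ∈ 𝓒)
    (hcd : c ≠ d) (hQc : Q ≤ Nm c) (hQd : Q ≤ Nm d) {A S M : Subgroup G} (hA : A ∈ c) (hM : M ∈ d) (hSA : S ≤ A)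
    (hS : IsPGroup 2 S) (hQS : ∀ q ∈ Q, cj q S = S) {x y : G} (hx : x ∈ S) (hy : y ∈ QC Q M) (hy1 : y ≠ 1)
    (hxy : y * x = x * y) : x ∈ Q ⊓ A :=
  Subgroup.mem_inf.mpr ⟨mem_Q_of_St F C hc hd hcd hQc hQd hA hSA hS hQS hx (cen_QC F.toEFam C.pg hd hM hy hy1 hxy),
    hSA hx⟩

end

end

end Cfsg.Agent.OddHalf.D3.EvMax
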