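import Cfsg.Agent.OddHalf.D3.TwoKey
import Cfsg.Agent.OddHalf.D3.TwoAct

/-!
# ODD D3 (iii), `n = 2`: reduction to (B2) (texts of helper133, bb ODD 9195, (6), and helper832, bb ODD 9609, (1))
-/

set_option autoImplicit false

namespace Cfsg.Agent.OddHalf.D3.TwoBB

open Cfsg.Agent.OddHalf.D3.ThreeDefs Cfsg.Agent.OddHalf.D3.ThreeFam Cfsg.Agent.OddHalf.D3.ThreeMain
open Cfsg.Agent.OddHalf.D3.Swap Cfsg.Agent.OddHalf.D3.TwoCfg Cfsg.Agent.OddHalf.D3.TwoNF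
open Cfsg.Agent.OddHalf.D3.TwoKey Cfsg.Agent.OddHalf.D3.TwoAct

universe u

variable {G : Type u} [Group G]

/-- the normaliser of `Q` -/
def NQ (Q : Subgroup G) : Subgroup G where
  carrier := {g | cj g Q = Q}
  one_mem' := cj_one Q
  mul_mem' := fun ha hb => cj_mul_eq ha hb
  inv_mem' := fun ha => cj_inv_eq ha

theorem mem_NQ {Q : Subgroup G} {g : G} : g ∈ NQ Q ↔ cj g Q = Q := Iff.rfl

instance (Q : Subgroup G) : (Q.subgroupOf (NQ Q)).Normal := ⟨fun x hx g => by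
  have h1 : (x : G) ∈ Q := hx
  have h2 : (g : G) * x * (g : G)⁻¹ ∈ Q := conj_mem_of_cj g.2 h1
  exact h2⟩

/-- the quotient `N_G(Q) / Q` -/
abbrev XQ (Q : Subgroup G) := NQ Q ⧸ Q.subgroupOf (NQ Q)

/-- the members of the classes stabilised by `Q` -/
def Ends (𝓒 : Set (Set (Subgroup G))) (Q : Subgroup G) := {A : Subgroup G // ∃ c ∈ 𝓒, Q ≤ Nm c ∧ A ∈ c}

section
variable {𝓒 : Set (Set (Subgroup G))} {Q : Subgroup G}

/-- the action of `N_G(Q)` -/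
def actE (F : Fam 𝓒) (g : NQ Q) (A : Ends 𝓒 Q) : Ends 𝓒 Q :=
  ⟨cj (g : G) A.1, by
    obtain ⟨c, hc, hQc, hA⟩ := A.2
    exact ⟨cjs g c, F.conj g c hc, le_Nm_cjs g.2 hQc, cj_mem_cjs hA⟩⟩

theorem actE_val (F : Fam 𝓒) (g : NQ Q) (A : Ends 𝓒 Q) : (actE F g A).1 = cj (g : G) A.1 := rfl

/-- the permutation representation of `N_G(Q)` -/
def rho0 (F : Fam 𝓒) : NQ Q →* Equiv.Perm (Ends 𝓒 Q) where
  toFun g := ⟨actE F g, actE F g⁻¹, fun A => Subtype.ext (cj_inv_cj _ _), fun A => Subtype.ext (cj_cj_inv _ _)⟩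
  map_one' := Equiv.ext fun A => Subtype.ext (cj_one _)
  map_mul' := fun a b => Equiv.ext fun A => Subtype.ext (cj_mul _ _ _)

theorem rho0_val (F : Fam 𝓒) (g : NQ Q) (A : Ends 𝓒 Q) : (rho0 F g A).1 = cj (g : G) A.1 := rfl

/-- the permutation representation of `N_G(Q) / Q` -/
def rho (F : Fam 𝓒) : XQ Q →* Equiv.Perm (Ends 𝓒 Q) :=
  QuotientGroup.lift (Q.subgroupOf (NQ Q)) (rho0 F) (by
    intro x hx
    refine Equiv.ext fun A => Subtype.ext ?_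
    obtain ⟨c, hc, hQc, hA⟩ := A.2
    exact hQc hx A.1 hA)

theorem rho_val (F : Fam 𝓒) (g : NQ Q) (A : Ends 𝓒 Q) : (rho F (g : XQ Q) A).1 = cj (g : G) A.1 := rfl

theorem exists_partner (F : Fam 𝓒) (A : Ends 𝓒 Q) : ∃ B : Ends 𝓒 Q, B.1 ≠ A.1 ∧ ∃ c ∈ 𝓒, Q ≤ Nm c ∧ A.1 ∈ c ∧ B.1 ∈ c := by
  obtain ⟨c, hc, hQc, hA⟩ := A.2
  obtain ⟨B, hB, hne⟩ := F.two c hc A.1
  exact ⟨⟨B, c, hc, hQc, hB⟩, hne, c, hc, hQc, hA, hB⟩

/-- the partner -/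
noncomputable def partner (F : Fam 𝓒) (A : Ends 𝓒 Q) : Ends 𝓒 Q := (exists_partner F A).choose

theorem partner_ne (F : Fam 𝓒) (A : Ends 𝓒 Q) : (partner F A).1 ≠ A.1 := (exists_partner F A).choose_spec.1

theorem partner_mem (F : Fam 𝓒) (A : Ends 𝓒 Q) : ∃ c ∈ 𝓒, Q ≤ Nm c ∧ A.1 ∈ c ∧ (partner F A).1 ∈ c :=
  (exists_partner F A).choose_spec.2

theorem partner_eq (F : Fam2 𝓒) {A B : Ends 𝓒 Q} (hne : B.1 ≠ A.1) {c : Set (Subgroup G)} (hc : c ∈ 𝓒) (hA : A.1 ∈ c)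
    (hB : B.1 ∈ c) : partner F.toFam A = B := by
  obtain ⟨c', hc', hQc', hA', hP⟩ := partner_mem F.toFam A
  have h1 := class_unique F.toFam hc hc' hA hA'
  subst h1
  rcases F.le2 c hc A.1 hA B.1 hB _ hP with h | h | h
  · exact absurd h.symm hne
  · exact absurd h.symm (partner_ne F.toFam A)
  · exact Subtype.ext h.symm

/-- the subgroup `N_A(Q) Q / Q` -/
def JQ (Q A : Subgroup G) : Subgroup (XQ Q) :=
  (A.subgroupOf (NQ Q)).map (QuotientGroup.mk' (Q.subgroupOf (NQ Q)))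

theorem mem_JQ {Q A : Subgroup G} {t : XQ Q} : t ∈ JQ Q A ↔ ∃ s : NQ Q, (s : G) ∈ A ∧ (s : XQ Q) = t := by
  unfold JQ
  rw [Subgroup.mem_map]
  rfl

theorem mk_eq_one {Q : Subgroup G} {s : NQ Q} : (s : XQ Q) = 1 ↔ (s : G) ∈ Q := by
  rw [QuotientGroup.eq_one_iff]
  rfl

theorem mk_eq_mk {Q : Subgroup G} {s t : NQ Q} : (s : XQ Q) = (t : XQ Q) ↔ (s : G)⁻¹ * t ∈ Q := by
  rw [QuotientGroup.eq]
  rfl

/-- involutions of `JQ` come from witnesses -/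
theorem wit_of_mem {A : Subgroup G} {t : XQ Q} (ht : t ∈ JQ Q A) (ht2 : t * t = 1) (ht1 : t ≠ 1) :
    ∃ s : NQ Q, Wit Q A s ∧ (s : XQ Q) = t := by
  obtain ⟨s, hsA, rfl⟩ := mem_JQ.mp ht
  refine ⟨s, ⟨hsA, s.2, fun h => ht1 (mk_eq_one.mpr h), ?_⟩, rfl⟩
  have h1 : ((s * s : NQ Q) : XQ Q) = 1 := ht2
  exact mk_eq_one.mp h1

/-- different classes -/
theorem class_ne (F : Fam2 𝓒) {α β : Ends 𝓒 Q} (h1 : β ≠ α) (h2 : β ≠ partner F.toFam α) {c d : Set (Subgroup G)}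
    (hc : c ∈ 𝓒) (hα : α.1 ∈ c) (hβ : β.1 ∈ d) : c ≠ d := by
  rintro rfl
  exact h2 (partner_eq F (fun h => h1 (Subtype.ext h)) hc hα hβ).symm

/-- **the action** -/
noncomputable def act [Finite G] (F : Fam2 𝓒) (C : NF 𝓒 Q) : Act (XQ Q) (Ends 𝓒 Q) where
  ρ := rho F.toFam
  σ := partner F.toFam
  σσ := by
    intro α
    obtain ⟨c, hc, hQc, hα, hP⟩ := partner_mem F.toFam α
    exact partner_eq F (Ne.symm (partner_ne F.toFam α)) hc hP hα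
  σne := fun α h => partner_ne F.toFam α (congrArg Subtype.val h)
  σeq := by
    intro x α
    obtain ⟨g, rfl⟩ := QuotientGroup.mk_surjective x
    obtain ⟨c, hc, hQc, hα, hP⟩ := partner_mem F.toFam α
    refine partner_eq F ?_ (F.conj g c hc) (cj_mem_cjs hα) (cj_mem_cjs hP)
    exact fun h => partner_ne F.toFam α (cj_injective _ h)
  J := fun α => JQ Q α.1
  Jfix := by
    intro α t ht
    obtain ⟨s, hs, rfl⟩ := mem_JQ.mp ht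
    exact Subtype.ext (cj_eq_of_mem hs)
  Jconj := by
    intro x α y hy
    obtain ⟨g, rfl⟩ := QuotientGroup.mk_surjective x
    obtain ⟨s, hs, rfl⟩ := mem_JQ.mp hy
    refine mem_JQ.mpr ⟨g * s * g⁻¹, ?_, rfl⟩
    exact conj_mem_cj hs
  Jinv := by
    intro α
    obtain ⟨c, hc, hQc, hα⟩ := α.2
    obtain ⟨s, w⟩ := C.wit c hc hQc α.1 hα
    refine ⟨((⟨s, w.norm⟩ : NQ Q) : XQ Q), mem_JQ.mpr ⟨⟨s, w.norm⟩, w.mem, rfl⟩, ?_, ?_⟩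
    · change (((⟨s, w.norm⟩ : NQ Q) * ⟨s, w.norm⟩ : NQ Q) : XQ Q) = 1
      rw [mk_eq_one]
      exact w.sq
    · intro h
      exact w.not (mk_eq_one.mp h)
  Jcomm := by
    intro α a ha b hb
    obtain ⟨s, hs, rfl⟩ := mem_JQ.mp ha
    obtain ⟨t, ht, rfl⟩ := mem_JQ.mp hb
    obtain ⟨c, hc, hQc, hα, hP⟩ := partner_mem F.toFam α
    change ((s * t : NQ Q) : XQ Q) = ((t * s : NQ Q) : XQ Q)
    congr 1
    exact Subtype.ext (F.comm c hc α.1 hα _ hP (Ne.symm (partner_ne F.toFam α)) s hs t ht)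
  Jtri := by
    intro α t ht ht' ht2
    by_contra ht1
    obtain ⟨s, w, hst⟩ := wit_of_mem ht ht2 ht1
    obtain ⟨s', hs', hst'⟩ := mem_JQ.mp ht'
    obtain ⟨c, hc, hQc, hα, hP⟩ := partner_mem F.toFam α
    have h1 : (s : G)⁻¹ * s' ∈ Q := mk_eq_mk.mp (hst.trans hst'.symm)
    refine key F C.toCfg hc hQc hα w h1 ?_
    intro a ha
    have e : (s : G) * ((s : G)⁻¹ * s') = s' := by group
    rw [e]
    exact (F.comm c hc α.1 hα _ hP (Ne.symm (partner_ne F.toFam α)) a ha s' hs').symm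
  A1 := by
    intro α β h1 h2 t ht2 hα hβ
    obtain ⟨g, rfl⟩ := QuotientGroup.mk_surjective t
    obtain ⟨c, hc, hQc, hαc⟩ := α.2
    obtain ⟨d, hd, hQd, hβd⟩ := β.2
    have hcd := class_ne F h1 h2 hc hαc hβd
    have h3 : cj (g : G) α.1 = α.1 := congrArg Subtype.val hα
    have h4 : cj (g : G) β.1 = β.1 := congrArg Subtype.val hβ
    have h5 : ((g * g : NQ Q) : XQ Q) = 1 := ht2
    rw [mk_eq_one] at h5
    change ((g : NQ Q) : XQ Q) = 1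
    rw [mk_eq_one]
    exact C.mem_of_norm hc hd hcd hQc hQd (sq_pgroup C.pg h5) g.2 (mem_Nm_of_cj F hc hαc h3) (mem_Nm_of_cj F hd hβd h4)
  A6 := by
    intro α β a ha b hb ha2 ha1 hb2 hb1 hab
    obtain ⟨s, w, rfl⟩ := wit_of_mem ha ha2 ha1
    obtain ⟨t, w', rfl⟩ := wit_of_mem hb hb2 hb1
    obtain ⟨r, hr, hrt⟩ := mem_JQ.mp hab
    obtain ⟨c, hc, hQc, hα, hP⟩ := partner_mem F.toFam α
    obtain ⟨d, hd, hQd, hβ⟩ := β.2
    have h1 : ((s * t : NQ Q) : G)⁻¹ * r ∈ Q := mk_eq_mk.mp hrt.symm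
    refine not_prod F C hc hd hQc hQd hα hP (partner_ne F.toFam α) hβ w w' h1 ?_
    have e : (s : G) * t * (((s * t : NQ Q) : G)⁻¹ * r) = r := by push_cast; group
    rw [e]
    exact hr

/-- **The configuration (B2).** -/
theorem exists_conf [Finite G] (F : Fam2 𝓒) (C : NF 𝓒 Q) :
    ∃ Λ ∈ 𝓒, ∃ Λ' ∈ 𝓒, Λ ≠ Λ' ∧ Q ≤ Nm Λ ∧ Q ≤ Nm Λ' ∧ ∃ L1 ∈ Λ, ∃ L2 ∈ Λ, ∃ M1 ∈ Λ', ∃ M2 ∈ Λ', L2 ≠ L1 ∧ M2 ≠ M1 ∧
      ∃ g1 g2 h1 h2 : G, Wit Q L1 g1 ∧ Wit Q L2 g2 ∧ Wit Q M1 h1 ∧ Wit Q M2 h2 ∧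
        cj (h1 * h2) L1 = L2 ∧ cj (g1 * g2) M1 = M2 := by
  obtain ⟨c, hc, d, hd, hcd, hQc, hQd⟩ := C.ex
  obtain ⟨L1, hL1, -⟩ := F.two c hc ⊥
  obtain ⟨M1, hM1, -⟩ := F.two d hd ⊥
  set A := act F C with hA
  let α : Ends 𝓒 Q := ⟨L1, c, hc, hQc, hL1⟩
  let β : Ends 𝓒 Q := ⟨M1, d, hd, hQd, hM1⟩
  have h1 : β ≠ α := by
    intro h
    have h3 : M1 = L1 := congrArg Subtype.val h
    subst h3
    exact hcd (class_unique F.toFam hc hd hL1 hM1)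
  obtain ⟨c', hc', hQc', hα, hP⟩ := partner_mem F.toFam α
  have hcc : c' = c := class_unique F.toFam hc' hc hα hL1
  subst hcc
  obtain ⟨d', hd', hQd', hβ, hP'⟩ := partner_mem F.toFam β
  have hdd : d' = d := class_unique F.toFam hd' hd hβ hM1
  subst hdd
  have h2 : β ≠ A.σ α := by
    intro h
    have h3 : M1 = (partner F.toFam α).1 := congrArg Subtype.val h
    rw [← h3] at hP
    exact hcd (class_unique F.toFam hc hd hP hM1)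
  obtain ⟨a, ha, ha2, ha1⟩ := A.Jinv α
  obtain ⟨b, hb, hb2, hb1⟩ := A.Jinv (A.σ α)
  obtain ⟨a', ha', ha2', ha1'⟩ := A.Jinv β
  obtain ⟨b', hb', hb2', hb1', e1, e2⟩ := A.main h1 h2 ha ha2 ha1 hb hb2 hb1 ha' ha2' ha1'
  obtain ⟨g1, w1, rfl⟩ := wit_of_mem ha ha2 ha1
  obtain ⟨g2, w2, rfl⟩ := wit_of_mem hb hb2 hb1
  obtain ⟨k1, w3, rfl⟩ := wit_of_mem ha' ha2' ha1'
  obtain ⟨k2, w4, rfl⟩ := wit_of_mem hb' hb2' hb1'
  refine ⟨c', hc, d', hd, hcd, hQc, hQd, L1, hL1, (partner F.toFam α).1, hP, M1, hM1, (partner F.toFam β).1, hP',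
    partner_ne F.toFam α, partner_ne F.toFam β, g1, g2, k1, k2, w1, w2, w3, w4, ?_, ?_⟩
  · exact congrArg Subtype.val e1
  · exact congrArg Subtype.val e2

end

end Cfsg.Agent.OddHalf.D3.TwoBB
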