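import Cfsg.Agent.GH.L2AutD
import Cfsg.Agent.GH.L2AutF
import Cfsg.Agent.GH.L2Good

/-!
# ODD D3b, `n = 2`: the K-fact (9)

`L ≅ PSL(2,F)`, `|F| ≥ 5` odd, or `L ≅ A₇`; `u` an involutory automorphism which fixes no four-group, `z` an
involution fixed by `u`. Then the groups `[C(u),z]` and `[C(uz),z]` do not commute (they are not trivial).
-/

set_option autoImplicit false

namespace Cfsg.Agent.OddHalf.NineFact

open scoped commutatorElement
open Matrix Cfsg.Agent.GH Cfsg.Agent.GH.L2Aut Cfsg.Agent.Lib.SL2Mat Cfsg.Agent.Lib.AutSL2 Cfsg.Agent.Lib.AutSL2Out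

/-! ### `PSL(2,F)` -/

section psl

variable {F : Type*} [Field F] {L : Type*} [Group L] (R : L2Aut.Rep F L) [Finite F]

local notation "SL2" => Matrix.SpecialLinearGroup (Fin 2) F
local notation "M2" => Matrix (Fin 2) (Fin 2) F

include R in
/-- the centralizer in `PGL` of an element which is not an involution is abelian -/
theorem comm_of_comm {g h k : GL (Fin 2) F} (hg : R.gl g * R.gl g ≠ 1)
    (h1 : R.gl h * R.gl g = R.gl g * R.gl h) (h2 : R.gl k * R.gl g = R.gl g * R.gl k) :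
    R.gl h * R.gl k = R.gl k * R.gl h := by
  have hne : R.gl g ≠ 1 := fun h3 => hg (by rw [h3, mul_one])
  have key : ∀ {m : GL (Fin 2) F}, R.gl m * R.gl g = R.gl g * R.gl m → g.1 * m.1 = m.1 * g.1 := by
    intro m hm
    rcases R.comm_cases hm with h3 | h3
    · exact h3.symm
    · exfalso
      apply hg
      apply R.gl_sq_of_tr
      apply tr_of_anticomm R.two (g := m)
      rw [h3, neg_neg]
  obtain ⟨a, b, hab⟩ := exists_ab (R.not_scalar_of_ne hne) (key h1)
  obtain ⟨c, d, hcd⟩ := exists_ab (R.not_scalar_of_ne hne) (key h2)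
  rw [← map_mul, ← map_mul]
  congr 1
  apply Units.ext
  rw [Units.val_mul, Units.val_mul, hab, hcd]
  simp only [Matrix.add_mul, Matrix.mul_add, Matrix.smul_mul, Matrix.mul_smul, Matrix.one_mul,
    Matrix.mul_one]
  module

omit [Finite F] in
theorem exists_t (h5 : 5 ≤ Nat.card F) (D : F) : ∃ t : F, t ≠ 0 ∧ 1 + D * t ^ 2 ≠ 0 := by
  classical
  by_contra hcon
  push Not at hcon
  have h1 := hcon 1 one_ne_zero
  have hD : D = -1 := by linear_combination h1
  have h2 : ∀ t : F, t = 0 ∨ t = 1 ∨ t = -1 := by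
    intro t
    by_cases h0 : t = 0
    · exact Or.inl h0
    right
    have h3 := hcon t h0
    rw [hD] at h3
    have h4 : (t - 1) * (t + 1) = 0 := by linear_combination -h3
    rcases mul_eq_zero.1 h4 with h | h
    · exact Or.inl (by linear_combination h)
    · exact Or.inr (by linear_combination h)
  have h3 : Nat.card F ≤ 3 := by
    have h6 : (Set.univ : Set F) ⊆ (({0, 1, -1} : Finset F) : Set F) := by
      intro t _
      rcases h2 t with h | h | h <;> simp [h]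
    have h7 := Set.ncard_le_ncard h6 (Finset.finite_toSet _)
    rw [Set.ncard_univ, Set.ncard_coe_finset] at h7
    exact h7.trans Finset.card_le_three
  omega

/-- an involution of `PGL ∖ Inn` fixes an element of order greater than two -/
theorem exists_fixed (h5 : 5 ≤ Nat.card F) {u : MulAut L} (h1 : u ∈ R.PGL)
    (h2 : u ∉ (MulAut.conj : L →* MulAut L).range) (h3 : u * u = 1) : ∃ x : L, u x = x ∧ x * x ≠ 1 := by
  obtain ⟨g, rfl⟩ := R.mem_PGL.1 h1
  have hne : R.gl g ≠ 1 := by intro h; exact h2 (by rw [h]; exact one_mem _)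
  have htr := R.tr_of_inv hne h3
  have hns := R.not_scalar_of_ne hne
  rw [R.gl_mem_inn] at h2
  obtain ⟨t, ht0, ht⟩ := exists_t h5 g.1.det
  have ha : 1 - g.1.det * t ^ 2 ≠ 0 := by
    intro h
    apply h2
    refine ⟨t⁻¹, ?_⟩
    field_simp
    linear_combination -h
  have htwo := R.two
  have hdet : (((1 - g.1.det * t ^ 2) / (1 + g.1.det * t ^ 2)) • (1 : M2) +
      (2 * t / (1 + g.1.det * t ^ 2)) • g.1).det = 1 := by
    have h11 : g.1 1 1 = -g.1 0 0 := by
      have h4 := htr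
      rw [Matrix.trace_fin_two] at h4
      linear_combination h4
    have hd : g.1.det = g.1 0 0 * g.1 1 1 - g.1 0 1 * g.1 1 0 := Matrix.det_fin_two _
    rw [Matrix.det_fin_two]
    simp only [Matrix.add_apply, Matrix.smul_apply, Matrix.one_apply_eq, smul_eq_mul, mul_one, ne_eq,
      Fin.zero_eq_one_iff, OfNat.ofNat_ne_one, not_false_eq_true, Matrix.one_apply_ne, mul_zero,
      zero_add, Fin.one_eq_zero_iff]
    rw [h11] at hd ⊢
    field_simp
    linear_combination (-4 * t ^ 2) * hd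
  let x : SL2 := ⟨_, hdet⟩
  have hx : x.1 = ((1 - g.1.det * t ^ 2) / (1 + g.1.det * t ^ 2)) • (1 : M2) +
      (2 * t / (1 + g.1.det * t ^ 2)) • g.1 := rfl
  have hb : 2 * t / (1 + g.1.det * t ^ 2) ≠ 0 := div_ne_zero (mul_ne_zero htwo ht0) ht
  have hsc : ∀ c : F, x.1 ≠ c • (1 : M2) := by
    intro c hc
    apply hns ((2 * t / (1 + g.1.det * t ^ 2))⁻¹ *
      (c - (1 - g.1.det * t ^ 2) / (1 + g.1.det * t ^ 2)))
    rw [mul_smul, sub_smul, ← hc, hx, add_sub_cancel_left, smul_smul, inv_mul_cancel₀ hb, one_smul]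
  refine ⟨R.π x, ?_, ?_⟩
  · rw [R.gl_apply]
    congr 1
    apply conjGL_eq_of
    rw [hx, Matrix.mul_add, Matrix.add_mul, Matrix.mul_smul, Matrix.mul_smul, Matrix.smul_mul,
      Matrix.smul_mul, Matrix.mul_one, Matrix.one_mul]
  · intro h
    rw [← map_mul, R.ker] at h
    rcases h with h | h
    · rcases Cfsg.Agent.Lib.PSL2Inv.sq_eq_one R.two h with h4 | h4
      · exact hsc 1 (by rw [h4, one_smul]; rfl)
      · exact hsc (-1) (by rw [h4, neg_one_smul]; rfl)
    · have h4 : x.1 * x.1 = -1 := congrArg Subtype.val h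
      have h6 := tr_zero_of_sq h4
      rw [hx, Matrix.trace_add, Matrix.trace_smul, Matrix.trace_smul, htr, smul_zero, add_zero,
        Matrix.trace_one, Fintype.card_fin, smul_eq_mul] at h6
      rcases mul_eq_zero.1 h6 with h7 | h7
      · exact div_ne_zero ha ht h7
      · exact htwo (by exact_mod_cast h7)

theorem odd_sq {B : Subgroup L} (hB : Odd (Nat.card B)) {x : L} (hx : x ∈ B) (h : x * x = 1) :
    x = 1 := by
  have h1 : orderOf x ∣ Nat.card B := by
    rw [← Subgroup.orderOf_mk x hx]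
    exact orderOf_dvd_natCard _
  have h2 : orderOf x ∣ 2 := orderOf_dvd_of_pow_eq_one (by rw [pow_two, h])
  rcases (Nat.dvd_prime Nat.prime_two).1 h2 with h3 | h3
  · exact orderOf_eq_one_iff.1 h3
  · rw [h3] at h1
    exact absurd (even_iff_two_dvd.2 h1) (Nat.not_even_iff_odd.2 hB)

/-- the commutator group of the fixed points with `z` contains an element of order greater than two inverted by `z` -/
theorem exists_comm (h5 : 5 ≤ Nat.card F) {u : MulAut L} (h1 : u ∈ R.PGL)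
    (h2 : u ∉ (MulAut.conj : L →* MulAut L).range) (h3 : u * u = 1) {z : L} (hzz : z * z = 1)
    (hz1 : z ≠ 1) (hz : u z = z) :
    ∃ x : L, u x = x ∧ u ⁅x, z⁆ = ⁅x, z⁆ ∧ z * ⁅x, z⁆ * z⁻¹ = ⁅x, z⁆⁻¹ ∧ ⁅x, z⁆ * ⁅x, z⁆ ≠ 1 := by
  obtain ⟨B, hB1, hB2, hB3, hB4⟩ := R.dtype_cent h1 h2 h3
  obtain ⟨x, hx, hxx⟩ := exists_fixed R h5 h1 h2 h3
  have hxB : x ∈ B := (hB4 x hx).resolve_right fun h => hxx h.1
  have hzB : z ∉ B := fun h => hz1 (odd_sq hB3 h hzz)
  obtain ⟨-, hinv⟩ := (hB4 z hz).resolve_left hzB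
  have hcz : ⁅x, z⁆ = x * x := by
    rw [commutatorElement_def]
    have h6 := hinv x⁻¹ (inv_mem hxB)
    rw [inv_inv] at h6
    calc x * z * x⁻¹ * z⁻¹ = x * (z * x⁻¹ * z⁻¹) := by group
      _ = x * x := by rw [h6]
  have hxx' : x * x ∈ B := mul_mem hxB hxB
  refine ⟨x, hx, ?_, ?_, ?_⟩
  · rw [hcz, map_mul, hx]
  · rw [hcz]
    exact hinv _ hxx'
  · rw [hcz]
    intro h
    exact hxx (odd_sq hB3 hxx' h)

include R in
/-- **the fact (9) for `PSL(2,F)`** -/
theorem psl_false (h5 : 5 ≤ Nat.card F) {u : MulAut L} (hu : u * u = 1) (hu1 : u ≠ 1)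
    (h4 : ∀ a b : L, Four a b → u a = a → u b = b → False) {z : L} (hzz : z * z = 1) (hz1 : z ≠ 1)
    (huz : u z = z)
    (hc : ∀ a b : L, u a = a → z * u b * z⁻¹ = b → ⁅a, z⁆ * ⁅b, z⁆ = ⁅b, z⁆ * ⁅a, z⁆) : False := by
  have := R.finite
  have hP : u ∈ R.PGL := by
    by_contra h
    obtain ⟨S, hS⟩ := R.ftype_syl h hu
    obtain ⟨a, b, ha, hb, hab⟩ := R.exists_four_mem S
    exact h4 a b hab (hS a ha) (hS b hb)
  have hI : u ∉ (MulAut.conj : L →* MulAut L).range := by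
    intro h
    obtain ⟨t, ht, rfl⟩ := R.inn_inv h hu
    have ht1 : t ≠ 1 := by rintro rfl; exact hu1 (map_one _)
    obtain ⟨a, b, hab⟩ := R.exists_four
    obtain ⟨g, hg⟩ := R.inv_conj hab.aa hab.a1 ht ht1
    have h6 := hab.map (MulAut.conj g)
    rw [MulAut.conj_apply, MulAut.conj_apply, hg] at h6
    exact h4 t _ h6 (by rw [MulAut.conj_apply, mul_inv_cancel_right]) (L2Aut.Rep.conj_fix_left h6)
  have hP' : MulAut.conj z * u ∈ R.PGL := mul_mem (R.conj_mem_PGL z) hP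
  have hI' : MulAut.conj z * u ∉ (MulAut.conj : L →* MulAut L).range := by
    intro h
    apply hI
    have h6 := mul_mem (inv_mem (⟨z, rfl⟩ : MulAut.conj z ∈ (MulAut.conj : L →* MulAut L).range)) h
    rwa [inv_mul_cancel_left] at h6
  have happ : ∀ a, (MulAut.conj z * u) a = z * u a * z⁻¹ := fun a => rfl
  have hzinv : z⁻¹ = z := inv_eq_of_mul_eq_one_left hzz
  have hu' : (MulAut.conj z * u) * (MulAut.conj z * u) = 1 := by
    ext a
    rw [MulAut.mul_apply, happ, happ, map_mul, map_mul, map_inv, huz, MulAut.one_apply]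
    have h6 : u (u a) = a := by rw [← MulAut.mul_apply, hu, MulAut.one_apply]
    rw [h6, hzinv]
    calc z * (z * a * z) * z = (z * z) * a * (z * z) := by group
      _ = a := by rw [hzz, one_mul, mul_one]
  have huz' : (MulAut.conj z * u) z = z := by rw [happ, huz, mul_inv_cancel_right]
  obtain ⟨x, hx1, hx2, hx3, hx4⟩ := exists_comm R h5 hP hI hu hzz hz1 huz
  obtain ⟨y, hy1, hy2, hy3, hy4⟩ := exists_comm R h5 hP' hI' hu' hzz hz1 huz'
  have hxy := hc x y hx1 hy1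
  -- `u` and `[y,z]` lie in the abelian centralizer of `[x,z]`
  obtain ⟨g, hg⟩ := R.mem_PGL.1 (R.conj_mem_PGL ⁅x, z⁆)
  obtain ⟨h, hh⟩ := R.mem_PGL.1 hP
  obtain ⟨k, hk⟩ := R.mem_PGL.1 (R.conj_mem_PGL ⁅y, z⁆)
  have h7 : u * MulAut.conj ⁅y, z⁆ = MulAut.conj ⁅y, z⁆ * u := by
    rw [hh, hk]
    refine comm_of_comm R (g := g) ?_ ?_ ?_
    · rw [← hg, ← map_mul]
      intro h8
      exact hx4 (R.conj_injective (by rw [h8, map_one]))
    · rw [← hg, ← hh]
      exact ((L2Aut.Rep.conj_comm_iff).2 (by rw [hx2])).symm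
    · rw [← hg, ← hk, ← map_mul, ← map_mul, hxy]
  have h8 : u ⁅y, z⁆ = ⁅y, z⁆ := by
    apply R.conj_injective
    rw [← L2Aut.Rep.conj_comm_iff]
    exact h7.symm
  rw [happ, h8, hy3] at hy2
  apply hy4
  nth_rw 1 [← hy2]
  exact inv_mul_cancel _

end psl

/-! ### `A₇` -/

section alt

open Cfsg.Agent.GH.L2One.A7 Cfsg.Agent.GH.L2AutPlus

/-- every involutory automorphism of `A₇` fixes a four-group -/
theorem a7_four {α : MulAut Alt} (hα : α * α = 1) (h1 : α ≠ 1) :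
    ∃ a b : Alt, Four a b ∧ α a = a ∧ α b = b := by
  obtain ⟨ψ, hψ⟩ := exists_psi
  by_cases hs : Equiv.Perm.sign (ψ α) = 1
  · have hl : α = MulAut.conj (⟨ψ α, Equiv.Perm.mem_alternatingGroup.2 hs⟩ : Alt) := by
      apply psi_injective hψ
      rw [psi_conj hψ]
    obtain ⟨l, hl'⟩ : ∃ l : Alt, l = ⟨ψ α, Equiv.Perm.mem_alternatingGroup.2 hs⟩ := ⟨_, rfl⟩
    rw [← hl'] at hl
    have hll : l * l = 1 := by
      rw [hl']
      apply Subtype.ext
      change ψ α * ψ α = 1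
      rw [← map_mul, hα, map_one]
    have hl1 : l ≠ 1 := by
      rintro rfl
      exact h1 (by rw [hl, map_one])
    obtain ⟨k, hk⟩ := inv_conj fa1 l four1.aa four1.a1 hll hl1
    have h6 := four1.map (MulAut.conj k)
    rw [MulAut.conj_apply, MulAut.conj_apply, hk] at h6
    refine ⟨l, _, h6, ?_, ?_⟩
    · rw [hl, MulAut.conj_apply, mul_inv_cancel_right]
    · rw [hl]
      exact L2Aut.Rep.conj_fix_left h6
  · obtain ⟨l, hl⟩ := conj_odd (by rw [← map_mul, hα, map_one]) hs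
    obtain ⟨a, b, y, h2, h3, h4, -⟩ := exists_four_comm hl
    have hfix : ∀ {z : Alt}, ((l : S7) * ψ α * (l : S7)⁻¹) * z * ((l : S7) * ψ α * (l : S7)⁻¹)⁻¹ = z →
        α (MulAut.conj l⁻¹ z) = MulAut.conj l⁻¹ z := by
      intro z hz
      apply Subtype.ext
      rw [hψ]
      change ψ α * ((l : S7)⁻¹ * z * ((l : S7)⁻¹)⁻¹) * (ψ α)⁻¹ = (l : S7)⁻¹ * z * ((l : S7)⁻¹)⁻¹
      nth_rw 2 [← hz]
      group
    exact ⟨MulAut.conj l⁻¹ a, MulAut.conj l⁻¹ b, h2.map _, hfix h3, hfix h4⟩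

end alt

/-! ### the fact -/

/-- **K-fact (9)** of the swapping case `n = 2`: no four-group is fixed by `u`, `[C(u),z]` and `[C(uz),z]` commute:
impossible. -/
theorem nine {L : Type*} [Group L]
    (hL : (∃ (F : Type) (_ : Field F) (_ : Fintype F), Odd (Fintype.card F) ∧ 5 ≤ Fintype.card F ∧
      Nonempty (L ≃* Matrix.ProjectiveSpecialLinearGroup (Fin 2) F)) ∨
      Nonempty (L ≃* ↥(alternatingGroup (Fin 7))))
    {u : MulAut L} (hu : u * u = 1) (hu1 : u ≠ 1)
    (h4 : ∀ a b : L, Four a b → u a = a → u b = b → False) {z : L} (hzz : z * z = 1) (hz1 : z ≠ 1)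
    (huz : u z = z)
    (hc : ∀ a b : L, u a = a → z * u b * z⁻¹ = b → ⁅a, z⁆ * ⁅b, z⁆ = ⁅b, z⁆ * ⁅a, z⁆) : False := by
  rcases hL with ⟨F, _, _, hF, h5, ⟨e⟩⟩ | ⟨⟨e⟩⟩
  · exact psl_false (L2Aut.Rep.ofEquiv (two_ne_zero_of_odd hF) e)
      (by rw [Nat.card_eq_fintype_card]; exact h5) hu hu1 h4 hzz hz1 huz hc
  · have hcong : ∀ y, (MulAut.congr e u) y = e (u (e.symm y)) := fun y => rfl
    obtain ⟨a, b, h1, h2, h3⟩ := a7_four (α := MulAut.congr e u)
      (by rw [← map_mul, hu, map_one]) (by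
        intro h
        exact hu1 ((MulAut.congr e).injective (by rw [h, map_one])))
    refine h4 (e.symm a) (e.symm b) (L2AutPlus.four_map h1 e.symm) ?_ ?_
    · rw [hcong] at h2
      exact e.injective (by rw [h2, MulEquiv.apply_symm_apply])
    · rw [hcong] at h3
      exact e.injective (by rw [h3, MulEquiv.apply_symm_apply])

/-- the same with `4 ∤ |C(u)|` -/
theorem nine_card {L : Type*} [Group L] [Finite L]
    (hL : (∃ (F : Type) (_ : Field F) (_ : Fintype F), Odd (Fintype.card F) ∧ 5 ≤ Fintype.card F ∧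
      Nonempty (L ≃* Matrix.ProjectiveSpecialLinearGroup (Fin 2) F)) ∨
      Nonempty (L ≃* ↥(alternatingGroup (Fin 7))))
    {u : MulAut L} (hu : u * u = 1) (hu1 : u ≠ 1) (C : Subgroup L) (hC : ∀ x, u x = x → x ∈ C)
    (h4 : ¬ 4 ∣ Nat.card ↥C) {z : L} (hzz : z * z = 1) (hz1 : z ≠ 1) (huz : u z = z)
    (hc : ∀ a b : L, u a = a → z * u b * z⁻¹ = b → ⁅a, z⁆ * ⁅b, z⁆ = ⁅b, z⁆ * ⁅a, z⁆) : False := by
  refine nine hL hu hu1 (fun a b h ha hb => h4 ?_) hzz hz1 huz hc
  have h1 : h.sub ≤ C := by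
    rintro x (rfl | rfl | rfl | rfl)
    · exact one_mem _
    · exact hC _ ha
    · exact hC _ hb
    · exact hC _ (by rw [map_mul, ha, hb])
  rw [← (L2AutPlus.four_sub h).card]
  exact Subgroup.card_dvd_of_le h1

end Cfsg.Agent.OddHalf.NineFact
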