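import Cfsg.Agent.OddHalf.D3.Plug

/-!
# The node D3(a)
-/

set_option autoImplicit false

namespace Cfsg.Agent.OddHalf.D3

universe u

/-- **D3(a)**: a terminal component exists. -/
theorem d3a : Iface.D3a.{u} := Plug.d3a

end Cfsg.Agent.OddHalf.D3
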