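import Cfsg.Agent.OddHalf.D3.TwoKey

/-!
# ODD D3 (iii), even centre: the frame (text of helper760, bb ODD 10166, (E0), (E1))

`EFam 𝓒`: the frame of classes of commuting quasisimple subgroups with even centre. `Zc Λ = Ω₁(O₂(Z(∏ Λ)))`.
-/

set_option autoImplicit false

namespace Cfsg.Agent.OddHalf.D3.EvDefs

open Cfsg Cfsg.Agent.OddHalf.D3.ThreeDefs Cfsg.Agent.OddHalf.D3.ThreeFam Cfsg.Agent.OddHalf.D3.ThreeMain
open Cfsg.Agent.OddHalf.D3.Swap Cfsg.Agent.OddHalf.D3.TwoCfg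
open scoped commutatorElement

universe u

variable {G : Type u} [Group G]

/-- The frame of D3 (iii), even centre (no hypothesis on the number of members). -/
structure EFam (𝓒 : Set (Set (Subgroup G))) : Prop where
  conj : ∀ g, ∀ Λ ∈ 𝓒, cjs g Λ ∈ 𝓒
  comm : ∀ Λ ∈ 𝓒, ∀ A ∈ Λ, ∀ B ∈ Λ, A ≠ B → ∀ a ∈ A, ∀ b ∈ B, a * b = b * a
  /-- at least two members -/
  two : ∀ Λ ∈ 𝓒, ∀ A, ∃ D ∈ Λ, D ≠ A
  /-- a class is determined by an involution centralising one of its members -/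
  uniq : ∀ Λ ∈ 𝓒, ∀ Λ' ∈ 𝓒, ∀ u, InU Λ u → InU Λ' u → Λ = Λ'
  /-- even centre -/
  ec : ∀ Λ ∈ 𝓒, ∀ A ∈ Λ, ∃ a ∈ A, a * a = 1 ∧ a ≠ 1 ∧ ∀ b ∈ A, a * b = b * a
  qs : ∀ Λ ∈ 𝓒, ∀ A ∈ Λ, IsQuasisimple A
  /-- more than one involution -/
  rk : ∀ Λ ∈ 𝓒, ∀ A ∈ Λ, ∀ z, ∃ a ∈ A, a * a = 1 ∧ a ≠ 1 ∧ a ≠ z
  /-- all members of all classes are conjugate -/
  tr : ∀ Λ ∈ 𝓒, ∀ Λ' ∈ 𝓒, ∀ A ∈ Λ, ∀ B ∈ Λ', ∃ g, cj g A = B

theorem comm_sup {Λ : Set (Subgroup G)} {z : G} (h : ∀ A ∈ Λ, ∀ a ∈ A, z * a = a * z) {x : G} (hx : x ∈ sSup Λ) :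
    z * x = x * z := by
  have h1 : sSup Λ ≤ Subgroup.centralizer ({z} : Set G) :=
    sSup_le fun A hA a ha => Subgroup.mem_centralizer_singleton_iff.mpr (h A hA a ha).symm
  exact (Subgroup.mem_centralizer_singleton_iff.mp (h1 hx)).symm

/-- `Ω₁(O₂(Z(∏ Λ)))` -/
def Zc (Λ : Set (Subgroup G)) : Subgroup G where
  carrier := {z | z ∈ sSup Λ ∧ z * z = 1 ∧ ∀ A ∈ Λ, ∀ a ∈ A, z * a = a * z}
  one_mem' := ⟨one_mem _, by simp, fun _ _ _ _ => by simp⟩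
  mul_mem' := by
    rintro x y ⟨hx1, hx2, hx3⟩ ⟨hy1, hy2, hy3⟩
    refine ⟨mul_mem hx1 hy1, ?_, fun A hA a ha => ?_⟩
    · have h1 := comm_sup hy3 hx1
      calc x * y * (x * y) = x * (y * x) * y := by group
        _ = x * x * (y * y) := by rw [h1]; group
        _ = 1 := by rw [hx2, hy2, mul_one]
    · have h1 := hx3 A hA a ha
      have h2 := hy3 A hA a ha
      calc x * y * a = x * (y * a) := by group
        _ = x * a * y := by rw [h2]; group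
        _ = a * (x * y) := by rw [h1]; group
  inv_mem' := by
    rintro x ⟨hx1, hx2, hx3⟩
    have : x⁻¹ = x := inv_of_sq hx2
    change x⁻¹ ∈ _ ∧ _
    rw [this]
    exact ⟨hx1, hx2, hx3⟩

theorem mem_Zc {Λ : Set (Subgroup G)} {z : G} :
    z ∈ Zc Λ ↔ z ∈ sSup Λ ∧ z * z = 1 ∧ ∀ A ∈ Λ, ∀ a ∈ A, z * a = a * z := Iff.rfl

theorem Zc_sq {Λ : Set (Subgroup G)} {z : G} (h : z ∈ Zc Λ) : z * z = 1 := h.2.1

theorem sSup_cjs (g : G) (Λ : Set (Subgroup G)) : sSup (cjs g Λ) = cj g (sSup Λ) := by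
  unfold cjs cj
  rw [sSup_image, sSup_eq_iSup, Subgroup.map_iSup]
  simp_rw [Subgroup.map_iSup]

theorem conj_mem_Zc {Λ : Set (Subgroup G)} {z : G} (g : G) (h : z ∈ Zc Λ) : g * z * g⁻¹ ∈ Zc (cjs g Λ) := by
  obtain ⟨h1, h2, h3⟩ := h
  refine ⟨?_, ?_, ?_⟩
  · rw [sSup_cjs]; exact conj_mem_cj h1
  · calc g * z * g⁻¹ * (g * z * g⁻¹) = g * (z * z) * g⁻¹ := by group
      _ = 1 := by rw [h2]; group
  · rintro _ ⟨A, hA, rfl⟩ a ha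
    rw [mem_cj] at ha
    have := h3 A hA _ ha
    calc g * z * g⁻¹ * a = g * (z * (g⁻¹ * a * g)) * g⁻¹ := by group
      _ = g * ((g⁻¹ * a * g) * z) * g⁻¹ := by rw [this]
      _ = _ := by group

theorem Zc_cjs (g : G) (Λ : Set (Subgroup G)) : Zc (cjs g Λ) = cj g (Zc Λ) := by
  ext x
  rw [mem_cj]
  constructor
  · intro h
    have := conj_mem_Zc g⁻¹ h
    rwa [cjs_inv_cjs, inv_inv] at this
  · intro h
    have := conj_mem_Zc g h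
    have e : g * (g⁻¹ * x * g) * g⁻¹ = x := by group
    rwa [e] at this

theorem cj_Zc {Λ : Set (Subgroup G)} {g : G} (h : g ∈ St Λ) : cj g (Zc Λ) = Zc Λ := by
  rw [← Zc_cjs, mem_St.mp h]

theorem Zc_norm {Λ : Set (Subgroup G)} {g z : G} (h : g ∈ St Λ) (hz : z ∈ Zc Λ) : g * z * g⁻¹ ∈ Zc Λ :=
  conj_mem_of_cj (cj_Zc h) hz

theorem Zc_comm {Λ : Set (Subgroup G)} {z x : G} (hz : z ∈ Zc Λ) (hx : x ∈ sSup Λ) : z * x = x * z :=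
  comm_sup hz.2.2 hx

theorem Zc_comm' {Λ : Set (Subgroup G)} {z z' : G} (hz : z ∈ Zc Λ) (hz' : z' ∈ Zc Λ) : z * z' = z' * z :=
  Zc_comm hz hz'.1

theorem isPGroup_Zc (Λ : Set (Subgroup G)) : IsPGroup 2 (Zc Λ) := isPGroup_of_sq fun _ h => Zc_sq h

theorem Zc_le_Nm (Λ : Set (Subgroup G)) : Zc Λ ≤ Nm Λ := fun _ hz A hA => cj_eq_of_comm (hz.2.2 A hA)

/-- an element which lies in the centre of a member -/
theorem mem_Zc_of_mem {Λ : Set (Subgroup G)}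
    (hcomm : ∀ A ∈ Λ, ∀ B ∈ Λ, A ≠ B → ∀ a ∈ A, ∀ b ∈ B, a * b = b * a) {A : Subgroup G} (hA : A ∈ Λ)
    {z : G} (hz : z ∈ A) (hz2 : z * z = 1) (hzc : ∀ a ∈ A, z * a = a * z) : z ∈ Zc Λ := by
  refine ⟨le_sSup hA hz, hz2, fun B hB b hb => ?_⟩
  by_cases h : A = B
  · subst h; exact hzc b hb
  · exact hcomm A hA B hB h z hz b hb

namespace EFam

variable {𝓒 : Set (Set (Subgroup G))}

/-- `C(u) ≤ H` for `u ∈ U` -/
theorem cen (F : EFam 𝓒) {Λ : Set (Subgroup G)} (hΛ : Λ ∈ 𝓒) {u g : G} (hu : InU Λ u) (hg : u * g = g * u) :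
    g ∈ St Λ := by
  have h1 := hu.conj g
  have h2 : g * u * g⁻¹ = u := by rw [← hg]; group
  rw [h2] at h1
  exact (F.uniq Λ hΛ _ (F.conj g Λ hΛ) u hu h1).symm

/-- a member normalises every member of its class -/
theorem cj_mem (F : EFam 𝓒) {Λ : Set (Subgroup G)} (hΛ : Λ ∈ 𝓒) {A B : Subgroup G} (hA : A ∈ Λ) (hB : B ∈ Λ) {a : G}
    (ha : a ∈ A) : cj a B = B := by
  by_cases h : A = B
  · subst h; exact cj_eq_of_mem ha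
  · exact cj_eq_of_comm (F.comm Λ hΛ A hA B hB h a ha)

theorem mem_le_Nm (F : EFam 𝓒) {Λ : Set (Subgroup G)} (hΛ : Λ ∈ 𝓒) {A : Subgroup G} (hA : A ∈ Λ) : A ≤ Nm Λ :=
  fun _ ha _ hB => F.cj_mem hΛ hA hB ha

theorem mem_le_St (F : EFam 𝓒) {Λ : Set (Subgroup G)} (hΛ : Λ ∈ 𝓒) {A : Subgroup G} (hA : A ∈ Λ) : A ≤ St Λ :=
  (F.mem_le_Nm hΛ hA).trans (Nm_le_St Λ)

theorem exists_mem (F : EFam 𝓒) {Λ : Set (Subgroup G)} (hΛ : Λ ∈ 𝓒) : ∃ A, A ∈ Λ := by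
  obtain ⟨D, hD, -⟩ := F.two Λ hΛ ⊥
  exact ⟨D, hD⟩

/-- an involution in a member is in `U` -/
theorem inU_of_mem (F : EFam 𝓒) {Λ : Set (Subgroup G)} (hΛ : Λ ∈ 𝓒) {A : Subgroup G} (hA : A ∈ Λ) {a : G}
    (ha : a ∈ A) (h2 : a * a = 1) (h1 : a ≠ 1) : InU Λ a := by
  obtain ⟨D, hD, hDA⟩ := F.two Λ hΛ A
  exact ⟨h2, h1, D, hD, F.comm Λ hΛ A hA D hD (Ne.symm hDA) a ha⟩

/-- an involution in `Zc` is in `U` -/
theorem inU_of_Zc (F : EFam 𝓒) {Λ : Set (Subgroup G)} (hΛ : Λ ∈ 𝓒) {a : G} (ha : a ∈ Zc Λ) (h1 : a ≠ 1) : InU Λ a := by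
  obtain ⟨D, hD⟩ := F.exists_mem hΛ
  exact ⟨Zc_sq ha, h1, D, hD, ha.2.2 D hD⟩

/-- no involution is in `U` for two classes -/
theorem not_both (F : EFam 𝓒) {c d : Set (Subgroup G)} (hc : c ∈ 𝓒) (hd : d ∈ 𝓒) (hne : c ≠ d) {u : G}
    (h1 : InU c u) (h2 : InU d u) : False := hne (F.uniq c hc d hd u h1 h2)

theorem inter_inv (F : EFam 𝓒) {Λ Λ' : Set (Subgroup G)} (hΛ : Λ ∈ 𝓒) (hΛ' : Λ' ∈ 𝓒) (hne : Λ ≠ Λ') {A B : Subgroup G}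
    (hA : A ∈ Λ) (hB : B ∈ Λ') {c : G} (ha : c ∈ A) (hb : c ∈ B) (h2 : c * c = 1) : c = 1 := by
  by_contra h1
  exact hne (F.uniq Λ hΛ Λ' hΛ' c (F.inU_of_mem hΛ hA ha h2 h1) (F.inU_of_mem hΛ' hB hb h2 h1))

theorem inter_two (F : EFam 𝓒) {Λ Λ' : Set (Subgroup G)} (hΛ : Λ ∈ 𝓒) (hΛ' : Λ' ∈ 𝓒) (hne : Λ ≠ Λ') {A B T : Subgroup G}
    (hA : A ∈ Λ) (hB : B ∈ Λ') (hT : IsPGroup 2 T) {c : G} (ha : c ∈ A) (hb : c ∈ B) (hc : c ∈ T) : c = 1 := by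
  by_contra h1
  obtain ⟨n, hn2, hn1⟩ := exists_pow_inv hT hc h1
  exact hn1 (F.inter_inv hΛ hΛ' hne hA hB (pow_mem ha n) (pow_mem hb n) hn2)

/-- `Z_c ∩ Z_d = 1` -/
theorem Zc_inter (F : EFam 𝓒) {c d : Set (Subgroup G)} (hc : c ∈ 𝓒) (hd : d ∈ 𝓒) (hne : c ≠ d) {z : G}
    (h1 : z ∈ Zc c) (h2 : z ∈ Zc d) : z = 1 := by
  by_contra h
  exact F.not_both hc hd hne (F.inU_of_Zc hc h1 h) (F.inU_of_Zc hd h2 h)

/-- `Z_c ∩ L = 1` for `L` in another class -/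
theorem Zc_inter_mem (F : EFam 𝓒) {c d : Set (Subgroup G)} (hc : c ∈ 𝓒) (hd : d ∈ 𝓒) (hne : c ≠ d) {L : Subgroup G}
    (hL : L ∈ c) {z : G} (h1 : z ∈ L) (h2 : z ∈ Zc d) : z = 1 := by
  by_contra h
  exact F.not_both hc hd hne (F.inU_of_mem hc hL h1 (Zc_sq h2) h) (F.inU_of_Zc hd h2 h)

theorem exists_Zc (F : EFam 𝓒) {Λ : Set (Subgroup G)} (hΛ : Λ ∈ 𝓒) : ∃ z ∈ Zc Λ, z * z = 1 ∧ z ≠ 1 := by
  obtain ⟨A, hA⟩ := F.exists_mem hΛ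
  obtain ⟨a, ha, ha2, ha1, hac⟩ := F.ec Λ hΛ A hA
  exact ⟨a, mem_Zc_of_mem (F.comm Λ hΛ) hA ha ha2 hac, ha2, ha1⟩

/-- the class of a member is unique -/
theorem class_unique (F : EFam 𝓒) {Λ Λ' : Set (Subgroup G)} (hΛ : Λ ∈ 𝓒) (hΛ' : Λ' ∈ 𝓒) {A : Subgroup G} (hA : A ∈ Λ)
    (hA' : A ∈ Λ') : Λ = Λ' := by
  obtain ⟨a, ha, h2, h1, -⟩ := F.ec Λ hΛ A hA
  exact F.uniq Λ hΛ Λ' hΛ' a (F.inU_of_mem hΛ hA ha h2 h1) (F.inU_of_mem hΛ' hA' ha h2 h1)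

/-- the classes are conjugate -/
theorem trc (F : EFam 𝓒) {Λ Λ' : Set (Subgroup G)} (hΛ : Λ ∈ 𝓒) (hΛ' : Λ' ∈ 𝓒) : ∃ g, cjs g Λ = Λ' := by
  obtain ⟨A, hA⟩ := F.exists_mem hΛ
  obtain ⟨B, hB⟩ := F.exists_mem hΛ'
  obtain ⟨g, hg⟩ := F.tr Λ hΛ Λ' hΛ' A hA B hB
  refine ⟨g, F.class_unique (F.conj g Λ hΛ) hΛ' (A := B) ?_ hB⟩
  rw [← hg]; exact cj_mem_cjs hA

theorem card_Zc (F : EFam 𝓒) {Λ Λ' : Set (Subgroup G)} (hΛ : Λ ∈ 𝓒) (hΛ' : Λ' ∈ 𝓒) :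
    Nat.card (Zc Λ) = Nat.card (Zc Λ') := by
  obtain ⟨g, rfl⟩ := F.trc hΛ hΛ'
  rw [Zc_cjs, card_cj]

/-- an element normalising `Z_c` or a nontrivial element of it to `Z_c` is in `H_c` -/
theorem mem_St_of_Zc (F : EFam 𝓒) {Λ : Set (Subgroup G)} (hΛ : Λ ∈ 𝓒) {g z : G} (hz : z ∈ Zc Λ) (hz1 : z ≠ 1)
    (h : g * z * g⁻¹ ∈ Zc Λ) : g ∈ St Λ := by
  have h1 := conj_mem_Zc g hz
  have hne : g * z * g⁻¹ ≠ 1 := by
    intro h2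
    apply hz1
    calc z = g⁻¹ * (g * z * g⁻¹) * g := by group
      _ = 1 := by rw [h2]; group
  exact F.uniq _ (F.conj g Λ hΛ) Λ hΛ _ (F.inU_of_Zc (F.conj g Λ hΛ) h1 hne) (F.inU_of_Zc hΛ h hne)

/-- an involution of `H_d` fixes an involution of `Z_d` -/
theorem exists_fix [Finite G] (F : EFam 𝓒) {d : Set (Subgroup G)} (hd : d ∈ 𝓒) {v : G} (hv2 : v * v = 1)
    (hv : v ∈ St d) : ∃ e ∈ Zc d, e ≠ 1 ∧ v * e = e * v := by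
  obtain ⟨e, he, he2, he1, hve⟩ := exists_fixed_inv hv2 (cj_Zc hv) (F.exists_Zc hd)
  exact ⟨e, he, he1, hve⟩

end EFam

/-- adjacent classes: `Z_d ∩ H_c ≠ 1` -/
def Ad (c d : Set (Subgroup G)) : Prop := ∃ e ∈ Zc d, e ≠ 1 ∧ e ∈ St c

section
variable {𝓒 : Set (Set (Subgroup G))}

/-- (E0) -/
theorem Ad.of_inU [Finite G] (F : EFam 𝓒) {c d : Set (Subgroup G)} (hc : c ∈ 𝓒) (hd : d ∈ 𝓒) {v : G} (hv : InU c v)
    (hvS : v ∈ St d) : Ad c d := by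
  obtain ⟨e, he, he1, hve⟩ := F.exists_fix hd hv.1 hvS
  exact ⟨e, he, he1, F.cen hc hv hve⟩

theorem Ad.symm [Finite G] (F : EFam 𝓒) {c d : Set (Subgroup G)} (hc : c ∈ 𝓒) (hd : d ∈ 𝓒) (h : Ad c d) : Ad d c := by
  obtain ⟨e, he, he1, heS⟩ := h
  exact Ad.of_inU F hd hc (F.inU_of_Zc hd he he1) heS

/-- `[Z_c ∩ H_d, Z_d ∩ H_c] = 1` -/
theorem zz_comm (F : EFam 𝓒) {c d : Set (Subgroup G)} (hc : c ∈ 𝓒) (hd : d ∈ 𝓒) (hne : c ≠ d) {a b : G}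
    (ha : a ∈ Zc c) (hb : b ∈ Zc d) (haS : a ∈ St d) (hbS : b ∈ St c) : a * b = b * a := by
  have h1 : ⁅a, b⁆ ∈ Zc c := by
    have e : ⁅a, b⁆ = a * (b * a⁻¹ * b⁻¹) := by rw [commutatorElement_def]; group
    rw [e]
    exact mul_mem ha (Zc_norm hbS (inv_mem ha))
  have h2 : ⁅a, b⁆ ∈ Zc d := by
    rw [commutatorElement_def]
    exact mul_mem (Zc_norm haS hb) (inv_mem hb)
  have h3 := F.Zc_inter hc hd hne h1 h2
  rw [commutatorElement_def] at h3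
  calc a * b = (a * b * a⁻¹ * b⁻¹) * (b * a) := by group
    _ = b * a := by rw [h3, one_mul]

/-- for `a ∈ (Z_c ∩ H_d)#`: `C_{Z_d}(a) = Z_d ∩ H_c` -/
theorem mem_St_iff (F : EFam 𝓒) {c d : Set (Subgroup G)} (hc : c ∈ 𝓒) (hd : d ∈ 𝓒) (hne : c ≠ d) {a b : G}
    (ha : a ∈ Zc c) (ha1 : a ≠ 1) (hb : b ∈ Zc d) (haS : a ∈ St d) : b ∈ St c ↔ a * b = b * a :=
  ⟨fun h => zz_comm F hc hd hne ha hb haS h, fun h => F.cen hc (F.inU_of_Zc hc ha ha1) h⟩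

/-- (E1), one inequality -/
theorem card_le_aux [Finite G] (F : EFam 𝓒) {c d : Set (Subgroup G)} (hc : c ∈ 𝓒) (hd : d ∈ 𝓒) (hne : c ≠ d) :
    Nat.card (Zc c ⊓ St d : Subgroup G) ≤ Nat.card (Zc d ⊓ St c : Subgroup G) := by
  by_cases hle : Zc d ≤ St c
  · have h1 : Zc d ⊓ St c = Zc d := inf_eq_left.mpr hle
    rw [h1, ← F.card_Zc hc hd]
    exact Nat.card_le_card_of_injective _ (Subgroup.inclusion_injective inf_le_left)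
  -- an element of `Z_d - B` normalising `B A`
  have hpg : IsPGroup 2 (Zc c ⊓ St d : Subgroup G) := (isPGroup_Zc c).to_le inf_le_left
  have hn : ∀ a ∈ Zc c ⊓ St d, cj a (Zc d) = Zc d := fun a ha => cj_Zc (Subgroup.mem_inf.mp ha).2
  have hT := isPGroup_mulSub (h := hn) (isPGroup_Zc d) hpg
  have hBA : ∀ a ∈ Zc c ⊓ St d, cj a (Zc d ⊓ St c) = Zc d ⊓ St c := by
    intro a ha
    rw [Subgroup.mem_inf] at ha
    refine cj_eq_of_comm fun b hb => ?_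
    rw [Subgroup.mem_inf] at hb
    exact zz_comm F hc hd hne ha.1 hb.1 ha.2 hb.2
  obtain ⟨t, ⟨s, hs, a, ha, rfl⟩, htn, htc⟩ := exists_norm (T := mulSub (Zc d) (Zc c ⊓ St d) hn) hT
    (M := mulSub (Zc d ⊓ St c) (Zc c ⊓ St d) hBA)
    (mulSub_le (inf_le_left.trans le_mulSub_left) le_mulSub_right) (by
      intro h1
      apply hle
      intro b hb
      obtain ⟨x, hx, y, hy, hxy⟩ := h1 (le_mulSub_left hb)
      rw [Subgroup.mem_inf] at hx hy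
      have h2 : y ∈ Zc d := by
        have : y = x⁻¹ * b := by rw [hxy]; group
        rw [this]
        exact mul_mem (inv_mem hx.1) hb
      have h3 := F.Zc_inter hc hd hne hy.1 h2
      rw [hxy, h3, mul_one]
      exact hx.2)
  have hsn : s ∉ St c := by
    intro h1
    exact htn ⟨s, Subgroup.mem_inf.mpr ⟨hs, h1⟩, a, ha, rfl⟩
  have hsc : cj s (mulSub (Zc d ⊓ St c) (Zc c ⊓ St d) hBA) = mulSub (Zc d ⊓ St c) (Zc c ⊓ St d) hBA := by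
    have h1 : s = s * a * a⁻¹ := by group
    rw [h1]
    refine cj_mul_eq htc (cj_eq_of_mem (inv_mem ?_))
    exact le_mulSub_right ha
  -- the map `a ↦ [a, s]`
  have hmem : ∀ a ∈ Zc c ⊓ St d, a * s * a⁻¹ * s⁻¹ ∈ Zc d ⊓ St c := by
    intro a ha
    have ha' := Subgroup.mem_inf.mp ha
    have h1 : a * s * a⁻¹ * s⁻¹ ∈ Zc d := mul_mem (Zc_norm ha'.2 hs) (inv_mem hs)
    have h2 : s * a⁻¹ * s⁻¹ ∈ mulSub (Zc d ⊓ St c) (Zc c ⊓ St d) hBA :=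
      conj_mem_of_cj hsc (le_mulSub_right (inv_mem ha))
    obtain ⟨x, hx, y, hy, hxy⟩ := h2
    rw [Subgroup.mem_inf] at hx hy
    have h3 : a * s * a⁻¹ * s⁻¹ = a * x * y := by
      calc a * s * a⁻¹ * s⁻¹ = a * (s * a⁻¹ * s⁻¹) := by group
        _ = a * x * y := by rw [hxy]; group
    have h4 : a * x = x * a := zz_comm F hc hd hne ha'.1 hx.1 ha'.2 hx.2
    have h5 : a * y ∈ Zc d := by
      have : a * y = x⁻¹ * (a * s * a⁻¹ * s⁻¹) := by rw [h3, h4]; group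
      rw [this]
      exact mul_mem (inv_mem hx.1) h1
    have h6 := F.Zc_inter hc hd hne (mul_mem ha'.1 hy.1) h5
    rw [h3, h4, mul_assoc, h6, mul_one]
    exact Subgroup.mem_inf.mpr hx
  let f : (Zc c ⊓ St d : Subgroup G) →  (Zc d ⊓ St c : Subgroup G) := fun a => ⟨a * s * (a : G)⁻¹ * s⁻¹, hmem a a.2⟩
  refine Nat.card_le_card_of_injective f ?_
  intro a a' haa
  have h1 : (a : G) * s * (a : G)⁻¹ * s⁻¹ = a' * s * (a' : G)⁻¹ * s⁻¹ := congrArg Subtype.val haa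
  by_contra hne'
  have h2 : ((a' : G)⁻¹ * a) * s = s * ((a' : G)⁻¹ * a) := by
    calc ((a' : G)⁻¹ * a) * s = (a' : G)⁻¹ * (a * s * (a : G)⁻¹ * s⁻¹) * s * a := by group
      _ = (a' : G)⁻¹ * (a' * s * (a' : G)⁻¹ * s⁻¹) * s * a := by rw [h1]
      _ = _ := by group
  have h3 : (a' : G)⁻¹ * a ∈ Zc c := mul_mem (inv_mem (Subgroup.mem_inf.mp a'.2).1) (Subgroup.mem_inf.mp a.2).1
  refine hsn (F.cen hc (F.inU_of_Zc hc h3 ?_) h2)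
  intro h4
  apply hne'
  exact Subtype.ext (inv_mul_eq_one.mp h4).symm

/-- **(E1)** -/
theorem card_eq [Finite G] (F : EFam 𝓒) {c d : Set (Subgroup G)} (hc : c ∈ 𝓒) (hd : d ∈ 𝓒) (hne : c ≠ d) :
    Nat.card (Zc c ⊓ St d : Subgroup G) = Nat.card (Zc d ⊓ St c : Subgroup G) :=
  le_antisymm (card_le_aux F hc hd hne) (card_le_aux F hd hc (Ne.symm hne))

end

end Cfsg.Agent.OddHalf.D3.EvDefs
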