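import Cfsg.Agent.OddHalf.D3.Bridge

/-!
# ODD D3(b): the node
-/

set_option autoImplicit false

namespace Cfsg.Agent.OddHalf.D3b.Final

open Cfsg Cfsg.Agent.OddHalf.Iface Cfsg.Agent.OddHalf.D3b.OddCase Cfsg.Agent.OddHalf.D3b.Bridge
open scoped commutatorElement

universe u

/-- **D3(b)**, from: the Schreier property of the known groups, the odd order theorem, the impossibility of (B2), the
even case and S1173. -/
theorem d3b_of (hSch : Cfsg.Agent.Schreier.Cases.SchFor.{u} @IsKnownSimple')
    (hFT : ∀ (G : Type u) [Group G] [Finite G], D3.FT G) (hBB : ∀ (G : Type u) [Group G] [Finite G], BB G)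
    (hE : ∀ (G : Type u) [Group G], Ctx G → EvenSep G)
    (h1173 : ∀ (G : Type u) [Group G] [Finite G], D3.EndCent.P1173 G) : Iface.D3b.{u} := by
  intro G _ C K hK hr g hne hcomm
  have hfin := C.fin
  rcases center_cases C.bal hK.toTerm0 with hz | hz
  · exact odd_false C hSch (hFT G) (hBB G) hK.toTerm0 hr hz hne hcomm
  · exact even_false C (h1173 G) (hE G C) hK.toTerm0 hr hz hne hcomm

end Cfsg.Agent.OddHalf.D3b.Final
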