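import Cfsg.Agent.OddHalf.D3.Final
import Cfsg.Agent.OddHalf.D3.BTwo.Final

/-!
# ODD D3(b): the node, with the case (B2) discharged
-/

set_option autoImplicit false

namespace Cfsg.Agent.OddHalf.D3b.FinalBB

open Cfsg Cfsg.Agent.OddHalf.Iface Cfsg.Agent.OddHalf.D3b.OddCase Cfsg.Agent.OddHalf.D3b.Bridge

universe u

/-- (B2), from Gorenstein-Walter -/
theorem bb_of (hgw : D3.BTwo.GW.{u}) (G : Type u) [Group G] [Finite G] : BB G :=
  fun _ _ F C => D3.BTwo.bb_false hgw F C

/-- **D3(b)**, from: the Schreier property of the known groups, the odd order theorem, Gorenstein-Walter, the even case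
and S1173. -/
theorem d3b_of (hSch : Cfsg.Agent.Schreier.Cases.SchFor.{u} @IsKnownSimple')
    (hFT : ∀ (G : Type u) [Group G] [Finite G], D3.FT G) (hgw : D3.BTwo.GW.{u})
    (hE : ∀ (G : Type u) [Group G], Ctx G → EvenSep G)
    (h1173 : ∀ (G : Type u) [Group G] [Finite G], D3.EndCent.P1173 G) : Iface.D3b.{u} :=
  Final.d3b_of hSch hFT (bb_of hgw) hE h1173

end Cfsg.Agent.OddHalf.D3b.FinalBB
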