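import Cfsg.Agent.OddHalf.D3.Inst
import Cfsg.Agent.OddHalf.Iface

/-!
# The frame of a terminal component (relative to the odd order theorem); see also `D3/Plug.lean`
-/

set_option autoImplicit false
set_option linter.style.haveILetI false

namespace Cfsg.Agent.OddHalf.D3

open Subgroup Cfsg Cfsg.Agent.SignalizersComponents

universe u

/-- `O(C(t)) = 1` for all involutions gives `L_{2'}(C(t)) = E(C(t))`. -/
theorem bl_of_core {G : Type*} [Group G] [Finite G] (hFT : FT G)
    (h : ∀ t : G, orderOf t = 2 → centralizerPPrimeCore 2 t = ⊥) : BL G := by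
  haveI : Fact (Nat.Prime 2) := ⟨Nat.prime_two⟩
  intro y hy
  have h0 : pPrimeCore 2 ↥(centralizer ({y} : Set G)) = ⊥ := by
    have h1 := h y hy
    unfold centralizerPPrimeCore at h1
    rwa [Subgroup.map_eq_bot_iff_of_injective _ (Subgroup.subtype_injective _)] at h1
  apply le_antisymm
  · apply sSup_le
    intro J hJ
    have h1 : ⁅J, pPrimeCore 2 ↥(centralizer ({y} : Set G))⁆ = ⊥ := by
      rw [h0, Subgroup.commutator_bot_right]
    exact Components.component_le_layer
      (ClassificationK.PCompTransport.isComponent_of_isPComponent 2 hJ h1)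
  · rw [Components.layer_le_iff]
    intro K hK
    exact le_sSup (EvenComponent.isPComponent_of_isComponent hK (hFT.even' hK.2))

theorem compOf_iff {G : Type u} [Group G] {t : G} {K : Subgroup G} : Iface.CompOf t K ↔ Comp t K :=
  ⟨fun h => ⟨h.1, h.2⟩, fun h => ⟨h.le, h.comp⟩⟩

/-- The frame of a terminal component. -/
theorem frame_of_term {G : Type u} [Group G] [Finite G] (hFT : FT G) {K : Subgroup G}
    (h : Iface.Term0 G K) : Frame K := by
  obtain ⟨x, hx, hxK⟩ := h.comp
  have hq := (compOf_iff.mp hxK).quasi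
  exact ⟨hq, hFT.even hq, fun y hy hyK => compOf_iff.mp (h.term y hy hyK)⟩

end Cfsg.Agent.OddHalf.D3
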