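import Cfsg.Agent.OddHalf.D3.ThreeFam
import Cfsg.Agent.Lib.ComponentSolvable
import Cfsg.Agent.Schreier.Basic

/-!
# ODD D3 (b), `n = 2`: an involution of `L` never swaps `M` and `M'`

Text of helper380 (bb ODD 9002), in a form which also covers even centres: `L` quasisimple with the Schreier property,
`e ∈ L` a noncentral involution, `M` conjugate to `L`, `M` and `e M e⁻¹` commute and are different. If the subgroup `H`
contains the centralizers of `e` and of all involutions centralising `L`, and perfect subgroups of `H` normalise `L`,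
then this is impossible: the diagonal `D = {d d^e : d ∈ M}` is perfect and centralises `e`, so it acts on `L` by inner
automorphisms centralising `e`, hence trivially; all noncentral involutions of `M` lie in `H`, so `M ≤ H`; `M`
normalises `L`, whence `M ^ e ≤ L`.
-/

set_option autoImplicit false

namespace Cfsg.Agent.OddHalf.D3.Swap

open Cfsg Cfsg.Agent.OddHalf.D3.ThreeDefs Cfsg.Agent.OddHalf.D3.ThreeFam
open Cfsg.Agent.Schreier.Basic (Sch)
open scoped commutatorElement

universe u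

variable {G : Type u} [Group G]

/-- `d ↦ d (e d e⁻¹)` -/
def diag {M : Subgroup G} {e : G} (hcomm : ∀ a ∈ M, ∀ b ∈ cj e M, a * b = b * a) : M →* G where
  toFun d := d * (e * d * e⁻¹)
  map_one' := by simp
  map_mul' := by
    intro a b
    have h := hcomm b.1 b.2 (e * a * e⁻¹) (conj_mem_cj a.2)
    calc ((a * b : M) : G) * (e * ((a * b : M) : G) * e⁻¹)
        = a * ((b : G) * (e * a * e⁻¹)) * (e * b * e⁻¹) := by push_cast; group
      _ = a * ((e * a * e⁻¹) * b) * (e * b * e⁻¹) := by rw [h]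
      _ = _ := by group

theorem diag_apply {M : Subgroup G} {e : G} (hcomm : ∀ a ∈ M, ∀ b ∈ cj e M, a * b = b * a) (d : M) :
    diag hcomm d = (d : G) * (e * d * e⁻¹) := rfl

theorem diag_comm {M : Subgroup G} {e : G} (hcomm : ∀ a ∈ M, ∀ b ∈ cj e M, a * b = b * a) (he2 : e * e = 1)
    (d : M) : diag hcomm d * e = e * diag hcomm d := by
  have hinv : e⁻¹ = e := inv_eq_of_mul_eq_one_right he2
  have h := hcomm d.1 d.2 (e * d * e⁻¹) (conj_mem_cj d.2)
  rw [diag_apply]
  calc (d : G) * (e * d * e⁻¹) * e = (e * d * e⁻¹) * d * e := by rw [h]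
    _ = e * (d * (e⁻¹ * d * e)) := by group
    _ = e * (d * (e * d * e⁻¹)) := by rw [hinv]

theorem perfect_cj {g : G} {K : Subgroup G} (h : ⁅K, K⁆ = K) : ⁅cj g K, cj g K⁆ = cj g K := by
  unfold cj
  rw [← Subgroup.map_commutator, h]

section
variable [Finite G] {H L M : Subgroup G} {e : G}

/-- The main lemma. -/
theorem false_of_swap
    (hq : IsQuasisimple L) (hS : Sch L)
    (he : e ∈ L) (he2 : e * e = 1) (hez : ∃ a ∈ L, e * a ≠ a * e)
    (hperf : ∀ P : Subgroup G, P ≤ H → ⁅P, P⁆ = P → ∀ x ∈ P, cj x L = L)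
    (hCL : ∀ y : G, y * y = 1 → y ≠ 1 → (∀ a ∈ L, y * a = a * y) → ∀ g : G, g * y = y * g → g ∈ H)
    (hCe : ∀ g : G, g * e = e * g → g ∈ H)
    (hM : ∃ g : G, cj g L = M) (hcomm : ∀ a ∈ M, ∀ b ∈ cj e M, a * b = b * a) (hne : cj e M ≠ M) : False := by
  have heinv : e⁻¹ = e := inv_eq_of_mul_eq_one_right he2
  have heH : e ∈ H := hCe e rfl
  have hLL : ⁅L, L⁆ = L := Subgroup.isPerfect_iff.mp hq.1
  obtain ⟨g, hg⟩ := hM
  have hMM : ⁅M, M⁆ = M := by rw [← hg]; exact perfect_cj hLL
  have hcardM : Nat.card M = Nat.card L := by rw [← hg]; exact card_cj g L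
  let φ : L ≃* M := (L.equivMapOfInjective _ (MulAut.conj g).injective).trans (MulEquiv.subgroupCongr hg)
  have hφ : ∀ x : L, ((φ x : M) : G) = g * x * g⁻¹ := fun x => rfl
  have hqM : IsQuasisimple M := by
    obtain ⟨h1, h2⟩ := hq
    refine ⟨?_, ?_⟩
    · exact Subgroup.isPerfect_iff.mpr hMM
    · have hc : (Subgroup.center L).map φ.toMonoidHom = Subgroup.center M := by
        ext y
        rw [Subgroup.mem_map]
        constructor
        · rintro ⟨x, hx, rfl⟩
          rw [Subgroup.mem_center_iff] at hx ⊢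
          intro z
          have := congrArg φ (hx (φ.symm z))
          simpa using this
        · intro hy
          refine ⟨φ.symm y, ?_, by simp⟩
          rw [Subgroup.mem_center_iff] at hy ⊢
          intro z
          apply φ.injective
          have := hy (φ z)
          simpa using this
      have e1 : L ⧸ Subgroup.center L ≃* M ⧸ Subgroup.center M := QuotientGroup.congr _ _ φ hc
      exact (MulEquiv.isSimpleGroup_congr e1).mp h2
  -- the diagonal
  set f := diag hcomm with hf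
  have hfC : ∀ d, f d * e = e * f d := diag_comm hcomm he2
  have hfH : ∀ d, f d ∈ H := fun d => hCe _ (hfC d)
  have hfM : ∀ d : M, ∀ x ∈ L, f d * x * (f d)⁻¹ ∈ L := by
    intro d x hx
    have h1 : cj (f d) L = L := by
      refine hperf f.range ?_ ?_ (f d) ⟨d, rfl⟩
      · rintro _ ⟨d, rfl⟩; exact hfH d
      · have h2 : ⁅(⊤ : Subgroup M), (⊤ : Subgroup M)⁆ = ⊤ := by
          have := hqM.1
          exact Group.IsPerfect.commutator_eq_top
        rw [MonoidHom.range_eq_map, ← Subgroup.map_commutator, h2]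
    exact conj_mem_of_cj h1 hx
  have hfN : ∀ d : M, f d ∈ Subgroup.normalizer (L : Set G) := by
    intro d
    rw [Subgroup.mem_normalizer_iff]
    intro x
    refine ⟨fun hx => hfM d x hx, fun hx => ?_⟩
    have h1 := hfM d⁻¹ _ hx
    rw [map_inv] at h1
    have h2 : (f d)⁻¹ * (f d * x * (f d)⁻¹) * ((f d)⁻¹)⁻¹ = x := by group
    rwa [h2] at h1
  let ψ : M →* MulAut L := (L.normalizerMonoidHom).comp (f.codRestrict _ hfN)
  have hψ : ∀ (d : M) (x : L), ((ψ d x : L) : G) = f d * x * (f d)⁻¹ := fun d x => rfl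
  have hψC : ψ.range ≤ (MulAut.conj : L →* MulAut L).range := by
    apply hS
    have h2 : ⁅(⊤ : Subgroup M), (⊤ : Subgroup M)⁆ = ⊤ := by
      have := hqM.1
      exact Group.IsPerfect.commutator_eq_top
    rw [MonoidHom.range_eq_map, ← Subgroup.map_commutator, h2]
  have hkerconj : (MulAut.conj : L →* MulAut L).ker = Subgroup.center L := by
    ext x
    rw [MonoidHom.mem_ker, Subgroup.mem_center_iff, MulEquiv.ext_iff]
    constructor
    · intro h y
      have := h y
      rw [MulAut.conj_apply, MulAut.one_apply, mul_inv_eq_iff_eq_mul] at this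
      exact this.symm
    · intro h y
      rw [MulAut.conj_apply, MulAut.one_apply, mul_inv_eq_iff_eq_mul]
      exact (h y).symm
  -- the diagonal centralises `L`
  have hker : ∀ d : M, ∀ x ∈ L, f d * x = x * f d := by
    rcases Lib.ComponentSolvable.quasisimple_normal_cases hqM (N := ψ.ker) inferInstance with h | h
    · intro d x hx
      have h1 : d ∈ ψ.ker := by rw [h]; trivial
      rw [MonoidHom.mem_ker] at h1
      have h2 : ((ψ d ⟨x, hx⟩ : L) : G) = x := by rw [h1]; rfl
      rw [hψ] at h2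
      exact mul_inv_eq_iff_eq_mul.mp h2
    · exfalso
      have h1 : Nat.card ψ.ker * Nat.card ψ.range = Nat.card M := by
        rw [← Subgroup.index_ker]; exact Subgroup.card_mul_index _
      have h2 : Nat.card (Subgroup.center L) * Nat.card (MulAut.conj : L →* MulAut L).range = Nat.card L := by
        rw [← Subgroup.index_ker, ← hkerconj]; exact Subgroup.card_mul_index _
      have h3 : Nat.card ψ.ker ≤ Nat.card (Subgroup.center L) := by
        have h4 : Nat.card (Subgroup.center M) = Nat.card (Subgroup.center L) :=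
          (Nat.card_congr (Subgroup.centerCongr φ).toEquiv).symm
        rw [← h4]
        exact Nat.card_le_card_of_injective _ (Subgroup.inclusion_injective h)
      have h5 : ψ.range = (MulAut.conj : L →* MulAut L).range := by
        refine Subgroup.eq_of_le_of_card_ge hψC ?_
        have h6 : Nat.card (Subgroup.center L) * Nat.card (MulAut.conj : L →* MulAut L).range ≤
            Nat.card (Subgroup.center L) * Nat.card ψ.range := by
          rw [h2, ← hcardM, ← h1]
          exact Nat.mul_le_mul_right _ h3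
        exact Nat.le_of_mul_le_mul_left h6 Nat.card_pos
      obtain ⟨a, ha, hea⟩ := hez
      have h6 : MulAut.conj (⟨a, ha⟩ : L) ∈ ψ.range := by rw [h5]; exact ⟨_, rfl⟩
      obtain ⟨d, hd⟩ := h6
      apply hea
      have h7 : ((ψ d ⟨e, he⟩ : L) : G) = ((MulAut.conj (⟨a, ha⟩ : L) ⟨e, he⟩ : L) : G) := by rw [hd]
      rw [hψ] at h7
      have h8 : f d * e * (f d)⁻¹ = e := by rw [hfC]; group
      have h9 : f d * e * (f d)⁻¹ = a * e * a⁻¹ := h7
      rw [h8] at h9
      exact eq_mul_inv_iff_mul_eq.mp h9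
  -- noncentral involutions of `M` are in `H`
  have hinvH : ∀ d ∈ M, d * d = 1 → (∃ b ∈ M, d * b ≠ b * d) → d ∈ H := by
    intro d hd hd2 ⟨b, hb, hdb⟩
    have h1 : f ⟨d, hd⟩ = d * (e * d * e⁻¹) := rfl
    have h3 := hcomm d hd (e * d * e⁻¹) (conj_mem_cj hd)
    refine hCL (f ⟨d, hd⟩) ?_ ?_ (hker ⟨d, hd⟩) d ?_
    · rw [← map_mul]
      have : (⟨d, hd⟩ : M) * ⟨d, hd⟩ = 1 := Subtype.ext hd2
      rw [this, map_one]
    · intro h2
      rw [h1] at h2
      apply hdb
      have h4 : e * d * e⁻¹ = d⁻¹ := (inv_eq_of_mul_eq_one_right h2).symm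
      have h5 : d⁻¹ = d := inv_eq_of_mul_eq_one_right hd2
      rw [h5] at h4
      have h6 := hcomm b hb (e * d * e⁻¹) (conj_mem_cj hd)
      rw [h4] at h6
      exact h6.symm
    · rw [h1]
      calc d * (d * (e * d * e⁻¹)) = d * ((e * d * e⁻¹) * d) := by rw [h3]
        _ = _ := by group
  have hMH : M ≤ H := by
    let N : Subgroup M := Subgroup.closure {d : M | d * d = 1 ∧ ∃ b : M, d * b ≠ b * d}
    have hN : N.Normal := by
      refine ⟨fun n hn g => ?_⟩
      have h0 : N.map (MulAut.conj g).toMonoidHom ≤ N := by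
        rw [MonoidHom.map_closure, Subgroup.closure_le]
        rintro _ ⟨d, ⟨h1, b, h2⟩, rfl⟩
        apply Subgroup.subset_closure
        change g * d * g⁻¹ * (g * d * g⁻¹) = 1 ∧ ∃ b : M, g * d * g⁻¹ * b ≠ b * (g * d * g⁻¹)
        refine ⟨?_, g * b * g⁻¹, fun h3 => h2 ?_⟩
        · calc g * d * g⁻¹ * (g * d * g⁻¹) = g * (d * d) * g⁻¹ := by group
            _ = 1 := by rw [h1]; group
        · calc d * b = g⁻¹ * (g * d * g⁻¹ * (g * b * g⁻¹)) * g := by group
            _ = g⁻¹ * (g * b * g⁻¹ * (g * d * g⁻¹)) * g := by rw [h3]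
            _ = b * d := by group
      exact h0 ⟨n, hn, rfl⟩
    have hNH : N.map M.subtype ≤ H := by
      rw [MonoidHom.map_closure, Subgroup.closure_le]
      rintro _ ⟨d, ⟨h1, b, h2⟩, rfl⟩
      exact hinvH d d.2 (congrArg Subtype.val h1) ⟨b, b.2, fun h => h2 (Subtype.ext h)⟩
    rcases Lib.ComponentSolvable.quasisimple_normal_cases hqM (N := N) hN with h | h
    · intro m hm
      apply hNH
      exact ⟨⟨m, hm⟩, by rw [h]; trivial, rfl⟩
    · exfalso
      obtain ⟨a, ha, hea⟩ := hez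
      have h1 : φ ⟨e, he⟩ ∈ N := by
        apply Subgroup.subset_closure
        refine ⟨?_, φ ⟨a, ha⟩, ?_⟩
        · rw [← map_mul]
          have : (⟨e, he⟩ : L) * ⟨e, he⟩ = 1 := Subtype.ext he2
          rw [this, map_one]
        · intro h2
          rw [← map_mul, ← map_mul] at h2
          exact hea (congrArg Subtype.val (φ.injective h2))
      have h2 := h h1
      rw [Subgroup.mem_center_iff] at h2
      have h3 := h2 (φ ⟨a, ha⟩)
      rw [← map_mul, ← map_mul] at h3
      exact hea (congrArg Subtype.val (φ.injective h3)).symm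
  have hML : ∀ m ∈ M, cj m L = L := hperf M hMH hMM
  have hu : ∀ l ∈ M, l⁻¹ * (e * l * e⁻¹) ∈ L := by
    intro l hl
    have h1 := conj_mem_of_cj (hML l⁻¹ (inv_mem hl)) he
    have h2 : l⁻¹ * (e * l * e⁻¹) = (l⁻¹ * e * (l⁻¹)⁻¹) * e⁻¹ := by group
    rw [h2]
    exact mul_mem h1 (inv_mem he)
  have hcom : ∀ l ∈ M, ∀ m ∈ M, e * ⁅l⁻¹, m⁻¹⁆ * e⁻¹ ∈ L := by
    intro l hl m hm
    have h1 := hu l hl
    have h2 := hu m hm
    have h3 := hu (m * l) (mul_mem hm hl)
    have h4 := mul_mem (inv_mem h3) (mul_mem h1 h2)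
    have h5 := hcomm m⁻¹ (inv_mem hm) (e * l * e⁻¹) (conj_mem_cj hl)
    have h6 : l⁻¹ * (e * l * e⁻¹) * (m⁻¹ * (e * m * e⁻¹)) = (m * l)⁻¹ * (e * (l * m) * e⁻¹) := by
      calc l⁻¹ * (e * l * e⁻¹) * (m⁻¹ * (e * m * e⁻¹)) = l⁻¹ * ((e * l * e⁻¹) * m⁻¹) * (e * m * e⁻¹) := by group
        _ = l⁻¹ * (m⁻¹ * (e * l * e⁻¹)) * (e * m * e⁻¹) := by rw [h5]
        _ = _ := by group
    rw [h6] at h4
    have h7 : ((m * l)⁻¹ * (e * (m * l) * e⁻¹))⁻¹ * ((m * l)⁻¹ * (e * (l * m) * e⁻¹)) = e * ⁅l⁻¹, m⁻¹⁆ * e⁻¹ := by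
      rw [commutatorElement_def]; group
    rwa [h7] at h4
  have hle : cj e M ≤ L := by
    have h1 : M ≤ cj e⁻¹ L := by
      rw [← hMM, Subgroup.commutator_le]
      intro l hl m hm
      rw [mem_cj]
      have := hcom l⁻¹ (inv_mem hl) m⁻¹ (inv_mem hm)
      rw [inv_inv, inv_inv] at this
      rwa [inv_inv]
    have h2 := cj_mono (g := e) h1
    rwa [cj_cj_inv] at h2
  have heq : cj e M = L := by
    refine Subgroup.eq_of_le_of_card_ge hle ?_
    rw [card_cj, hcardM]
  apply hne
  have h1 : e ∈ cj e M := by rw [heq]; exact he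
  rw [mem_cj] at h1
  have h2 : e ∈ M := by
    have : e⁻¹ * e * e = e := by group
    rwa [this] at h1
  exact cj_eq_of_mem h2

end

/-! ### Classes with at most two members -/

section
variable {𝓒 : Set (Set (Subgroup G))}

/-- every class has at most two members -/
def AtMostTwo (Λ : Set (Subgroup G)) : Prop := ∀ A ∈ Λ, ∀ B ∈ Λ, ∀ C ∈ Λ, A = B ∨ A = C ∨ B = C

theorem cj_mem_of_St {Λ : Set (Subgroup G)} {x : G} (hx : x ∈ St Λ) {A : Subgroup G} (hA : A ∈ Λ) : cj x A ∈ Λ := by
  have h : cj x A ∈ cjs x Λ := cj_mem_cjs hA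
  rwa [mem_St.mp hx] at h

theorem two_cases {Λ : Set (Subgroup G)} (h2 : AtMostTwo Λ) {L M : Subgroup G} (hL : L ∈ Λ) (hM : M ∈ Λ)
    (hne : M ≠ L) {x : G} (hx : x ∈ St Λ) :
    (cj x L = L ∧ cj x M = M) ∨ (cj x L = M ∧ cj x M = L) := by
  have h1 := h2 _ (cj_mem_of_St hx hL) L hL M hM
  have h3 := h2 _ (cj_mem_of_St hx hM) L hL M hM
  rcases h1 with h1 | h1 | h1
  · refine Or.inl ⟨h1, ?_⟩
    rcases h3 with h3 | h3 | h3
    · exact absurd (cj_injective x (h3.trans h1.symm)) hne
    · exact h3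
    · exact absurd h3.symm hne
  · refine Or.inr ⟨h1, ?_⟩
    rcases h3 with h3 | h3 | h3
    · exact h3
    · exact absurd (cj_injective x (h3.trans h1.symm)) hne
    · exact absurd h3.symm hne
  · exact absurd h1.symm hne

/-- perfect subgroups of `St Λ` normalise the members of `Λ` -/
theorem perfect_norm {Λ : Set (Subgroup G)} (h2 : AtMostTwo Λ) {L : Subgroup G} (hL : L ∈ Λ) {P : Subgroup G}
    (hP : P ≤ St Λ) (hPP : ⁅P, P⁆ = P) : ∀ x ∈ P, cj x L = L := by
  by_cases hM : ∃ M ∈ Λ, M ≠ L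
  · obtain ⟨M, hM, hne⟩ := hM
    have key : P ≤ St ({L} : Set (Subgroup G)) := by
      rw [← hPP, Subgroup.commutator_le]
      intro x hx y hy
      rw [mem_St, commutatorElement_def]
      unfold cjs
      rw [Set.image_singleton, Set.singleton_eq_singleton_iff, cj_mul, cj_mul, cj_mul]
      have hx1 := two_cases h2 hL hM hne (hP hx)
      have hx2 := two_cases h2 hL hM hne (hP (inv_mem hx))
      have hy1 := two_cases h2 hL hM hne (hP hy)
      have hy2 := two_cases h2 hL hM hne (hP (inv_mem hy))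
      rcases hy1 with ⟨hy1, hy1'⟩ | ⟨hy1, hy1'⟩
      · have hy3 : cj y⁻¹ L = L := cj_inv_eq hy1
        rw [hy3]
        rcases hx1 with ⟨hx1, hx1'⟩ | ⟨hx1, hx1'⟩
        · rw [cj_inv_eq hx1, hy1, hx1]
        · have : cj x⁻¹ L = M := by
            conv_lhs => rw [← hx1']
            exact cj_inv_cj x M
          rw [this, hy1', hx1']
      · have hy3 : cj y⁻¹ L = M := by
          conv_lhs => rw [← hy1']
          exact cj_inv_cj y M
        rw [hy3]
        rcases hx1 with ⟨hx1, hx1'⟩ | ⟨hx1, hx1'⟩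
        · have : cj x⁻¹ M = M := cj_inv_eq hx1'
          rw [this, hy1', hx1]
        · have : cj x⁻¹ M = L := by
            conv_lhs => rw [← hx1]
            exact cj_inv_cj x L
          rw [this, hy1, hx1']
    intro x hx
    have h := key hx
    rw [mem_St] at h
    unfold cjs at h
    rwa [Set.image_singleton, Set.singleton_eq_singleton_iff] at h
  · push Not at hM
    intro x hx
    exact hM _ (cj_mem_of_St (hP hx) hL)

/-- **The swapping case is dead** (`n = 2`): an involution `e ∈ L` stabilising another class `Λ'` normalises its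
members. -/
theorem norm_of_mem [Finite G] (F : Fam 𝓒) {Λ Λ' : Set (Subgroup G)} (hΛ : Λ ∈ 𝓒) (hΛ' : Λ' ∈ 𝓒)
    (h2 : AtMostTwo Λ) {L : Subgroup G} (hL : L ∈ Λ) (hq : IsQuasisimple L) (hS : Sch L) {e : G} (he : e ∈ L)
    (he2 : e * e = 1) (heS : e ∈ St Λ') {M : Subgroup G} (hM : M ∈ Λ') : cj e M = M := by
  by_contra hne
  have he1 : e ≠ 1 := by
    rintro rfl
    exact hne (cj_one M)
  have heM : cj e M ∈ Λ' := cj_mem_of_St heS hM
  refine false_of_swap (H := St Λ) hq hS he he2 ?_ (fun P hP hPP => perfect_norm h2 hL hP hPP) ?_ ?_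
    (F.tr Λ hΛ Λ' hΛ' L hL M hM) (F.comm Λ' hΛ' M hM (cj e M) heM (Ne.symm hne)) hne
  · by_contra hcon
    push Not at hcon
    exact he1 (F.cent Λ hΛ L hL e he he2 hcon)
  · intro y hy2 hy1 hyL g hg
    exact F.cen hΛ ⟨hy2, hy1, L, hL, hyL⟩ hg.symm
  · intro g hg
    exact F.cen hΛ (F.inU_of_mem hΛ hL he he2 he1) hg.symm

end

end Cfsg.Agent.OddHalf.D3.Swap
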