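import Cfsg.Agent.OddHalf.D3.TwoKey
import Cfsg.Agent.OddHalf.D3.RigidSyl
import Cfsg.Agent.OddHalf.D3.Spread.FullFalse

/-!
# ODD D3 (iii), `n = 2`: the full case (text of helper133, bb ODD 9195, (3))
-/

set_option autoImplicit false

namespace Cfsg.Agent.OddHalf.D3.TwoFull

open Cfsg.Agent.OddHalf.D3.ThreeDefs Cfsg.Agent.OddHalf.D3.ThreeFam Cfsg.Agent.OddHalf.D3.ThreeMain
open Cfsg.Agent.OddHalf.D3.Swap Cfsg.Agent.OddHalf.D3.TwoCfg Cfsg.Agent.OddHalf.D3.TwoNF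
open Cfsg.Agent.OddHalf.D3.TwoKey

universe u

variable {G : Type u} [Group G]

/-! ### Abelian Sylow 2-subgroups -/

/-- Burnside -/
theorem burnside [Finite G] {T X : Subgroup G} (hT : IsSyl T X) (hab : ∀ x ∈ T, ∀ y ∈ T, x * y = y * x) {x g : G}
    (hx : x ∈ T) (hg : g ∈ X) (hgx : g * x * g⁻¹ ∈ T) : ∃ n ∈ X, cj n T = T ∧ n * x * n⁻¹ = g * x * g⁻¹ := by
  set y := g * x * g⁻¹ with hy
  set Cy : Subgroup G := X ⊓ Subgroup.centralizer ({y} : Set G) with hCy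
  have hTC : T ≤ Cy := by
    intro t ht
    refine Subgroup.mem_inf.mpr ⟨hT.1 ht, ?_⟩
    rw [Subgroup.mem_centralizer_singleton_iff]
    exact hab t ht y hgx
  have hS := hT.le (inf_le_left : Cy ≤ X) hTC
  have hgT : cj g T ≤ Cy := by
    intro t ht
    rw [mem_cj] at ht
    refine Subgroup.mem_inf.mpr ⟨?_, ?_⟩
    · have : t = g * (g⁻¹ * t * g) * g⁻¹ := by group
      rw [this]
      exact mul_mem (mul_mem hg (hT.1 ht)) (inv_mem hg)
    · rw [Subgroup.mem_centralizer_singleton_iff, hy]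
      have h1 := hab _ ht x hx
      calc t * (g * x * g⁻¹) = g * ((g⁻¹ * t * g) * x) * g⁻¹ := by group
        _ = g * (x * (g⁻¹ * t * g)) * g⁻¹ := by rw [h1]
        _ = g * x * g⁻¹ * t := by group
  obtain ⟨k, hk, hkT⟩ := hS.2.2 (cj g T) hgT (hT.2.1.map _)
  rw [Subgroup.mem_inf, Subgroup.mem_centralizer_singleton_iff] at hk
  refine ⟨k * g, mul_mem hk.1 hg, ?_, ?_⟩
  · rw [cj_mul]
    refine Subgroup.eq_of_le_of_card_ge hkT ?_
    rw [card_cj, card_cj]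
  · calc k * g * x * (k * g)⁻¹ = k * (g * x * g⁻¹) * k⁻¹ := by group
      _ = k * y * k⁻¹ := by rw [← hy]
      _ = y := by rw [hk.2]; group

/-- an element of `T` with a commuting conjugate is moved by the normaliser of `T` -/
theorem fus [Finite G] {T X : Subgroup G} (hT : IsSyl T X) (hab : ∀ x ∈ T, ∀ y ∈ T, x * y = y * x) {u l : G}
    (hu : u ∈ T) (hl : l ∈ X) (hc : u * (l * u * l⁻¹) = (l * u * l⁻¹) * u) (hne : l * u * l⁻¹ ≠ u) :
    ∃ n ∈ X, cj n T = T ∧ n * u * n⁻¹ ≠ u := by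
  set Cu : Subgroup G := X ⊓ Subgroup.centralizer ({u} : Set G) with hCu
  have hTC : T ≤ Cu := by
    intro t ht
    refine Subgroup.mem_inf.mpr ⟨hT.1 ht, ?_⟩
    rw [Subgroup.mem_centralizer_singleton_iff]
    exact hab t ht u hu
  have hS := hT.le (inf_le_left : Cu ≤ X) hTC
  have hz : cj l (Subgroup.zpowers u) ≤ Cu := by
    have h1 : Subgroup.zpowers (l * u * l⁻¹) ≤ Cu := by
      rw [Subgroup.zpowers_le, Subgroup.mem_inf, Subgroup.mem_centralizer_singleton_iff]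
      exact ⟨mul_mem (mul_mem hl (hT.1 hu)) (inv_mem hl), hc.symm⟩
    refine le_trans ?_ h1
    intro x hx
    rw [mem_cj] at hx
    obtain ⟨k, hk⟩ := Subgroup.mem_zpowers_iff.mp hx
    refine Subgroup.mem_zpowers_iff.mpr ⟨k, ?_⟩
    rw [conj_zpow, hk]
    group
  have hz2 : IsPGroup 2 (cj l (Subgroup.zpowers u)) :=
    (hT.2.1.to_le (by rw [Subgroup.zpowers_le]; exact hu)).map _
  obtain ⟨k, hk, hkT⟩ := hS.2.2 _ hz hz2
  rw [Subgroup.mem_inf, Subgroup.mem_centralizer_singleton_iff] at hk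
  have h1 : (k * l) * u * (k * l)⁻¹ ∈ T := by
    have h2 := hkT (conj_mem_cj (g := k) (conj_mem_cj (g := l) (Subgroup.mem_zpowers u)))
    have e : k * (l * u * l⁻¹) * k⁻¹ = (k * l) * u * (k * l)⁻¹ := by group
    rwa [e] at h2
  obtain ⟨n, hn, hnT, hnu⟩ := burnside hT hab hu (mul_mem hk.1 hl) h1
  refine ⟨n, hn, hnT, ?_⟩
  rw [hnu]
  intro h2
  apply hne
  calc l * u * l⁻¹ = k⁻¹ * ((k * l) * u * (k * l)⁻¹) * k := by group
    _ = k⁻¹ * u * k := by rw [h2]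
    _ = u := by rw [mul_assoc, ← hk.2]; group

/-- **Averaging**: an involution `u` of the abelian Sylow subgroup `T` of `X` is `z` modulo `B` for some `z` fixed by
`N_X(T)`, if `[u, N_X(T)] ≤ B` -/
theorem average [Finite G] {T X B : Subgroup G} (hT : IsSyl T X) (hab : ∀ x ∈ T, ∀ y ∈ T, x * y = y * x)
    {u : G} (hu : u ∈ T) (hu2 : u * u = 1) (hB : ∀ n ∈ X, cj n T = T → u * (n * u * n⁻¹) ∈ B) :
    ∃ z ∈ T, z * z = 1 ∧ (∀ n ∈ X, cj n T = T → n * z * n⁻¹ = z) ∧ u * z ∈ B := by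
  have hp : Fact (Nat.Prime 2) := ⟨Nat.prime_two⟩
  let N : Subgroup G := X ⊓ Nm ({T} : Set (Subgroup G))
  have hN : ∀ n ∈ N, cj n T = T := fun n hn => (Subgroup.mem_inf.mp hn).2 T rfl
  have hN' : ∀ n ∈ X, cj n T = T → n ∈ N := by
    intro n hn hnT
    refine Subgroup.mem_inf.mpr ⟨hn, ?_⟩
    intro A hA
    rw [Set.mem_singleton_iff] at hA
    rw [hA]; exact hnT
  have hTN : T ≤ N := fun t ht => hN' t (hT.1 ht) (cj_eq_of_mem ht)
  let _ : CommGroup T := { (inferInstance : Group T) with mul_comm := fun a b => Subtype.ext (hab a a.2 b b.2) }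
  let act : MulAction N T :=
    { smul := fun q n => ⟨(q : G) * n * (q : G)⁻¹, conj_mem_of_cj (hN q q.2) n.2⟩
      one_smul := fun n => Subtype.ext (by change ((1 : N) : G) * n * ((1 : N) : G)⁻¹ = n; simp)
      mul_smul := fun a b n => Subtype.ext (by
        change ((a * b : N) : G) * n * ((a * b : N) : G)⁻¹ = (a : G) * ((b : G) * n * (b : G)⁻¹) * (a : G)⁻¹
        push_cast; group) }
  have hsm : ∀ (q : N) (n : T), ((q • n : T) : G) = (q : G) * n * (q : G)⁻¹ := fun _ _ => rfl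
  let u' : T := ⟨u, hu⟩
  -- the orbit has odd length
  have hodd : Odd (Nat.card (MulAction.orbit N u')) := by
    have hTs : T.subgroupOf N ≤ MulAction.stabilizer N u' := by
      intro t ht
      rw [MulAction.mem_stabilizer_iff]
      apply Subtype.ext
      have h1 := hab t ht u hu
      rw [hsm]
      change (t : G) * u * (t : G)⁻¹ = u
      rw [h1]; group
    have hSN := hT.le (inf_le_left : N ≤ X) hTN
    have h2 : IsPGroup 2 (T.subgroupOf N) := hT.2.1.of_injective (Subgroup.subgroupOfEquivOfLe hTN).toMonoidHom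
      (Subgroup.subgroupOfEquivOfLe hTN).injective
    obtain ⟨P, hP⟩ := h2.exists_le_sylow
    have hPT : (P : Subgroup N).map N.subtype = T := hSN.eq (Subgroup.map_subtype_le _) (P.2.map _) (by
      intro s hs
      exact ⟨⟨s, hTN hs⟩, hP hs, rfl⟩)
    have hPle : (P : Subgroup N) ≤ MulAction.stabilizer N u' := by
      refine le_trans ?_ hTs
      intro x hx
      have : (x : G) ∈ (P : Subgroup N).map N.subtype := ⟨x, hx, rfl⟩
      rw [hPT] at this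
      exact this
    have h3 : (MulAction.stabilizer N u').index ∣ (P : Subgroup N).index := Subgroup.index_dvd_of_le hPle
    have h4 : ¬ 2 ∣ (P : Subgroup N).index := Sylow.not_dvd_index P
    rw [MulAction.index_stabilizer] at h3
    rw [← Nat.not_even_iff_odd, even_iff_two_dvd]
    intro h5
    apply h4
    refine dvd_trans ?_ h3
    rwa [Nat.card_coe_set_eq] at h5
  let _ : Fintype (MulAction.orbit N u') := Fintype.ofFinite _
  let z : T := ∏ x : MulAction.orbit N u', (x : T)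
  have hsq : ∀ x : MulAction.orbit N u', (x : T) * x = 1 := by
    rintro ⟨_, n, rfl⟩
    apply Subtype.ext
    change ((n • u' : T) : G) * ((n • u' : T) : G) = 1
    rw [hsm]
    calc (n : G) * (u' : G) * (n : G)⁻¹ * ((n : G) * (u' : G) * (n : G)⁻¹) = (n : G) * (u * u) * (n : G)⁻¹ := by
          change (n : G) * u * (n : G)⁻¹ * ((n : G) * u * (n : G)⁻¹) = _
          group
      _ = 1 := by rw [hu2]; group
  refine ⟨z, z.2, ?_, ?_, ?_⟩
  · have h1 : z * z = 1 := by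
      change (∏ x : MulAction.orbit N u', (x : T)) * ∏ x : MulAction.orbit N u', (x : T) = 1
      rw [← Finset.prod_mul_distrib]
      exact Finset.prod_eq_one fun x _ => hsq x
    exact congrArg Subtype.val h1
  · intro n hn hnT
    let n' : N := ⟨n, hN' n hn hnT⟩
    let φ : T →* T := MonoidHom.mk' (fun t => n' • t) (by
      intro a b
      apply Subtype.ext
      change (n' : G) * (a * b : G) * (n' : G)⁻¹ = ((n' : G) * a * (n' : G)⁻¹) * ((n' : G) * b * (n' : G)⁻¹)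
      group)
    have h1 : φ z = z := by
      change φ (∏ x : MulAction.orbit N u', (x : T)) = ∏ x : MulAction.orbit N u', (x : T)
      rw [map_prod]
      exact Fintype.prod_equiv (MulAction.toPerm n' : Equiv.Perm (MulAction.orbit N u')) _ _ (fun x => rfl)
    exact congrArg Subtype.val h1
  · have h1 : ∏ x : MulAction.orbit N u', (u' * (x : T)) ∈ B.subgroupOf T := by
      refine Subgroup.prod_mem _ ?_
      rintro ⟨_, n, rfl⟩ -
      exact hB n (Subgroup.mem_inf.mp n.2).1 (hN n n.2)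
    rw [Finset.prod_mul_distrib, Finset.prod_const, Finset.card_univ, ← Nat.card_eq_fintype_card] at h1
    obtain ⟨m, hm⟩ := hodd
    have h2 : u' ^ Nat.card (MulAction.orbit N u') = u' := by
      rw [hm, pow_succ, pow_mul, pow_two]
      have : u' * u' = 1 := Subtype.ext hu2
      rw [this, one_pow, one_mul]
    rw [h2] at h1
    exact h1

/-- an odd power which is a 2-element -/
theorem exists_odd_pow [Finite G] (x : G) : ∃ m k : ℕ, (x ^ (2 * m + 1)) ^ 2 ^ k = 1 := by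
  obtain ⟨k, m, hm, h⟩ := Nat.exists_eq_two_pow_mul_odd (orderOf_pos x).ne'
  obtain ⟨r, hr⟩ := hm
  refine ⟨r, k, ?_⟩
  rw [← hr, ← pow_mul, mul_comm, ← h, pow_orderOf_eq_one]

/-! ### The full case -/

section
variable {𝓒 : Set (Set (Subgroup G))} {Q : Subgroup G}

/-- all intersections with members are Sylow -/
structure FL (𝓒 : Set (Set (Subgroup G))) (Q : Subgroup G) : Prop extends Cfg 𝓒 Q where
  syl : ∀ c ∈ 𝓒, Q ≤ Nm c → ∀ A ∈ c, IsSyl (Q ⊓ A) A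

/-- `Q ∩ C(M)` is abelian -/
theorem QC_abelian [Finite G] (F : Fam2 𝓒) (C : FL 𝓒 Q) {d : Set (Subgroup G)} (hd : d ∈ 𝓒) (hQd : Q ≤ Nm d)
    {M : Subgroup G} (hM : M ∈ d) : ∀ x ∈ QC Q M, ∀ y ∈ QC Q M, x * y = y * x := by
  obtain ⟨c, hc, hQc, hcd⟩ := C.other d
  obtain ⟨A, hA, -⟩ := F.two c hc ⊥
  obtain ⟨A', hA', hne⟩ := F.two c hc A
  refine RigidSyl.abelian (F.simple c hc A hA) (F.inv c hc A hA) (C.pg.to_le QC_le)
    (fun p hp => hQc (QC_le hp) A hA) (C.syl c hc hQc A hA) ?_ ?_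
  · intro p hp s hs
    exact comm_of_two F.toFam C.pg hd hc (Ne.symm hcd) hQd hQc hM hA' hp (inf_le_QC F.toFam hc hA' hA (Ne.symm hne) hs)
  · intro p hp hpA
    exact eq_one_of_two F.toFam C.pg hd hc (Ne.symm hcd) hM hA hp (mem_QC.mpr ⟨QC_le hp, hpA⟩)

theorem inf_abelian [Finite G] (F : Fam2 𝓒) (C : FL 𝓒 Q) {d : Set (Subgroup G)} (hd : d ∈ 𝓒) (hQd : Q ≤ Nm d)
    {M : Subgroup G} (hM : M ∈ d) : ∀ x ∈ Q ⊓ M, ∀ y ∈ Q ⊓ M, x * y = y * x := by
  obtain ⟨M', hM', hne⟩ := F.two d hd M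
  intro x hx y hy
  exact QC_abelian F C hd hQd hM' x (inf_le_QC F.toFam hd hM' hM (Ne.symm hne) hx) y
    (inf_le_QC F.toFam hd hM' hM (Ne.symm hne) hy)

/-- the situation of two classes `c ≠ d`, `A ∈ c`, `M ∈ d` -/
structure Sit (𝓒 : Set (Set (Subgroup G))) (Q : Subgroup G) (c d : Set (Subgroup G)) (A M : Subgroup G) : Prop where
  hc : c ∈ 𝓒
  hd : d ∈ 𝓒
  hcd : c ≠ d
  hQc : Q ≤ Nm c
  hQd : Q ≤ Nm d
  hA : A ∈ c
  hM : M ∈ d

theorem Sit.symm {c d : Set (Subgroup G)} {A M : Subgroup G} (S : Sit 𝓒 Q c d A M) : Sit 𝓒 Q d c M A :=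
  ⟨S.hd, S.hc, Ne.symm S.hcd, S.hQd, S.hQc, S.hM, S.hA⟩

section sit
variable {c d : Set (Subgroup G)} {A M : Subgroup G} (S : Sit 𝓒 Q c d A M)

include S in
theorem Sit.norm : ∀ w ∈ QC Q M, cj w A = A := fun _ hw => S.hQc (QC_le hw) A S.hA

include S in
theorem Sit.comm (F : Fam2 𝓒) (hQ : IsPGroup 2 Q) : ∀ p ∈ Q ⊓ A, ∀ w ∈ QC Q M, p * w = w * p := by
  intro p hp w hw
  obtain ⟨A', hA', hne⟩ := F.two c S.hc A
  exact comm_of_two F.toFam hQ S.hc S.hd S.hcd S.hQc S.hQd hA' S.hM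
    (inf_le_QC F.toFam S.hc hA' S.hA (Ne.symm hne) hp) hw

/-- the group `A (Q ∩ C(M))` -/
def Sit.X : Subgroup G := mulSub A (QC Q M) S.norm

/-- its Sylow subgroup `(Q ∩ A)(Q ∩ C(M))` -/
def Sit.T (F : Fam2 𝓒) (hQ : IsPGroup 2 Q) : Subgroup G := mulSub (Q ⊓ A) (QC Q M) (comm_cj (S.comm F hQ))

theorem Sit.T_le_Q (F : Fam2 𝓒) (hQ : IsPGroup 2 Q) : S.T F hQ ≤ Q := mulSub_le inf_le_left QC_le

theorem Sit.T_inf (F : Fam2 𝓒) (hQ : IsPGroup 2 Q) {x : G} (hx : x ∈ S.T F hQ) (hxA : x ∈ A) : x ∈ Q ⊓ A :=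
  Subgroup.mem_inf.mpr ⟨S.T_le_Q F hQ hx, hxA⟩

theorem Sit.syl [Finite G] (F : Fam2 𝓒) (C : FL 𝓒 Q) : IsSyl (S.T F C.pg) S.X := by
  have hTX : S.T F C.pg ≤ S.X := mulSub_le (inf_le_right.trans le_mulSub_left) le_mulSub_right
  have hT2 : IsPGroup 2 (S.T F C.pg) := C.pg.to_le (S.T_le_Q F C.pg)
  obtain ⟨T', hT'X, hT', hTT', hcon⟩ := exists_syl hT2 hTX
  have h1 : T' ≤ S.T F C.pg := by
    intro x hx
    obtain ⟨a, ha, p, hp, rfl⟩ := hT'X hx
    have hpT : p ∈ S.T F C.pg := le_mulSub_right hp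
    have haT : a ∈ T' := by
      have : a = a * p * p⁻¹ := by group
      rw [this]
      exact mul_mem hx (inv_mem (hTT' hpT))
    have h2 : T' ⊓ A = Q ⊓ A := (C.syl c S.hc S.hQc A S.hA).eq inf_le_right (hT'.to_le inf_le_left)
      (le_inf (le_mulSub_left.trans hTT') inf_le_right)
    have h3 : a ∈ Q ⊓ A := by
      rw [← h2]; exact Subgroup.mem_inf.mpr ⟨haT, ha⟩
    exact ⟨a, h3, p, hp, rfl⟩
  have h2 : T' = S.T F C.pg := le_antisymm h1 hTT'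
  subst h2
  exact ⟨hT'X, hT', hcon⟩

theorem Sit.abelian [Finite G] (F : Fam2 𝓒) (C : FL 𝓒 Q) :
    ∀ x ∈ S.T F C.pg, ∀ y ∈ S.T F C.pg, x * y = y * x := by
  rintro _ ⟨a, ha, p, hp, rfl⟩ _ ⟨b, hb, q, hq, rfl⟩
  have h1 := S.comm F C.pg a ha q hq
  have h2 := S.comm F C.pg b hb p hp
  have h3 := inf_abelian F C S.hc S.hQc S.hA a ha b hb
  have h4 := QC_abelian F C S.hd S.hQd S.hM p hp q hq
  calc a * p * (b * q) = a * (p * b) * q := by group
    _ = a * (b * p) * q := by rw [h2]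
    _ = (a * b) * (p * q) := by group
    _ = (b * a) * (q * p) := by rw [h3, h4]
    _ = b * (a * q) * p := by group
    _ = b * (q * a) * p := by rw [h1]
    _ = b * q * (a * p) := by group

/-- an element moving `u` -/
theorem Sit.exists_mover [Finite G] (F : Fam2 𝓒) (C : FL 𝓒 Q) {u : G} (hu : u ∈ QC Q M) (hu2 : u * u = 1)
    (hu1 : u ≠ 1) : ∃ l ∈ A, cj l (S.T F C.pg) = S.T F C.pg ∧ l * u * l⁻¹ ≠ u := by
  have huA : ∃ a ∈ A, u * a ≠ a * u := by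
    by_contra hcon
    push Not at hcon
    exact hu1 (eq_one_of_two F.toFam C.pg S.hd S.hc (Ne.symm S.hcd) S.hM S.hA hu (mem_QC.mpr ⟨QC_le hu, hcon⟩))
  obtain ⟨l0, hl0, hne, hcom⟩ := F.zst c S.hc A S.hA u hu2 (S.hQc (QC_le hu) A S.hA) huA
  have huT : u ∈ S.T F C.pg := le_mulSub_right hu
  obtain ⟨n, ⟨a, ha, p, hp, rfl⟩, hnT, hnu⟩ := fus (S.syl F C) (S.abelian F C) huT (le_mulSub_left hl0) hcom hne
  have hpT : p ∈ S.T F C.pg := le_mulSub_right hp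
  refine ⟨a, ha, ?_, ?_⟩
  · have h1 : a = a * p * p⁻¹ := by group
    rw [h1]
    exact cj_mul_eq hnT (cj_eq_of_mem (inv_mem hpT))
  · intro h1
    apply hnu
    have h2 := S.abelian F C p hpT u huT
    calc a * p * u * (a * p)⁻¹ = a * (p * u) * p⁻¹ * a⁻¹ := by group
      _ = a * (u * p) * p⁻¹ * a⁻¹ := by rw [h2]
      _ = a * u * a⁻¹ := by group
      _ = u := h1

/-- an element of `A ∩ Nm d` normalising `T` centralises `Q ∩ C(M)` -/
theorem Sit.cent_of_Nm [Finite G] (F : Fam2 𝓒) (C : FL 𝓒 Q) {x : G} (hx : x ∈ A)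
    (hxT : cj x (S.T F C.pg) = S.T F C.pg) (hxd : x ∈ Nm d) {b : G} (hb : b ∈ QC Q M) : x * b * x⁻¹ = b := by
  have hbT : b ∈ S.T F C.pg := le_mulSub_right hb
  have h1 : x * b * x⁻¹ ∈ Q := S.T_le_Q F C.pg (conj_mem_of_cj hxT hbT)
  have h2 : x * b * x⁻¹ ∈ QC Q M := by
    refine mem_QC.mpr ⟨h1, ?_⟩
    intro m hm
    have h3 : x⁻¹ * m * x ∈ M := by
      have := conj_mem_of_cj (cj_inv_eq (hxd M S.hM)) hm
      rwa [inv_inv] at this
    have h4 := (mem_QC.mp hb).2 _ h3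
    calc x * b * x⁻¹ * m = x * (b * (x⁻¹ * m * x)) * x⁻¹ := by group
      _ = x * ((x⁻¹ * m * x) * b) * x⁻¹ := by rw [h4]
      _ = _ := by group
  have h3 : b⁻¹ * (x * b * x⁻¹) ∈ A := by
    have h4 : b⁻¹ * x * b⁻¹⁻¹ ∈ A := conj_mem_of_cj (S.hQc (inv_mem (QC_le hb)) A S.hA) hx
    have e : b⁻¹ * (x * b * x⁻¹) = b⁻¹ * x * b⁻¹⁻¹ * x⁻¹ := by group
    rw [e]
    exact mul_mem h4 (inv_mem hx)
  have h4 := tri_QC F.toFam C.pg S.hc S.hd S.hcd S.hA S.hM _ (mul_mem (inv_mem hb) h2) h3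
  exact (inv_mul_eq_one.mp h4).symm

/-- 2-elements normalising `T` are in `T` -/
theorem Sit.mem_T [Finite G] (F : Fam2 𝓒) (C : FL 𝓒 Q) {x : G} (hx : x ∈ A)
    (hxT : cj x (S.T F C.pg) = S.T F C.pg) {k : ℕ} (hk : x ^ 2 ^ k = 1) : x ∈ S.T F C.pg := by
  have hz : IsPGroup 2 (Subgroup.zpowers x) := by
    rintro ⟨y, hy⟩
    obtain ⟨m, rfl⟩ := Subgroup.mem_zpowers_iff.mp hy
    refine ⟨k, Subtype.ext ?_⟩
    change (x ^ m) ^ 2 ^ k = 1
    rw [← zpow_natCast, ← zpow_mul, mul_comm, zpow_mul, zpow_natCast, hk, one_zpow]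
  have hn : ∀ w ∈ Subgroup.zpowers x, cj w (S.T F C.pg) = S.T F C.pg := by
    have : Subgroup.zpowers x ≤ Nm ({S.T F C.pg} : Set (Subgroup G)) := by
      rw [Subgroup.zpowers_le]
      intro Y hY
      rw [Set.mem_singleton_iff] at hY
      rw [hY]; exact hxT
    exact fun w hw => this hw _ rfl
  have hS := S.syl F C
  have h1 := hS.eq (mulSub_le hS.1 (by rw [Subgroup.zpowers_le]; exact le_mulSub_left hx))
    (isPGroup_mulSub (h := hn) hS.2.1 hz) le_mulSub_left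
  rw [← h1]
  exact le_mulSub_right (Subgroup.mem_zpowers x)

/-- a mover is not in `St d` -/
theorem Sit.not_St [Finite G] (F : Fam2 𝓒) (C : FL 𝓒 Q) {u l : G} (hu : u ∈ QC Q M) (hl : l ∈ A)
    (hlT : cj l (S.T F C.pg) = S.T F C.pg) (hne : l * u * l⁻¹ ≠ u) : l ∉ St d := by
  intro hSt
  have h2 : Commute (l * l) u := by
    have h3 : l * l ∈ Nm d := by
      by_cases h : l ∈ Nm d
      · exact mul_mem h h
      · exact mul_mem_Nm F S.hd hSt h hSt h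
    have h4 := S.cent_of_Nm F C (mul_mem hl hl) (cj_mul_eq hlT hlT) h3 hu
    exact mul_inv_eq_iff_eq_mul.mp h4
  obtain ⟨m, k, hmk⟩ := exists_odd_pow l
  have hcpow : ∀ n : ℕ, cj (l ^ n) (S.T F C.pg) = S.T F C.pg := by
    intro n
    induction n with
    | zero => rw [pow_zero, cj_one]
    | succ n ih => rw [pow_succ]; exact cj_mul_eq ih hlT
  have h3 : l ^ (2 * m + 1) ∈ S.T F C.pg := S.mem_T F C (pow_mem hl _) (hcpow _) hmk
  have h4 : Commute (l ^ (2 * m + 1)) u := S.abelian F C _ h3 u (le_mulSub_right hu)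
  have h5 : Commute (l ^ (2 * m)) u := by
    rw [pow_mul, pow_two]
    exact h2.pow_left m
  apply hne
  have h6 : l = (l ^ (2 * m))⁻¹ * l ^ (2 * m + 1) := by rw [pow_succ]; group
  have h7 : Commute l u := by
    rw [h6]
    exact h5.inv_left.mul_left h4
  rw [h7.eq]; group

include S in
/-- `|Q ∩ C(M)| ≤ |Q ∩ A|` -/
theorem Sit.card_le [Finite G] (F : Fam2 𝓒) (C : FL 𝓒 Q) :
    Nat.card (QC Q M) ≤ Nat.card (Q ⊓ A : Subgroup G) := by
  by_cases htriv : ∃ u ∈ QC Q M, u ≠ 1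
  · obtain ⟨u0, hu0, hu01⟩ := htriv
    obtain ⟨n, hn2, hn1⟩ := exists_pow_inv C.pg (QC_le hu0) hu01
    obtain ⟨l, hl, hlT, hlu⟩ := S.exists_mover F C (pow_mem hu0 n) hn2 hn1
    have hlSt := S.not_St F C (pow_mem hu0 n) hl hlT hlu
    have hmem : ∀ b ∈ QC Q M, b⁻¹ * (l * b * l⁻¹) ∈ Q ⊓ A := by
      intro b hb
      have hbT : b ∈ S.T F C.pg := le_mulSub_right hb
      refine S.T_inf F C.pg (mul_mem (inv_mem hbT) (conj_mem_of_cj hlT hbT)) ?_
      have h4 : b⁻¹ * l * b⁻¹⁻¹ ∈ A := conj_mem_of_cj (S.hQc (inv_mem (QC_le hb)) A S.hA) hl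
      have e : b⁻¹ * (l * b * l⁻¹) = b⁻¹ * l * b⁻¹⁻¹ * l⁻¹ := by group
      rw [e]
      exact mul_mem h4 (inv_mem hl)
    let φ : QC Q M →* (Q ⊓ A : Subgroup G) := MonoidHom.mk' (fun b => ⟨(b : G)⁻¹ * (l * b * l⁻¹), hmem b b.2⟩) (by
      intro b b'
      apply Subtype.ext
      change ((b : G) * b')⁻¹ * (l * (b * b') * l⁻¹) = (b : G)⁻¹ * (l * b * l⁻¹) * ((b' : G)⁻¹ * (l * b' * l⁻¹))
      have hbT : (b : G) ∈ S.T F C.pg := le_mulSub_right b.2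
      have hbT' : (b' : G) ∈ S.T F C.pg := le_mulSub_right b'.2
      have h1 := S.abelian F C (b' : G)⁻¹ (inv_mem hbT') _ (mul_mem (inv_mem hbT) (conj_mem_of_cj hlT hbT))
      calc ((b : G) * b')⁻¹ * (l * (b * b') * l⁻¹) = (b' : G)⁻¹ * ((b : G)⁻¹ * (l * b * l⁻¹)) * (l * b' * l⁻¹) := by group
        _ = ((b : G)⁻¹ * (l * b * l⁻¹)) * (b' : G)⁻¹ * (l * b' * l⁻¹) := by rw [h1]
        _ = _ := by group)
    refine Nat.card_le_card_of_injective φ ?_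
    rw [injective_iff_map_eq_one]
    intro b hb
    have h1 : (b : G)⁻¹ * (l * b * l⁻¹) = 1 := congrArg Subtype.val hb
    have h2 : l * b * l⁻¹ = b := (inv_mul_eq_one.mp h1).symm
    have h3 : (b : G) ∈ QC Q (cj l M) := by
      refine mem_QC.mpr ⟨QC_le b.2, ?_⟩
      intro m hm
      rw [mem_cj] at hm
      have h4 := (mem_QC.mp b.2).2 _ hm
      rw [← h2]
      calc l * b * l⁻¹ * m = l * (b * (l⁻¹ * m * l)) * l⁻¹ := by group
        _ = l * ((l⁻¹ * m * l) * b) * l⁻¹ := by rw [h4]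
        _ = _ := by group
    exact Subtype.ext (eq_one_of_two F.toFam C.pg S.hd (F.conj l d S.hd) (fun h => hlSt h.symm) S.hM (cj_mem_cjs S.hM)
      b.2 h3)
  · push Not at htriv
    have : QC Q M = ⊥ := by
      rw [eq_bot_iff]
      intro x hx
      rw [Subgroup.mem_bot]
      exact htriv x hx
    rw [this, Subgroup.card_bot]
    exact Nat.card_pos

end sit

/-- **(EQ)**: `Q ∩ C(M) ≤ M'` for `M' ≠ M` -/
theorem QC_le_mem [Finite G] (F : Fam2 𝓒) (C : FL 𝓒 Q) {d : Set (Subgroup G)} (hd : d ∈ 𝓒) (hQd : Q ≤ Nm d)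
    {M M' : Subgroup G} (hM : M ∈ d) (hM' : M' ∈ d) (hne : M' ≠ M) : QC Q M ≤ Q ⊓ M' := by
  obtain ⟨c, hc, hQc, hcd⟩ := C.other d
  obtain ⟨A, hA, -⟩ := F.two c hc ⊥
  obtain ⟨A', hA', hneA⟩ := F.two c hc A
  have h1 := Sit.card_le (⟨hc, hd, hcd, hQc, hQd, hA, hM⟩ : Sit 𝓒 Q c d A M) F C
  have h2 := Sit.card_le (⟨hd, hc, Ne.symm hcd, hQd, hQc, hM', hA'⟩ : Sit 𝓒 Q d c M' A') F C
  have h3 := card_inf_le (Q := Q) F.toFam hc hA hA' hneA
  have h4 : Q ⊓ M' = QC Q M := Subgroup.eq_of_le_of_card_ge (inf_le_QC F.toFam hd hM hM' hne)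
    (h1.trans (h3.trans h2))
  rw [h4]

section sit
variable {c d : Set (Subgroup G)} {A M : Subgroup G} (S : Sit 𝓒 Q c d A M)

include S in
/-- **(inn)** -/
theorem Sit.inn [Finite G] (F : Fam2 𝓒) (C : FL 𝓒 Q) {u : G} (hu : u ∈ QC Q M) (hu2 : u * u = 1) :
    ∃ s ∈ Q ⊓ A, s * s = 1 ∧ s * u ∈ QC Q A := by
  have huT : u ∈ S.T F C.pg := le_mulSub_right hu
  have hSyl := S.syl F C
  have hab := S.abelian F C
  obtain ⟨z, hz, hz2, hzN, huz⟩ := average (B := Q ⊓ A) hSyl hab huT hu2 (by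
    rintro n ⟨a, ha, p, hp, rfl⟩ hnT
    have hpT : p ∈ S.T F C.pg := le_mulSub_right hp
    refine S.T_inf F C.pg (mul_mem huT (conj_mem_of_cj hnT huT)) ?_
    have h1 := hab p hpT u huT
    have h2 : u * a * u⁻¹ ∈ A := conj_mem_of_cj (S.hQc (QC_le hu) A S.hA) ha
    have e : u * (a * p * u * (a * p)⁻¹) = (u * a * u⁻¹) * (u * u) * a⁻¹ := by
      calc u * (a * p * u * (a * p)⁻¹) = u * a * (p * u) * p⁻¹ * a⁻¹ := by group
        _ = u * a * (u * p) * p⁻¹ * a⁻¹ := by rw [h1]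
        _ = _ := by group
    rw [e, hu2, mul_one]
    exact mul_mem h2 (inv_mem ha))
  -- `z` is isolated, so centralises `A`
  have hzA : ∀ a ∈ A, z * a = a * z := by
    by_contra hcon
    push Not at hcon
    obtain ⟨l, hl, hne, hcom⟩ := F.zst c S.hc A S.hA z hz2 (S.hQc (S.T_le_Q F C.pg hz) A S.hA) hcon
    obtain ⟨n, hn, hnT, hnz⟩ := fus hSyl hab hz (le_mulSub_left hl) hcom hne
    exact hnz (hzN n hn hnT)
  have hcomm := hab u huT z hz
  refine ⟨u * z, huz, ?_, ?_⟩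
  · calc u * z * (u * z) = u * (z * u) * z := by group
      _ = u * (u * z) * z := by rw [hcomm]
      _ = (u * u) * (z * z) := by group
      _ = 1 := by rw [hu2, hz2, one_mul]
  · have e : u * z * u = z := by
      rw [hcomm]
      calc z * u * u = z * (u * u) := by group
        _ = z := by rw [hu2, mul_one]
    rw [e]
    exact mem_QC.mpr ⟨S.T_le_Q F C.pg hz, hzA⟩

/-- the involutions of `Q ∩ A`, and 1 -/
abbrev Om (Q A : Subgroup G) := {x : G // x ∈ Q ⊓ A ∧ x * x = 1}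

include S in
theorem Sit.exists_inj [Finite G] (F : Fam2 𝓒) (C : FL 𝓒 Q) :
    ∃ f : Om Q M → Om Q A, Function.Injective f ∧ ∀ u, (f u : G) * u ∈ QC Q A := by
  obtain ⟨M', hM', hne⟩ := F.two d S.hd M
  let S' : Sit 𝓒 Q c d A M' := ⟨S.hc, S.hd, S.hcd, S.hQc, S.hQd, S.hA, hM'⟩
  have hle : Q ⊓ M ≤ QC Q M' := inf_le_QC F.toFam S.hd hM' S.hM (Ne.symm hne)
  have h : ∀ u : Om Q M, ∃ s : Om Q A, (s : G) * u ∈ QC Q A := by
    rintro ⟨u, hu, hu2⟩
    obtain ⟨s, hs, hs2, hsu⟩ := S'.inn F C (hle hu) hu2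
    exact ⟨⟨s, hs, hs2⟩, hsu⟩
  choose f hf using h
  refine ⟨f, ?_, hf⟩
  intro u v huv
  have h1 := hf u
  have h2 := hf v
  rw [huv] at h1
  have h3 : (u : G)⁻¹ * v ∈ QC Q A := by
    have e : (u : G)⁻¹ * v = ((f v : G) * u)⁻¹ * ((f v : G) * v) := by group
    rw [e]
    exact mul_mem (inv_mem h1) h2
  have h4 : (u : G)⁻¹ * v ∈ QC Q M' := mul_mem (inv_mem (hle u.2.1)) (hle v.2.1)
  have h5 := eq_one_of_two F.toFam C.pg S.hc S.hd S.hcd S.hA hM' h3 h4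
  exact Subtype.ext (inv_mul_eq_one.mp h5)

include S in
theorem Sit.surj [Finite G] (F : Fam2 𝓒) (C : FL 𝓒 Q) {a : G} (ha : a ∈ Q ⊓ A) (ha2 : a * a = 1) :
    ∃ u ∈ Q ⊓ M, u * u = 1 ∧ a * u ∈ QC Q A := by
  obtain ⟨f, hf, hfC⟩ := S.exists_inj F C
  obtain ⟨g, hg, -⟩ := S.symm.exists_inj F C
  have h1 : Function.Bijective f := (Nat.bijective_iff_injective_and_card f).mpr
    ⟨hf, le_antisymm (Nat.card_le_card_of_injective f hf) (Nat.card_le_card_of_injective g hg)⟩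
  obtain ⟨u, hu⟩ := h1.2 ⟨a, ha, ha2⟩
  refine ⟨u, u.2.1, u.2.2, ?_⟩
  have := hfC u
  rwa [hu] at this

end sit

/-- **The full case is impossible.** -/
theorem full_impossible [Finite G] (F : Fam2 𝓒) (C : FL 𝓒 Q) : False := by
  obtain ⟨c, hc, d, hd, hcd, hQc, hQd⟩ := C.ex
  obtain ⟨A, hA, -⟩ := F.two c hc ⊥
  obtain ⟨A', hA', hne⟩ := F.two c hc A
  obtain ⟨M, hM, -⟩ := F.two d hd ⊥
  obtain ⟨M', hM', hneM⟩ := F.two d hd M
  have S : Sit 𝓒 Q c d A M := ⟨hc, hd, hcd, hQc, hQd, hA, hM⟩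
  have S1 : Sit 𝓒 Q c d A' M := ⟨hc, hd, hcd, hQc, hQd, hA', hM⟩
  have S2 : Sit 𝓒 Q c d A' M' := ⟨hc, hd, hcd, hQc, hQd, hA', hM'⟩
  have e1 : QC Q A ≤ Q ⊓ A' := QC_le_mem F C hc hQc hA hA' hne
  have e2 : QC Q A' ≤ Q ⊓ A := QC_le_mem F C hc hQc hA' hA (Ne.symm hne)
  obtain ⟨a', ha', ha'Q, ha'2, ha'1⟩ := C.inv c hc hQc A' hA'
  obtain ⟨u, hu, hu2, hau⟩ := S1.surj F C (Subgroup.mem_inf.mpr ⟨ha'Q, ha'⟩) ha'2
  obtain ⟨u', hu', hu2', hau'⟩ := S2.surj F C (Subgroup.mem_inf.mpr ⟨ha'Q, ha'⟩) ha'2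
  -- `A ≰ St d`
  have hnot : ¬ A ≤ St d := by
    obtain ⟨v, hv, hvQ, hv2, hv1⟩ := C.inv d hd hQd M' hM'
    have hv' : v ∈ QC Q M := inf_le_QC F.toFam hd hM hM' hneM (Subgroup.mem_inf.mpr ⟨hvQ, hv⟩)
    obtain ⟨l, hl, hlT, hlv⟩ := S.exists_mover F C hv' hv2 hv1
    exact fun h => S.not_St F C hv' hl hlT hlv (h hl)
  exact Spread.full_false F.toFam hc hd hcd (F.le2 d hd) hA hA' (Ne.symm hne) hM hM' (Ne.symm hneM)
    (F.simple c hc A hA) (C.syl c hc hQc A hA) (inf_abelian F C hc hQc hA)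
    (fun a ha ha2 _ => by
      obtain ⟨u, hu, hu2, hau⟩ := S.surj F C ha ha2
      exact ⟨u, (Subgroup.mem_inf.mp hu).2, hu2, (Subgroup.mem_inf.mp (e1 hau)).2⟩)
    ha' ha'2 ha'1 (Subgroup.mem_inf.mp hu).2 hu2 (Subgroup.mem_inf.mp hu').2 hu2' (e2 hau) (e2 hau') hnot

/-- **Reduction to (B2)**: an adjacent pair gives a configuration with witnesses. -/
theorem exists_nf [Finite G] (F : Fam2 𝓒) {Λ Λ' : Set (Subgroup G)} (hΛ : Λ ∈ 𝓒) (hΛ' : Λ' ∈ 𝓒) (hne : Λ ≠ Λ')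
    (h : Ad Λ Λ') : ∃ Q : Subgroup G, NF 𝓒 Q := by
  obtain ⟨Q, C⟩ := exists_cfg F hΛ hΛ' hne h
  rcases all_or F C with h1 | h1
  · exact (full_impossible F (⟨C, h1⟩ : FL 𝓒 Q)).elim
  · exact ⟨Q, C, h1⟩

end

end Cfsg.Agent.OddHalf.D3.TwoFull
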