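import Cfsg.Agent.OddHalf.D3.SCThree
import Cfsg.Agent.OddHalf.D3.TwoFull
import Cfsg.Agent.OddHalf.D3.Plug
import Cfsg.Agent.OddHalf.Soft
import Cfsg.Agent.OddHalf.Known
import Cfsg.Agent.Schreier.Cases

/-!
# ODD D3(b): the frame of a terminal component with trivial centre

`kh_of`, `fam_of`, `fam2_of`: the frames `KH`, `Fam`, `Fam2` for the conjugates of a terminal component `K` of a group
`G` in the context `Ctx G`. `scd`: `n = 2`, no adjacent classes (from the impossibility of (B2)).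
-/

set_option autoImplicit false

namespace Cfsg.Agent.OddHalf.D3b.OddCase

open Cfsg Cfsg.Agent.OddHalf.Iface
open Cfsg.Agent.OddHalf.D3.ThreeDefs Cfsg.Agent.OddHalf.D3.ThreeFam Cfsg.Agent.OddHalf.D3.FamTerm
open Cfsg.Agent.OddHalf.D3.SCThree Cfsg.Agent.OddHalf.D3.Swap Cfsg.Agent.OddHalf.D3.TwoCfg
open Cfsg.Agent.OddHalf.D3.TwoKey Cfsg.Agent.OddHalf.D3.TwoFull
open Cfsg.Agent.Schreier.Basic (Sch)
open scoped commutatorElement

universe u

variable {G : Type u} [Group G] {K : Subgroup G}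

theorem termH_of (h : Term0 G K) : TermH K := by
  obtain ⟨t, ht, hc⟩ := h.comp
  refine ⟨⟨t, ht, hc.1, hc.2⟩, fun y hy hyK => ?_⟩
  have := h.term y hy hyK
  exact ⟨this.1, this.2⟩

theorem kh_of [Finite G] (hb : D3.Plug.Bal G) (h : Term0 G K) : KH K := by
  obtain ⟨t, ht, hc⟩ := h.comp
  exact ⟨termH_of h, D3.Plug.even_of_comp hb ht (D3.Plug.comp_iff.2 hc)⟩

/-- the centre is trivial or contains an involution -/
theorem center_cases [Finite G] (hb : D3.Plug.Bal G) (h : Term0 G K) :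
    Subgroup.center K = ⊥ ∨ ∃ z ∈ K, z * z = 1 ∧ z ≠ 1 ∧ ∀ a ∈ K, z * a = a * z := by
  obtain ⟨t, ht, hc⟩ := h.comp
  have h2 := Soft.CompOf.center_isPGroup (hb t ht) hc
  by_cases hz : Subgroup.center K = ⊥
  · exact Or.inl hz
  right
  obtain ⟨⟨x, hx⟩, hx1⟩ := (Subgroup.ne_bot_iff_exists_ne_one).mp hz
  have h3 : IsPGroup 2 ((Subgroup.center K).map K.subtype) := h2.map _
  have hxm : (x : G) ∈ (Subgroup.center K).map K.subtype := ⟨x, hx, rfl⟩
  obtain ⟨n, hn2, hn1⟩ := exists_pow_inv h3 hxm (fun h => hx1 (by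
    apply Subtype.ext
    exact Subtype.ext h))
  refine ⟨(x : G) ^ n, pow_mem x.2 n, hn2, hn1, ?_⟩
  intro a ha
  have h4 := Subgroup.mem_center_iff.mp (pow_mem hx n) ⟨a, ha⟩
  exact (congrArg Subtype.val h4).symm

theorem quasi_of (h : Term0 G K) : IsQuasisimple K := by
  obtain ⟨t, ht, hc⟩ := h.comp
  exact Soft.CompOf.quasisimple hc

theorem simple_of (h : Term0 G K) (hz : Subgroup.center K = ⊥) : IsSimpleGroup K := by
  have h1 := (quasi_of h).2
  have e : K ⧸ Subgroup.center K ≃* K := (QuotientGroup.quotientMulEquivOfEq hz).trans QuotientGroup.quotientBot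
  exact Known.isSimple_congr e h1

theorem sch_of (C : Ctx G) (hSch : Cfsg.Agent.Schreier.Cases.SchFor.{u} @IsKnownSimple') (h : Term0 G K)
    (hz : Subgroup.center K = ⊥) : Sch K := by
  have := C.fin
  have := C.simple
  obtain ⟨t, ht, hc⟩ := h.comp
  have hq := Soft.CompOf.quasisimple hc
  have hs := hq.2
  have h1 : Sch (K ⧸ Subgroup.center K) := hSch _ (Soft.quo_na hq)
    (Known.known_quotient C.kproper K (Soft.CompOf.ne_top C.na ht hc) _ hs (Soft.quo_na hq))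
  exact h1.of_equiv ((QuotientGroup.quotientMulEquivOfEq hz).trans QuotientGroup.quotientBot)

theorem cent_of (hz : Subgroup.center K = ⊥) :
    ∀ a ∈ K, a * a = 1 → (∀ b ∈ K, a * b = b * a) → a = 1 := by
  intro a ha _ hab
  have h1 : (⟨a, ha⟩ : K) ∈ Subgroup.center K := Subgroup.mem_center_iff.mpr fun b => Subtype.ext (hab b b.2).symm
  rw [hz, Subgroup.mem_bot] at h1
  exact congrArg Subtype.val h1

theorem equiv_cj (g : G) (K : Subgroup G) : Nonempty (K ≃* cj g K) :=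
  ⟨K.equivMapOfInjective (MulAut.conj g).toMonoidHom (MulAut.conj g).injective⟩

theorem mem_Cj_of_mem {Λ : Set (Subgroup G)} (hΛ : Λ ∈ Fm K) {A : Subgroup G} (hA : A ∈ Λ) : A ∈ Cj K := by
  obtain ⟨B, hB, rfl⟩ := hΛ
  exact hA.1

/-- at most two members -/
theorem le_two [Finite G] (h : KH K) (h3 : ¬ Three K) {Λ : Set (Subgroup G)} (hΛ : Λ ∈ Fm K) : AtMostTwo Λ := by
  obtain ⟨A, hA, rfl⟩ := hΛ
  have hrel : ∀ B ∈ cls K A, ∀ D ∈ cls K A, D3.FamTerm.Rel B D := fun B hB D hD =>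
    hB.2.symm.trans (h.conj hB.1).term (h.conj hD.1).term (h.conj hA).ev hD.2
  intro B hB D hD E hE
  by_contra hcon
  push Not at hcon
  obtain ⟨hBD, hBE, hDE⟩ := hcon
  obtain ⟨x, hx⟩ := hB.1
  have e1 : cj x⁻¹ B = K := by rw [hx, cj_inv_cj]
  refine h3 ⟨cj x⁻¹ D, Cj_conj hD.1 _, cj x⁻¹ E, Cj_conj hE.1 _, ?_, ?_, ?_, ?_, ?_⟩
  · intro h1
    rw [← e1] at h1
    exact hBD (cj_injective _ h1).symm
  · intro h1
    rw [← e1] at h1
    exact hBE (cj_injective _ h1).symm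
  · intro h1
    exact hDE (cj_injective _ h1).symm
  · have := (hrel B hB D hD).conj x⁻¹
    rwa [e1] at this
  · have := (hrel B hB E hE).conj x⁻¹
    rwa [e1] at this

/-- **the frame for `n = 2`** -/
theorem fam2_of (C : Ctx G) (hSch : Cfsg.Agent.Schreier.Cases.SchFor.{u} @IsKnownSimple') (h : Term0 G K)
    (hz : Subgroup.center K = ⊥) (F : Fam (Fm K)) (h3 : ¬ Three K) : Fam2 (Fm K) := by
  have hfin := C.fin
  have hK := kh_of C.bal h
  exact { toFam := F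
          le2 := fun Λ hΛ => le_two hK h3 hΛ
          norm := by
            intro Λ hΛ Λ' hΛ' hne L hL e he he2 heS M hM
            obtain ⟨g, rfl⟩ := mem_Cj_of_mem hΛ hL
            obtain ⟨φ⟩ := equiv_cj g K
            exact norm_of_mem F hΛ hΛ' (le_two hK h3 hΛ) hL
              (Cfsg.Agent.SignalizersComponents.Components.isQuasisimple_of_mulEquiv φ (quasi_of h))
              ((sch_of C hSch h hz).of_equiv φ) he he2 heS hM
          simple := by
            intro Λ hΛ A hA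
            obtain ⟨g, rfl⟩ := mem_Cj_of_mem hΛ hA
            obtain ⟨φ⟩ := equiv_cj g K
            exact Known.isSimple_congr φ (simple_of h hz) }

/-- a commuting conjugate gives a second member -/
theorem two_of {g : G} (hne : cj g K ≠ K) (hcomm : ⁅K, cj g K⁆ = ⊥) : ∃ B ∈ Cj K, B ≠ K ∧ Rel K B := by
  refine ⟨cj g K, ⟨g, rfl⟩, hne, Or.inr ?_⟩
  intro x hx y hy
  have h1 : ⁅x, y⁆ ∈ (⊥ : Subgroup G) := by rw [← hcomm]; exact Subgroup.commutator_mem_commutator hx hy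
  rw [Subgroup.mem_bot, commutatorElement_def, mul_inv_eq_one, mul_inv_eq_iff_eq_mul] at h1
  exact h1

theorem fam_of [Finite G] (hb : D3.Plug.Bal G) (h : Term0 G K) (hz : Subgroup.center K = ⊥)
    (h2 : ∃ B ∈ Cj K, B ≠ K ∧ Rel K B) : Fam (Fm K) :=
  fam (kh_of hb h) (cent_of hz) h2

/-- **(SCD)**, `n = 2` -/
theorem scd [Finite G] {𝓒 : Set (Set (Subgroup G))} (F : Fam2 𝓒) (hbb : ∀ Q : Subgroup G, NF 𝓒 Q → False)
    {Λ Λ' : Set (Subgroup G)} (hΛ : Λ ∈ 𝓒) (hΛ' : Λ' ∈ 𝓒) {L : Subgroup G} (hL : L ∈ Λ) {e : G} (he : e ∈ L)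
    (he2 : e * e = 1) (he1 : e ≠ 1) (heS : e ∈ St Λ') : Λ = Λ' := by
  by_contra hne
  obtain ⟨Q, hQ⟩ := exists_nf F hΛ hΛ' hne ⟨L, hL, e, he, he2, he1, heS⟩
  exact hbb Q hQ

end Cfsg.Agent.OddHalf.D3b.OddCase
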