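import Cfsg.Agent.OddHalf.D3.Basic

/-!
# Pump-ups of components of maximal order

`Sys G` is a conjugation invariant family `F` of subgroups (components of involution centralizers of
certain types) of even order, closed under pump-ups.  `S.L K`: `K` is in `F` and is a component of the
centralizer of an involution; `S.M K`: moreover `|K|` is maximal among these.
-/

set_option autoImplicit false

namespace Cfsg.Agent.OddHalf.D3

open Subgroup Cfsg Cfsg.Agent.SignalizersComponents
open scoped commutatorElement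

variable {G : Type*} [Group G]

/-- A family of subgroups of `G`, closed under conjugation and under pump-ups. -/
structure Sys (G : Type*) [Group G] where
  F : Subgroup G → Prop
  conj : ∀ (g : G) (K : Subgroup G), F K → F (cj g K)
  even : ∀ K : Subgroup G, F K → 2 ∣ Nat.card K
  pump : ∀ (K : Subgroup G) (x y : G), F K → orderOf x = 2 → Comp x K → orderOf y = 2 →
    x * y = y * x → y ∈ centralizer (K : Set G) →
    ∃ D : Subgroup G, F D ∧ Comp y D ∧ (K = D ∨ K < D ∨
      (cj x D ≠ D ∧ (∀ d ∈ D, d * (x * d * x⁻¹) ∈ K) ∧ ∀ k ∈ K, ∃ d ∈ D, k = d * (x * d * x⁻¹)))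

/-- Members of the family which are components of involution centralizers. -/
def Sys.L (S : Sys G) (K : Subgroup G) : Prop := S.F K ∧ ∃ x : G, orderOf x = 2 ∧ Comp x K

/-- Members of `S.L` of maximal order. -/
def Sys.M (S : Sys G) (K : Subgroup G) : Prop :=
  S.L K ∧ ∀ K' : Subgroup G, S.L K' → Nat.card K' ≤ Nat.card K

/-- `K = {d d^x : d ∈ D}`, `D` commutes with `D^x ≠ D`, and `d ↦ d d^x` is injective. -/
structure Diag (K D : Subgroup G) (x : G) : Prop where
  quasi : IsQuasisimple D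
  xx : x * x = 1
  xK : x ∈ centralizer (K : Set G)
  ne : cj x D ≠ D
  comm : D ≤ centralizer ((cj x D : Subgroup G) : Set G)
  mem : ∀ d ∈ D, d * (x * d * x⁻¹) ∈ K
  ex : ∀ k ∈ K, ∃ d ∈ D, k = d * (x * d * x⁻¹)
  inj : ∀ d ∈ D, d * (x * d * x⁻¹) = 1 → d = 1

theorem Sys.L.conj {S : Sys G} {K : Subgroup G} (h : S.L K) (g : G) : S.L (cj g K) := by
  obtain ⟨hF, x, hx, hc⟩ := h
  exact ⟨S.conj g K hF, g * x * g⁻¹, by rw [orderOf_conj, hx], hc.conj g⟩

theorem Sys.M.conj {S : Sys G} {K : Subgroup G} (h : S.M K) (g : G) : S.M (cj g K) := by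
  refine ⟨h.1.conj g, fun K' hK' => ?_⟩
  rw [card_cj]
  exact h.2 K' hK'

theorem Sys.M.quasi {S : Sys G} {K : Subgroup G} (h : S.M K) : IsQuasisimple K := by
  obtain ⟨⟨-, x, -, hx⟩, -⟩ := h
  exact hx.quasi

theorem sq_of_order {x : G} (hx : orderOf x = 2) : x * x = 1 := by
  have := pow_orderOf_eq_one x
  rwa [hx, pow_two] at this

theorem order_of_sq {x : G} (hx : x * x = 1) (h1 : x ≠ 1) : orderOf x = 2 :=
  orderOf_eq_prime (by rw [pow_two]; exact hx) h1

/-- (0): the pump-up alternative for members of maximal order. -/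
theorem pump [Finite G] {S : Sys G} {K : Subgroup G} (hM : S.M K) {x y : G} (hx : orderOf x = 2)
    (hK : Comp x K) (hy : orderOf y = 2) (hxy : x * y = y * x) (hyK : y ∈ centralizer (K : Set G)) :
    Comp y K ∨ ∃ D : Subgroup G, S.M D ∧ Comp y D ∧ Diag K D x := by
  obtain ⟨D, hF, hD, h | h | ⟨h1, h2, h3⟩⟩ := S.pump K x y hM.1.1 hx hK hy hxy hyK
  · left
    rw [h]
    exact hD
  · exfalso
    have h1 := hM.2 D ⟨hF, y, hy, hD⟩
    have h2 : Nat.card K < Nat.card D := Set.ncard_lt_ncard h (Set.toFinite _)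
    omega
  · right
    have hL : S.L D := ⟨hF, y, hy, hD⟩
    have hle := hM.2 D hL
    -- the map
    let f : D → K := fun d => ⟨d * (x * d * x⁻¹), h2 d d.2⟩
    have hsurj : Function.Surjective f := by
      intro k
      obtain ⟨d, hd, hkd⟩ := h3 k k.2
      exact ⟨⟨d, hd⟩, Subtype.ext hkd.symm⟩
    have hge : Nat.card K ≤ Nat.card D := Nat.card_le_card_of_surjective f hsurj
    have heq : Nat.card D = Nat.card K := le_antisymm hle hge
    have hbij : Function.Bijective f :=
      (Nat.bijective_iff_surjective_and_card f).mpr ⟨hsurj, heq⟩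
    refine ⟨D, ⟨hL, fun K' hK' => ?_⟩, hD, ⟨hD.quasi, sq_of_order hx, hK.mem, h1, ?_, h2, h3, ?_⟩⟩
    · rw [heq]
      exact hM.2 K' hK'
    · exact hD.comm (hD.conj_of_comm hxy) h1.symm
    · intro d hd hd1
      have e1 : f ⟨d, hd⟩ = f 1 := by
        apply Subtype.ext
        change d * (x * d * x⁻¹) = ((1 : D) : G) * (x * ((1 : D) : G) * x⁻¹)
        rw [hd1]
        simp
      have := hbij.1 e1
      exact congrArg Subtype.val this

theorem Diag.inv {K D : Subgroup G} {x : G} (h : Diag K D x) : x⁻¹ = x :=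
  inv_eq_of_mul_eq_one_left h.xx

theorem Diag.cj_cj {K D : Subgroup G} {x : G} (h : Diag K D x) : cj x (cj x D) = D := by
  rw [D3.cj_cj, h.xx, cj_one]

/-- `D` does not commute with `K`. -/
theorem Diag.not_comm {K D : Subgroup G} {x : G} (h : Diag K D x) :
    ¬ D ≤ centralizer (K : Set G) := by
  intro h1
  apply not_comm_self h.quasi
  intro d hd
  rw [mem_centralizer_iff]
  intro e he
  have h2 : d * (e * (x * e * x⁻¹)) = (e * (x * e * x⁻¹)) * d := comm_elt h1 hd (h.mem e he)
  have h3 : d * (x * e * x⁻¹) = (x * e * x⁻¹) * d := comm_elt h.comm hd (conj_mem_cj he)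
  calc e * d = (e * (x * e * x⁻¹)) * ((x * e * x⁻¹)⁻¹ * d) := by group
    _ = (e * (x * e * x⁻¹)) * (d * (x * e * x⁻¹)⁻¹) := by
        congr 1
        rw [inv_mul_eq_iff_eq_mul, ← mul_assoc, eq_mul_inv_iff_mul_eq, h3]
    _ = ((e * (x * e * x⁻¹)) * d) * (x * e * x⁻¹)⁻¹ := by group
    _ = (d * (e * (x * e * x⁻¹))) * (x * e * x⁻¹)⁻¹ := by rw [h2]
    _ = d * e := by group

/-- An element of `C(K)` conjugates non-commuting subgroups to non-commuting subgroups. -/
theorem not_comm_conj {K E : Subgroup G} {q : G} (hq : q ∈ centralizer (K : Set G)) :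
    cj q E ≤ centralizer (K : Set G) ↔ E ≤ centralizer (K : Set G) := by
  have h1 : cj q K = K := cj_eq_of_mem_centralizer hq
  have h2 : cj q⁻¹ K = K := cj_eq_of_mem_centralizer (inv_mem hq)
  constructor
  · intro h
    have := comm_cj (g := q⁻¹) h
    rwa [cj_inv_cj, h2] at this
  · intro h
    have := comm_cj (g := q) h
    rwa [h1] at this

theorem Diag.not_comm' {K D : Subgroup G} {x : G} (h : Diag K D x) :
    ¬ cj x D ≤ centralizer (K : Set G) := by
  rw [not_comm_conj h.xK]
  exact h.not_comm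

/-- Components of `C(y)` other than `D`, `D^x` commute with `K`. -/
theorem Diag.comm_of_ne {K D E : Subgroup G} {x y : G} (h : Diag K D x) (hxy : x * y = y * x)
    (hD : Comp y D) (hE : Comp y E) (h1 : E ≠ D) (h2 : E ≠ cj x D) :
    E ≤ centralizer (K : Set G) := by
  have c1 := hE.comm hD h1
  have c2 := hE.comm (hD.conj_of_comm hxy) h2
  intro e he
  rw [mem_centralizer_iff]
  intro k hk
  obtain ⟨d, hd, rfl⟩ := h.ex k hk
  have e1 : e * d = d * e := comm_elt c1 he hd
  have e2 : e * (x * d * x⁻¹) = (x * d * x⁻¹) * e := comm_elt c2 he (conj_mem_cj hd)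
  calc d * (x * d * x⁻¹) * e = d * ((x * d * x⁻¹) * e) := by group
    _ = (d * e) * (x * d * x⁻¹) := by rw [← e2]; group
    _ = e * (d * (x * d * x⁻¹)) := by rw [← e1]; group

/-- The components of `C(y)` not commuting with `K` are `D` and `D^x`. -/
theorem Diag.eq_or_eq {K D E : Subgroup G} {x y : G} (h : Diag K D x) (hxy : x * y = y * x)
    (hD : Comp y D) (hE : Comp y E) (hn : ¬ E ≤ centralizer (K : Set G)) : E = D ∨ E = cj x D := by
  by_contra hcon
  push Not at hcon
  exact hn (h.comm_of_ne hxy hD hE hcon.1 hcon.2)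

/-- `C(y) ∩ C(K)` permutes `D` and `D^x`. -/
theorem Diag.perm {K D : Subgroup G} {x y q : G} (h : Diag K D x) (hxy : x * y = y * x)
    (hD : Comp y D) (hqy : q * y = y * q) (hq : q ∈ centralizer (K : Set G)) :
    cj q D = D ∨ cj q D = cj x D :=
  h.eq_or_eq hxy hD (hD.conj_of_comm hqy) (by rw [not_comm_conj hq]; exact h.not_comm)

theorem Diag.fix' {K D : Subgroup G} {x y q : G} (h : Diag K D x) (hxy : x * y = y * x)
    (hD : Comp y D) (hqy : q * y = y * q) (hq : q ∈ centralizer (K : Set G)) (hqD : cj q D = D) :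
    cj q (cj x D) = cj x D := by
  rcases h.eq_or_eq hxy hD ((hD.conj_of_comm hxy).conj_of_comm hqy)
    (by rw [not_comm_conj hq]; exact h.not_comm') with h1 | h1
  · exfalso
    apply h.ne
    apply cj_injective q
    rw [h1, hqD]
  · exact h1

/-- An element of `C(y) ∩ C(K)` which normalizes `D` centralizes `D`. -/
theorem Diag.centralizes {K D : Subgroup G} {x y q : G} (h : Diag K D x) (hxy : x * y = y * x)
    (hD : Comp y D) (hqy : q * y = y * q) (hq : q ∈ centralizer (K : Set G)) (hqD : cj q D = D) :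
    q ∈ centralizer (D : Set G) := by
  have hq2 := h.fix' hxy hD hqy hq hqD
  have hqn : q ∈ normalizer (D : Set G) := mem_normalizer_iff_cj.mpr hqD
  let α : D ≃* D := D.normalizerMonoidHom ⟨q, hqn⟩
  have hα : ∀ d : D, ((α d : D) : G) = q * d * q⁻¹ := fun d => rfl
  have key : ∀ d : D, α d * d⁻¹ ∈ Subgroup.center D := by
    intro d
    have hd : (d : G) ∈ D := d.2
    set e : G := x * d * x⁻¹ with he
    have heD : e ∈ cj x D := conj_mem_cj hd
    have he' : q * e * q⁻¹ ∈ cj x D := by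
      have := conj_mem_cj (g := q) heD
      rwa [hq2] at this
    have hk : ((d : G) * e) * q = q * ((d : G) * e) := mem_centralizer_iff.mp hq _ (h.mem d hd)
    -- q d q⁻¹ * q e q⁻¹ = d e
    have h1 : (q * d * q⁻¹) * (q * e * q⁻¹) = d * e := by
      calc (q * d * q⁻¹) * (q * e * q⁻¹) = q * (d * e) * q⁻¹ := by group
        _ = d * e := by rw [← hk]; group
    have h2 : (α d : G) * (d : G)⁻¹ = (d : G) * (e * (q * e * q⁻¹)⁻¹) * (d : G)⁻¹ := by
      rw [hα]
      have : q * d * q⁻¹ = (d : G) * e * (q * e * q⁻¹)⁻¹ := by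
        rw [← h1]; group
      rw [this]; group
    have hz : e * (q * e * q⁻¹)⁻¹ ∈ cj x D := mul_mem heD (inv_mem he')
    rw [mem_center_iff]
    intro g
    apply Subtype.ext
    change (g : G) * ((α d : G) * (d : G)⁻¹) = ((α d : G) * (d : G)⁻¹) * g
    rw [h2]
    have c1 := comm_elt h.comm hd hz
    have c2 := comm_elt h.comm g.2 hz
    have e3 : (d : G) * (e * (q * e * q⁻¹)⁻¹) * (d : G)⁻¹ = e * (q * e * q⁻¹)⁻¹ := by
      rw [c1]; group
    rw [e3, c2]
  have hfix := Cfsg.Agent.S1304.result (hD.quasi.1.commutator_eq_top) α key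
  rw [mem_centralizer_iff]
  intro d hd
  have h1 := congrArg Subtype.val (hfix ⟨d, hd⟩)
  change q * d * q⁻¹ = d at h1
  calc d * q = (q * d * q⁻¹) * q := by rw [h1]
    _ = q * d := by group

/-- Conversely, elements centralizing `D` and `D^x` centralize `K`. -/
theorem Diag.centralizes' {K D : Subgroup G} {x y q : G} (h : Diag K D x) (hxy : x * y = y * x)
    (hD : Comp y D) (hqy : q * y = y * q) (hq : q ∈ centralizer (K : Set G)) (hqD : cj q D = D) :
    q ∈ centralizer ((cj x D : Subgroup G) : Set G) := by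
  have h1 := h.centralizes hxy hD hqy hq hqD
  rw [mem_centralizer_iff]
  intro e he
  obtain ⟨d, hd, rfl⟩ := he
  change x * d * x⁻¹ * q = q * (x * d * x⁻¹)
  have h2 := mem_centralizer_iff.mp h1 d hd
  have h3 := mem_centralizer_iff.mp hq _ (h.mem d hd)
  calc x * d * x⁻¹ * q = d⁻¹ * (d * (x * d * x⁻¹) * q) := by group
    _ = (d⁻¹ * q) * (d * (x * d * x⁻¹)) := by rw [h3]; group
    _ = q * d⁻¹ * (d * (x * d * x⁻¹)) := by
        congr 1
        rw [inv_mul_eq_iff_eq_mul, ← mul_assoc, eq_mul_inv_iff_mul_eq, h2]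
    _ = q * (x * d * x⁻¹) := by group

end Cfsg.Agent.OddHalf.D3
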