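import Cfsg.Agent.OddHalf.D3.NormOne
import Cfsg.Agent.OddHalf.D3.ThreeEnd

/-!
# ODD D3 (iii), `n ≥ 3`: (SC)

`sc3`: `K` terminal, `|Z(K)|` odd, commuting with at least two other conjugates: an involution centralising a member of
the class `Λ'` and stabilising the class `Λ` exists only for `Λ = Λ'`.
-/

set_option autoImplicit false

namespace Cfsg.Agent.OddHalf.D3.SCThree

open Cfsg Cfsg.Agent.OddHalf.D3.ThreeDefs Cfsg.Agent.OddHalf.D3.ThreeFam Cfsg.Agent.OddHalf.D3.ThreeMain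
open Cfsg.Agent.OddHalf.D3.FamTerm Cfsg.Agent.OddHalf.D3.NormOne Cfsg.Agent.OddHalf.D3.ThreeEnd

universe u

variable {G : Type u} [Group G]

/-- at least three commuting conjugates -/
def Three (K : Subgroup G) : Prop :=
  ∃ B ∈ Cj K, ∃ D ∈ Cj K, B ≠ K ∧ D ≠ K ∧ D ≠ B ∧ Rel K B ∧ Rel K D

theorem three_mem {K : Subgroup G} (h3 : Three K) :
    ∀ Λ ∈ Fm K, ∀ A B : Subgroup G, ∃ D ∈ Λ, D ≠ A ∧ D ≠ B := by
  rintro _ ⟨X, ⟨g, rfl⟩, rfl⟩ A B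
  obtain ⟨P, hP, Q, hQ, hPK, hQK, hQP, hrP, hrQ⟩ := h3
  have m1 : cj g K ∈ cls K (cj g K) := ⟨Cj_conj (Cj_self K) g, Or.inl rfl⟩
  have m2 : cj g P ∈ cls K (cj g K) := ⟨Cj_conj hP g, hrP.conj g⟩
  have m3 : cj g Q ∈ cls K (cj g K) := ⟨Cj_conj hQ g, hrQ.conj g⟩
  have n1 : cj g P ≠ cj g K := fun h => hPK (cj_injective g h)
  have n2 : cj g Q ≠ cj g K := fun h => hQK (cj_injective g h)
  have n3 : cj g Q ≠ cj g P := fun h => hQP (cj_injective g h)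
  by_cases h1 : cj g K = A
  · by_cases h2 : cj g P = B
    · exact ⟨_, m3, by rw [← h1]; exact n2, by rw [← h2]; exact n3⟩
    · exact ⟨_, m2, by rw [← h1]; exact n1, h2⟩
  · by_cases h2 : cj g K = B
    · by_cases h3 : cj g P = A
      · exact ⟨_, m3, by rw [← h3]; exact n3, by rw [← h2]; exact n2⟩
      · exact ⟨_, m2, h3, by rw [← h2]; exact n1⟩
    · exact ⟨_, m1, h1, h2⟩

theorem fam3 [Finite G] (hev : EvQ G) (hbal : Bal G) {K : Subgroup G} (h : KH K)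
    (hcen : ∀ a ∈ K, a * a = 1 → (∀ b ∈ K, a * b = b * a) → a = 1) (h3 : Three K) : Fam3 (Fm K) := by
  have F : Fam (Fm K) := by
    obtain ⟨P, hP, Q, hQ, hPK, hQK, hQP, hrP, hrQ⟩ := h3
    exact fam h hcen ⟨P, hP, hPK, hrP⟩
  exact { toFam := F
          three := three_mem h3
          norm := fun Λ hΛ Λ' hΛ' hne v hv hvS B hB => norm hev hbal h F (three_mem h3) hΛ hΛ' hne hv hvS hB }

/-- **(SC)**, `n ≥ 3` -/
theorem sc3 [Finite G] (hev : EvQ G) (hbal : Bal G) {K : Subgroup G} (h : KH K)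
    (hcen : ∀ a ∈ K, a * a = 1 → (∀ b ∈ K, a * b = b * a) → a = 1) (h3 : Three K)
    {Λ Λ' : Set (Subgroup G)} (hΛ : Λ ∈ Fm K) (hΛ' : Λ' ∈ Fm K) {u : G} (hu : InU Λ' u) (huS : u ∈ St Λ) :
    Λ = Λ' := by
  by_contra hne
  exact no_adj (fam3 hev hbal h hcen h3) hΛ hΛ' hne ⟨u, hu, huS⟩

end Cfsg.Agent.OddHalf.D3.SCThree
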