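import Cfsg.Agent.OddHalf.D3.ThreeDefs

/-!
# ODD D3 (iii): families of commuting classes (text of helper133, bb ODD 7641), the frame

`Fam 𝓒`: `𝓒` is a `G`-invariant set of "classes" `Λ` (sets of pairwise commuting subgroups), such that a class is
determined by any involution centralising one of its members.
-/

set_option autoImplicit false

namespace Cfsg.Agent.OddHalf.D3.ThreeFam

open Cfsg.Agent.OddHalf.D3.ThreeDefs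
open scoped commutatorElement

universe u

variable {G : Type u} [Group G]

/-- `u` is an involution centralising a member of `Λ` -/
def InU (Λ : Set (Subgroup G)) (u : G) : Prop :=
  u * u = 1 ∧ u ≠ 1 ∧ ∃ A ∈ Λ, ∀ a ∈ A, u * a = a * u

/-- The frame of D3 (iii) (no hypothesis on the number of members). -/
structure Fam (𝓒 : Set (Set (Subgroup G))) : Prop where
  conj : ∀ g, ∀ Λ ∈ 𝓒, cjs g Λ ∈ 𝓒
  comm : ∀ Λ ∈ 𝓒, ∀ A ∈ Λ, ∀ B ∈ Λ, A ≠ B → ∀ a ∈ A, ∀ b ∈ B, a * b = b * a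
  /-- at least two members -/
  two : ∀ Λ ∈ 𝓒, ∀ A, ∃ D ∈ Λ, D ≠ A
  /-- a class is determined by an involution centralising one of its members -/
  uniq : ∀ Λ ∈ 𝓒, ∀ Λ' ∈ 𝓒, ∀ u, InU Λ u → InU Λ' u → Λ = Λ'
  /-- no central involutions -/
  cent : ∀ Λ ∈ 𝓒, ∀ A ∈ Λ, ∀ a ∈ A, a * a = 1 → (∀ b ∈ A, a * b = b * a) → a = 1
  /-- even order -/
  inv : ∀ Λ ∈ 𝓒, ∀ A ∈ Λ, ∃ a ∈ A, a * a = 1 ∧ a ≠ 1
  /-- the Z*-theorem in `A⟨u⟩` -/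
  zst : ∀ Λ ∈ 𝓒, ∀ A ∈ Λ, ∀ u, u * u = 1 → cj u A = A → (∃ a ∈ A, u * a ≠ a * u) →
    ∃ l ∈ A, l * u * l⁻¹ ≠ u ∧ u * (l * u * l⁻¹) = (l * u * l⁻¹) * u
  /-- all members of all classes are conjugate -/
  tr : ∀ Λ ∈ 𝓒, ∀ Λ' ∈ 𝓒, ∀ A ∈ Λ, ∀ B ∈ Λ', ∃ g, cj g A = B

/-- at least three members, and (1) of the text -/
structure Fam3 (𝓒 : Set (Set (Subgroup G))) : Prop extends Fam 𝓒 where
  three : ∀ Λ ∈ 𝓒, ∀ A B, ∃ D ∈ Λ, D ≠ A ∧ D ≠ B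
  /-- (1): `v ∈ U` stabilising `Λ' ≠ Λ` normalises every member of `Λ'` -/
  norm : ∀ Λ ∈ 𝓒, ∀ Λ' ∈ 𝓒, Λ ≠ Λ' → ∀ v, InU Λ v → v ∈ St Λ' → ∀ B ∈ Λ', cj v B = B

theorem InU.conj {Λ : Set (Subgroup G)} {u : G} (h : InU Λ u) (g : G) : InU (cjs g Λ) (g * u * g⁻¹) := by
  obtain ⟨h1, h2, A, hA, h3⟩ := h
  refine ⟨?_, ?_, cj g A, cj_mem_cjs hA, ?_⟩
  · calc g * u * g⁻¹ * (g * u * g⁻¹) = g * (u * u) * g⁻¹ := by group
      _ = 1 := by rw [h1]; group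
  · intro h
    apply h2
    calc u = g⁻¹ * (g * u * g⁻¹) * g := by group
      _ = 1 := by rw [h]; group
  · intro a ha
    rw [mem_cj] at ha
    have := h3 _ ha
    calc g * u * g⁻¹ * a = g * (u * (g⁻¹ * a * g)) * g⁻¹ := by group
      _ = g * ((g⁻¹ * a * g) * u) * g⁻¹ := by rw [this]
      _ = _ := by group

namespace Fam

variable {𝓒 : Set (Set (Subgroup G))}

/-- `C(u) ≤ H` for `u ∈ U` -/
theorem cen (F : Fam 𝓒) {Λ : Set (Subgroup G)} (hΛ : Λ ∈ 𝓒) {u g : G} (hu : InU Λ u) (hg : u * g = g * u) : g ∈ St Λ := by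
  have h1 := hu.conj g
  have h2 : g * u * g⁻¹ = u := by rw [← hg]; group
  rw [h2] at h1
  exact (F.uniq Λ hΛ _ (F.conj g Λ hΛ) u hu h1).symm

/-- a member normalises every member of its class -/
theorem cj_mem (F : Fam 𝓒) {Λ : Set (Subgroup G)} (hΛ : Λ ∈ 𝓒) {A B : Subgroup G} (hA : A ∈ Λ) (hB : B ∈ Λ) {a : G}
    (ha : a ∈ A) : cj a B = B := by
  by_cases h : A = B
  · subst h; exact cj_eq_of_mem ha
  · exact cj_eq_of_comm (F.comm Λ hΛ A hA B hB h a ha)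

theorem St_of_cj {Λ : Set (Subgroup G)} {a : G} (h : ∀ B ∈ Λ, cj a B = B) : a ∈ St Λ := by
  rw [mem_St]
  unfold cjs
  ext X
  rw [Set.mem_image]
  constructor
  · rintro ⟨B, hB, rfl⟩; rw [h B hB]; exact hB
  · intro hX; exact ⟨X, hX, h X hX⟩

theorem mem_le_St (F : Fam 𝓒) {Λ : Set (Subgroup G)} (hΛ : Λ ∈ 𝓒) {A : Subgroup G} (hA : A ∈ Λ) : A ≤ St Λ :=
  fun _ ha => St_of_cj fun _ hB => F.cj_mem hΛ hA hB ha

/-- an involution in a member is in `U` -/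
theorem inU_of_mem (F : Fam 𝓒) {Λ : Set (Subgroup G)} (hΛ : Λ ∈ 𝓒) {A : Subgroup G} (hA : A ∈ Λ) {a : G}
    (ha : a ∈ A) (h2 : a * a = 1) (h1 : a ≠ 1) : InU Λ a := by
  obtain ⟨D, hD, hDA⟩ := F.two Λ hΛ A
  exact ⟨h2, h1, D, hD, F.comm Λ hΛ A hA D hD (Ne.symm hDA) a ha⟩

/-- members of different classes have no common involution -/
theorem inter_inv (F : Fam 𝓒) {Λ Λ' : Set (Subgroup G)} (hΛ : Λ ∈ 𝓒) (hΛ' : Λ' ∈ 𝓒) (hne : Λ ≠ Λ') {A B : Subgroup G}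
    (hA : A ∈ Λ) (hB : B ∈ Λ') {c : G} (ha : c ∈ A) (hb : c ∈ B) (h2 : c * c = 1) : c = 1 := by
  by_contra h1
  exact hne (F.uniq Λ hΛ Λ' hΛ' c (F.inU_of_mem hΛ hA ha h2 h1) (F.inU_of_mem hΛ' hB hb h2 h1))

/-- a 2-group meets the intersection of two members of different classes trivially -/
theorem inter_two (F : Fam 𝓒) {Λ Λ' : Set (Subgroup G)} (hΛ : Λ ∈ 𝓒) (hΛ' : Λ' ∈ 𝓒) (hne : Λ ≠ Λ') {A B T : Subgroup G}
    (hA : A ∈ Λ) (hB : B ∈ Λ') (hT : IsPGroup 2 T) {c : G} (ha : c ∈ A) (hb : c ∈ B) (hc : c ∈ T) : c = 1 := by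
  by_contra h1
  obtain ⟨n, hn2, hn1⟩ := exists_pow_inv hT hc h1
  exact hn1 (F.inter_inv hΛ hΛ' hne hA hB (pow_mem ha n) (pow_mem hb n) hn2)

/-- two different members of a class have no common involution -/
theorem inter_same (F : Fam 𝓒) {Λ : Set (Subgroup G)} (hΛ : Λ ∈ 𝓒) {A B : Subgroup G}
    (hA : A ∈ Λ) (hB : B ∈ Λ) (hAB : A ≠ B) {c : G} (ha : c ∈ A) (hb : c ∈ B) (h2 : c * c = 1) : c = 1 :=
  F.cent Λ hΛ A hA c ha h2 (fun b hb' => (F.comm Λ hΛ A hA B hB hAB b hb' c hb).symm)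

theorem er_eq [Finite G] (F : Fam 𝓒) {Λ Λ' : Set (Subgroup G)} (hΛ : Λ ∈ 𝓒) (hΛ' : Λ' ∈ 𝓒) {A B : Subgroup G}
    (hA : A ∈ Λ) (hB : B ∈ Λ') : er A = er B := by
  obtain ⟨g, rfl⟩ := F.tr Λ hΛ Λ' hΛ' A hA B hB
  exact (er_cj g A).symm

theorem two_le [Finite G] (F : Fam 𝓒) {Λ : Set (Subgroup G)} (hΛ : Λ ∈ 𝓒) {A : Subgroup G} (hA : A ∈ Λ) : 2 ≤ er A := by
  obtain ⟨a, ha, h2, h1⟩ := F.inv Λ hΛ A hA
  exact two_le_er ha h2 h1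

end Fam

end Cfsg.Agent.OddHalf.D3.ThreeFam
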