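import Cfsg.Agent.OddHalf.D3.TwoGrp
import Cfsg.Agent.SignalizersComponents.QsRankOne

/-!
# Existence of a terminal component of maximal order

`exists_terminal`: if `S : Sys G` has a member which is a component of an involution centralizer, then
some such `K` of maximal order is a component of `C(y)` for every involution `y ∈ C(K)`.
-/

set_option autoImplicit false
set_option linter.style.haveILetI false

namespace Cfsg.Agent.OddHalf.D3

open Subgroup Cfsg Cfsg.Agent.SignalizersComponents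
open scoped commutatorElement

variable {G : Type*} [Group G] [Finite G]

/-- `K` is terminal: a component of `C(y)` for every involution `y ∈ C(K)`. -/
def Terminal (K : Subgroup G) : Prop :=
  ∀ y : G, orderOf y = 2 → y ∈ centralizer (K : Set G) → Comp y K

/-- `K` is paired with a conjugate. -/
def Sys.Paired (S : Sys G) (K : Subgroup G) : Prop :=
  S.M K ∧ ∃ u g : G, orderOf u = 2 ∧ Comp u K ∧ Comp u (cj g K) ∧ cj g K ≠ K

omit [Finite G] in
theorem isPGroup_zpowers {x : G} (hx : orderOf x = 2) : IsPGroup 2 (zpowers x) := by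
  apply IsPGroup.of_card (n := 1)
  rw [Nat.card_zpowers, hx, pow_one]

omit [Finite G] in
/-- If `Comp (c y c⁻¹) K` with `c ∈ C(K)` then `Comp y K`. -/
theorem comp_of_conj {K : Subgroup G} {c y : G} (hc : c ∈ centralizer (K : Set G))
    (h : Comp (c * y * c⁻¹) K) : Comp y K := by
  have h1 := h.conj c⁻¹
  rw [cj_eq_of_mem_centralizer (inv_mem hc)] at h1
  have h2 : c⁻¹ * (c * y * c⁻¹) * c⁻¹⁻¹ = y := by group
  rwa [h2] at h1

omit [Finite G] in
theorem comp_conj_of {K : Subgroup G} {c y : G} (hc : c ∈ centralizer (K : Set G))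
    (h : Comp y K) : Comp (c * y * c⁻¹) K := by
  have h1 := h.conj c
  rwa [cj_eq_of_mem_centralizer hc] at h1

/-- A nontrivial 2-group `T ≤ G` has an involution commuting with `T`. -/
theorem exists_central_involution {T : Subgroup G} (hT : IsPGroup 2 T) (h1 : T ≠ ⊥) :
    ∃ z ∈ T, orderOf z = 2 ∧ ∀ t ∈ T, t * z = z * t := by
  haveI : Fact (Nat.Prime 2) := ⟨Nat.prime_two⟩
  haveI : Nontrivial T := (Subgroup.nontrivial_iff_ne_bot T).mpr h1
  haveI := hT.center_nontrivial
  obtain ⟨k, hk0, hk⟩ := (hT.to_subgroup (center T)).nontrivial_iff_card.mp inferInstance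
  have h2 : 2 ∣ Nat.card (center T) := by
    rw [hk]
    exact dvd_pow_self 2 (by omega)
  obtain ⟨z, hz⟩ := exists_prime_orderOf_dvd_card' 2 h2
  refine ⟨((z : T) : G), (z : T).2, ?_, ?_⟩
  · rw [Subgroup.orderOf_coe, Subgroup.orderOf_coe]
    exact hz
  · intro t ht
    have := Subgroup.mem_center_iff.mp z.2 ⟨t, ht⟩
    exact congrArg Subtype.val this

/-- (1): the central involutions of a large 2-group are good. -/
theorem central_good {S : Sys G} {K T : Subgroup G} (hM : S.M K) (hTK : T ≤ centralizer (K : Set G))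
    (hT : IsPGroup 2 T)
    (hmax : ∀ K' T' : Subgroup G, S.Paired K' → T' ≤ centralizer (K' : Set G) → IsPGroup 2 T' →
      Nat.card T' ≤ Nat.card T)
    {x z : G} (hx : orderOf x = 2) (hxK : Comp x K) (hxT : x ∈ T) (hz : orderOf z = 2) (hzT : z ∈ T)
    (hzc : ∀ t ∈ T, t * z = z * t) : Comp z K := by
  rcases pump hM hx hxK hz (hzc x hxT) (hTK hzT) with h | ⟨D, hDM, hD, hdiag⟩
  · exact h
  exfalso
  have hxz : x * z = z * x := hzc x hxT
  have hDx := hD.conj_of_comm hxz
  have hpair : S.Paired D := ⟨hDM, z, x, hz, hD, hDx, hdiag.ne⟩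
  -- the subgroup `T₀`
  set T0 : Subgroup G := T ⊓ centralizer ((cj x D : Subgroup G) : Set G) ⊓ centralizer (D : Set G)
    with hT0
  have hcard : Nat.card T ≤ 2 * Nat.card T0 := by
    apply card_le_two_mul x
    have hmem : ∀ q ∈ T, cj q D = D → q ∈ T0 := by
      intro q hq hqD
      have h1 := hdiag.centralizes hxz hD (hzc q hq) (hTK hq) hqD
      have h2 := hdiag.centralizes' hxz hD (hzc q hq) (hTK hq) hqD
      exact mem_inf.mpr ⟨mem_inf.mpr ⟨hq, h2⟩, h1⟩
    intro q hq
    rcases hdiag.perm hxz hD (hzc q hq) (hTK hq) with h1 | h1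
    · exact Or.inl (hmem q hq h1)
    · right
      apply hmem _ (mul_mem (inv_mem hxT) hq)
      rw [← cj_cj, h1, cj_inv_cj]
  have h2D : 2 ∣ Nat.card (cj x D) := by
    rw [card_cj]
    exact S.even D hDM.1.1
  obtain ⟨P, hPD, hP2, hP⟩ := exists_two_subgroup hDx.quasi h2D
  obtain ⟨h3, h4⟩ := hP T0 (inf_le_left.trans inf_le_right)
    (hT.to_le (inf_le_left.trans inf_le_left))
  have h5 := hmax D (T0 ⊔ P) hpair (sup_le inf_le_right (hPD.trans (comm_symm hdiag.comm))) h3
  have h6 : 0 < Nat.card T0 := Nat.card_pos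
  omega

/-- No paired members: everything is terminal. -/
theorem terminal_of_not_paired {S : Sys G} {K : Subgroup G} (hM : S.M K)
    (h : ∀ K', ¬ S.Paired K') : Terminal K := by
  haveI : Fact (Nat.Prime 2) := ⟨Nat.prime_two⟩
  have key : ∀ x y : G, orderOf x = 2 → Comp x K → orderOf y = 2 → x * y = y * x →
      y ∈ centralizer (K : Set G) → Comp y K := by
    intro x y hx hxK hy hxy hyK
    rcases pump hM hx hxK hy hxy hyK with h1 | ⟨D, hDM, hD, hdiag⟩
    · exact h1
    · exact absurd ⟨hDM, y, x, hy, hD, hD.conj_of_comm hxy, hdiag.ne⟩ (h D)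
  intro y hy hyK
  obtain ⟨⟨-, x, hx, hxK⟩, -⟩ := id hM
  -- a 2-subgroup of `C(K)` of maximal order
  obtain ⟨T, ⟨hTK, hT⟩, hmax⟩ : ∃ T : Subgroup G, (T ≤ centralizer (K : Set G) ∧ IsPGroup 2 T) ∧
      ∀ R : Subgroup G, (R ≤ centralizer (K : Set G) ∧ IsPGroup 2 R) → Nat.card R ≤ Nat.card T := by
    have hfin : Set.Finite {T : Subgroup G | T ≤ centralizer (K : Set G) ∧ IsPGroup 2 T} :=
      Set.toFinite _
    obtain ⟨T, hT, hT'⟩ := Set.exists_max_image _ (fun T : Subgroup G => Nat.card T) hfin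
      ⟨⊥, bot_le, IsPGroup.of_bot⟩
    exact ⟨T, hT, fun R hR => hT' R hR⟩
  obtain ⟨c, hc, hcx⟩ := exists_conj_into hTK hT (fun R h1 h2 => hmax R ⟨h1, h2⟩)
    (zpowers_le.mpr hxK.mem) (isPGroup_zpowers hx)
  obtain ⟨d, hd, hdy⟩ := exists_conj_into hTK hT (fun R h1 h2 => hmax R ⟨h1, h2⟩)
    (zpowers_le.mpr hyK) (isPGroup_zpowers hy)
  have hx1 := hcx x (mem_zpowers x)
  have hy1 := hdy y (mem_zpowers y)
  have hxK1 := comp_conj_of hc hxK
  have hox : orderOf (c * x * c⁻¹) = 2 := by rw [orderOf_conj, hx]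
  have hoy : orderOf (d * y * d⁻¹) = 2 := by rw [orderOf_conj, hy]
  have hTne : T ≠ ⊥ := by
    intro hbot
    rw [hbot, mem_bot] at hx1
    rw [hx1, orderOf_one] at hox
    omega
  obtain ⟨z, hzT, hz, hzc⟩ := exists_central_involution hT hTne
  have h1 := key _ z hox hxK1 hz (hzc _ hx1) (hTK hzT)
  have h2 := key z _ hz h1 hoy (hzc _ hy1).symm (hTK hy1)
  exact comp_of_conj hd h2

/-- (3b): the involutions of `C(y) ∩ C(K) ∩ C(D)` are bad. -/
theorem bad_of_mem {S : Sys G} {K D : Subgroup G} (hM : S.M K) (hDM : S.M D) {a b c : G}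
    (ha : orderOf a = 2) (haK : Comp a K) (hb : orderOf b = 2) (hab : a * b = b * a)
    (hD : Comp b D) (hdiag : Diag K D a) (hc : orderOf c = 2) (hac : a * c = c * a)
    (hbc : b * c = c * b) (hcK : c ∈ centralizer (K : Set G)) (hcD : c ∈ centralizer (D : Set G))
    (hbK : b ∈ centralizer (K : Set G)) :
    Comp c D ∧ ¬ Comp c K := by
  have hKa : cj a K = K := cj_eq_of_mem_centralizer haK.mem
  have hKb : cj b K = K := cj_eq_of_mem_centralizer hbK
  have hbaK : b ∈ centralizer (K : Set G) := hbK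
  -- first part
  have h1 : Comp c D := by
    rcases pump hDM hb hD hc hbc hcD with h | ⟨F, hFM, hF, hFd⟩
    · exact h
    exfalso
    have hFa := hF.conj_of_comm hac
    have hFb := hF.conj_of_comm hbc
    have hFab := hFb.conj_of_comm hac
    -- `D^a ≤ D` is impossible
    have hnle : ¬ cj a D ≤ D := by
      intro hle
      apply hdiag.ne
      apply Subgroup.eq_of_le_of_card_ge hle
      rw [card_cj]
    have ne1 : cj a F ≠ F := by
      intro hcon
      apply hnle
      rintro _ ⟨d, hd, rfl⟩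
      obtain ⟨f, hf, rfl⟩ := hFd.ex d hd
      change a * (f * (b * f * b⁻¹)) * a⁻¹ ∈ D
      have hf' : a * f * a⁻¹ ∈ F := by
        have := conj_mem_cj (g := a) hf
        rwa [hcon] at this
      have := hFd.mem _ hf'
      have e : a * (f * (b * f * b⁻¹)) * a⁻¹ = (a * f * a⁻¹) * (b * (a * f * a⁻¹) * b⁻¹) := by
        have h2 : b * a = a * b := hab.symm
        have h3 : a⁻¹ * b⁻¹ = b⁻¹ * a⁻¹ := by rw [← mul_inv_rev, ← mul_inv_rev, hab]
        calc a * (f * (b * f * b⁻¹)) * a⁻¹ = a * f * (b * f) * (b⁻¹ * a⁻¹) := by group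
          _ = a * f * (b * f) * (a⁻¹ * b⁻¹) := by rw [h3]
          _ = (a * f * a⁻¹) * ((a * b) * f * a⁻¹ * b⁻¹) := by group
          _ = (a * f * a⁻¹) * ((b * a) * f * a⁻¹ * b⁻¹) := by rw [h2]
          _ = _ := by group
      rw [e]
      exact this
    have ne2 : cj a F ≠ cj b F := by
      intro hcon
      apply hnle
      rintro _ ⟨d, hd, rfl⟩
      obtain ⟨f, hf, rfl⟩ := hFd.ex d hd
      change a * (f * (b * f * b⁻¹)) * a⁻¹ ∈ D
      -- `f^a = g^b` with `g ∈ F`
      have hfa : a * f * a⁻¹ ∈ cj b F := by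
        have := conj_mem_cj (g := a) hf
        rwa [hcon] at this
      have hg : b⁻¹ * (a * f * a⁻¹) * b ∈ F := mem_cj.mp hfa
      set g := b⁻¹ * (a * f * a⁻¹) * b with hgdef
      have hga : a * f * a⁻¹ = b * g * b⁻¹ := by rw [hgdef]; group
      have h3 : a⁻¹ * b⁻¹ = b⁻¹ * a⁻¹ := by rw [← mul_inv_rev, ← mul_inv_rev, hab]
      have e : a * (b * f * b⁻¹) * a⁻¹ = g := by
        calc a * (b * f * b⁻¹) * a⁻¹ = (a * b) * f * (b⁻¹ * a⁻¹) := by group
          _ = (b * a) * f * (a⁻¹ * b⁻¹) := by rw [hab, h3]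
          _ = b * (a * f * a⁻¹) * b⁻¹ := by group
          _ = (b * b) * g * (b * b)⁻¹ := by rw [hga]; group
          _ = g := by rw [sq_of_order hb]; group
      have e2 : a * (f * (b * f * b⁻¹)) * a⁻¹ = (a * f * a⁻¹) * (a * (b * f * b⁻¹) * a⁻¹) := by group
      rw [e2, e, hga]
      have hcomm : g * (b * g * b⁻¹) = (b * g * b⁻¹) * g := comm_elt hFd.comm hg (conj_mem_cj hg)
      rw [← hcomm]
      exact hFd.mem g hg
    have ne3 : cj b F ≠ F := hFd.ne
    have ne4 : cj a (cj b F) ≠ F := by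
      intro hcon
      apply ne2
      have h2 := congrArg (cj a) hcon
      rw [cj_cj, cj_cj, sq_of_order ha, one_mul] at h2
      exact h2.symm
    -- `F` does not commute with `K`
    have hnF : ¬ F ≤ centralizer (K : Set G) := by
      intro hle
      apply not_comm_self hF.quasi
      intro f hf
      rw [mem_centralizer_iff]
      intro g hg
      -- the element of `K`
      have hdK : (g * (b * g * b⁻¹)) * (a * (g * (b * g * b⁻¹)) * a⁻¹) ∈ K :=
        hdiag.mem _ (hFd.mem g hg)
      have c0 := comm_elt hle hf hdK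
      have hgb : b * g * b⁻¹ ∈ cj b F := conj_mem_cj hg
      have hga : a * g * a⁻¹ ∈ cj a F := conj_mem_cj hg
      have hgab : a * (b * g * b⁻¹) * a⁻¹ ∈ cj a (cj b F) := conj_mem_cj hgb
      have c1 : f * (b * g * b⁻¹) = (b * g * b⁻¹) * f := comm_elt (hF.comm hFb ne3.symm) hf hgb
      have c2 : f * (a * g * a⁻¹) = (a * g * a⁻¹) * f := comm_elt (hF.comm hFa ne1.symm) hf hga
      have c3 : f * (a * (b * g * b⁻¹) * a⁻¹) = (a * (b * g * b⁻¹) * a⁻¹) * f :=
        comm_elt (hF.comm hFab ne4.symm) hf hgab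
      -- combine
      set u := (b * g * b⁻¹) * ((a * g * a⁻¹) * (a * (b * g * b⁻¹) * a⁻¹)) with hu
      have e : (g * (b * g * b⁻¹)) * (a * (g * (b * g * b⁻¹)) * a⁻¹) = g * u := by
        rw [hu]; group
      rw [e] at c0
      have cu : Commute f u := Commute.mul_right c1 (Commute.mul_right c2 c3)
      have h2 : f * g = g * f := by
        have h3 : f * g * u = g * f * u := by
          calc f * g * u = f * (g * u) := by group
            _ = g * (u * f) := by rw [c0]; group
            _ = g * (f * u) := by rw [cu.eq]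
            _ = g * f * u := by group
        exact mul_right_cancel h3
      exact h2.symm
    have hnFb : ¬ cj b F ≤ centralizer (K : Set G) := by rw [not_comm_conj hbK]; exact hnF
    have hnFa : ¬ cj a F ≤ centralizer (K : Set G) := by rw [not_comm_conj haK.mem]; exact hnF
    rcases pump hM ha haK hc hac hcK with h2 | ⟨E, hEM, hE, hEd⟩
    · have h3 : F = K := by
        by_contra hne
        exact hnF (hF.comm h2 hne)
      apply ne1
      rw [h3]
      exact hKa
    · have k1 := hEd.eq_or_eq hac hE hF hnF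
      have k2 := hEd.eq_or_eq hac hE hFb hnFb
      have k3 := hEd.eq_or_eq hac hE hFa hnFa
      rcases k1 with k1 | k1 <;> rcases k2 with k2 | k2 <;> rcases k3 with k3 | k3
      all_goals first
        | exact ne3 (k2.trans k1.symm)
        | exact ne1 (k3.trans k1.symm)
        | exact ne2 (k3.trans k2.symm)
  refine ⟨h1, fun hcK' => ?_⟩
  have hne : D ≠ K := by
    intro h
    apply hdiag.ne
    rw [h]
    exact hKa
  exact hdiag.not_comm (h1.comm hcK' hne)

/-- The main step: a paired member with a large 2-group is terminal. -/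
theorem terminal_of_paired {S : Sys G} {K T : Subgroup G} (hpair : S.Paired K)
    (hTK : T ≤ centralizer (K : Set G)) (hT : IsPGroup 2 T)
    (hmax : ∀ K' T' : Subgroup G, S.Paired K' → T' ≤ centralizer (K' : Set G) → IsPGroup 2 T' →
      Nat.card T' ≤ Nat.card T) : Terminal K := by
  haveI : Fact (Nat.Prime 2) := ⟨Nat.prime_two⟩
  have hM := hpair.1
  have hinto : ∀ Q : Subgroup G, Q ≤ centralizer (K : Set G) → IsPGroup 2 Q →
      ∃ c ∈ centralizer (K : Set G), ∀ q ∈ Q, c * q * c⁻¹ ∈ T := fun Q h1 h2 =>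
    exists_conj_into hTK hT (fun R h3 h4 => hmax K R hpair h3 h4) h1 h2
  by_contra hnt
  -- a good involution of `T`
  obtain ⟨x, hx, hxK, hxT⟩ : ∃ x : G, orderOf x = 2 ∧ Comp x K ∧ x ∈ T := by
    obtain ⟨⟨-, x, hx, hxK⟩, -⟩ := id hM
    obtain ⟨c, hc, hcx⟩ := hinto _ (zpowers_le.mpr hxK.mem) (isPGroup_zpowers hx)
    exact ⟨c * x * c⁻¹, by rw [orderOf_conj, hx], comp_conj_of hc hxK, hcx x (mem_zpowers x)⟩
  have hgood : ∀ z ∈ T, orderOf z = 2 → (∀ t ∈ T, t * z = z * t) → Comp z K :=
    fun z hzT hz hzc => central_good hM hTK hT hmax hx hxK hxT hz hzT hzc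
  -- a bad involution `b` of `T` with `|C_T(b)|` maximal
  obtain ⟨b, ⟨hbT, hb, hbK⟩, hbmax⟩ : ∃ b : G, (b ∈ T ∧ orderOf b = 2 ∧ ¬ Comp b K) ∧
      ∀ b' : G, b' ∈ T ∧ orderOf b' = 2 ∧ ¬ Comp b' K →
        Nat.card (T ⊓ centralizer ({b'} : Set G) : Subgroup G) ≤
          Nat.card (T ⊓ centralizer ({b} : Set G) : Subgroup G) := by
    have hfin : Set.Finite {b : G | b ∈ T ∧ orderOf b = 2 ∧ ¬ Comp b K} := Set.toFinite _
    have hne : Set.Nonempty {b : G | b ∈ T ∧ orderOf b = 2 ∧ ¬ Comp b K} := by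
      unfold Terminal at hnt
      push Not at hnt
      obtain ⟨y, hy, hyK, hny⟩ := hnt
      obtain ⟨c, hc, hcy⟩ := hinto _ (zpowers_le.mpr hyK) (isPGroup_zpowers hy)
      exact ⟨c * y * c⁻¹, hcy y (mem_zpowers y), by rw [orderOf_conj, hy],
        fun h => hny (comp_of_conj hc h)⟩
    obtain ⟨b, hb, hb'⟩ := Set.exists_max_image _
      (fun b : G => Nat.card (T ⊓ centralizer ({b} : Set G) : Subgroup G)) hfin hne
    exact ⟨b, hb, hb'⟩
  have hbb := sq_of_order hb
  have hbinv : b⁻¹ = b := inv_eq_of_mul_eq_one_left hbb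
  -- `Z(K)` has odd order
  have hZK : ∀ z ∈ K, orderOf z = 2 → ¬ z ∈ centralizer (K : Set G) := by
    intro z hzK hz hzc
    obtain ⟨c, hc, hcz⟩ := hinto _ (zpowers_le.mpr hzc) (isPGroup_zpowers hz)
    have h1 : c * z * c⁻¹ = z := by
      have := mem_centralizer_iff.mp hc z hzK
      rw [← this]; group
    have hzT : z ∈ T := by
      have := hcz z (mem_zpowers z)
      rwa [h1] at this
    have hzc' : ∀ t ∈ T, t * z = z * t := fun t ht => (mem_centralizer_iff.mp (hTK ht) z hzK).symm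
    have hzgood := hgood z hzT hz hzc'
    rcases pump hM hz hzgood hb (hzc' b hbT).symm (hTK hbT) with h2 | ⟨D, -, hD, hdiag⟩
    · exact hbK h2
    · obtain ⟨d, hd, hzd⟩ := hdiag.ex z hzK
      apply hdiag.ne
      rw [← mem_normalizer_iff_cj, hzd]
      exact mul_mem (le_normalizer hd)
        (centralizer_le_normalizer _ (comm_symm hdiag.comm (conj_mem_cj hd)))
  -- a central involution `a` of `T`
  have hTne : T ≠ ⊥ := by
    intro hbot
    rw [hbot, mem_bot] at hxT
    rw [hxT, orderOf_one] at hx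
    omega
  obtain ⟨a, haT, ha, hac⟩ := exists_central_involution hT hTne
  have haK := hgood a haT ha hac
  have hab : a * b = b * a := (hac b hbT).symm
  rcases pump hM ha haK hb hab (hTK hbT) with h2 | ⟨D, hDM, hD, hdiag⟩
  · exact hbK h2
  set Qb : Subgroup G := T ⊓ centralizer ({b} : Set G) with hQb
  set Q1 : Subgroup G := Qb ⊓ centralizer (D : Set G) with hQ1
  have haQ : a ∈ Qb := mem_inf.mpr ⟨haT, mem_cs.mpr hab⟩
  have hbQ : b ∈ Qb := mem_inf.mpr ⟨hbT, mem_cs.mpr rfl⟩
  have hbQ1 : b ∈ Q1 := mem_inf.mpr ⟨hbQ, hD.mem⟩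
  have hQ1mem : ∀ q ∈ Qb, cj q D = D → q ∈ Q1 := fun q hq hqD =>
    mem_inf.mpr ⟨hq, hdiag.centralizes hab hD (mem_cs.mp (mem_inf.mp hq).2)
      (hTK (mem_inf.mp hq).1) hqD⟩
  have hcard : Nat.card Qb ≤ 2 * Nat.card Q1 := by
    apply card_le_two_mul a
    intro q hq
    rcases hdiag.perm hab hD (mem_cs.mp (mem_inf.mp hq).2) (hTK (mem_inf.mp hq).1) with h1 | h1
    · exact Or.inl (hQ1mem q hq h1)
    · right
      apply hQ1mem _ (mul_mem (inv_mem haQ) hq)
      rw [← cj_cj, h1, cj_inv_cj]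
  -- (1a)
  have h1a : ∀ c ∈ Q1, orderOf c = 2 → Comp c D ∧ ¬ Comp c K := by
    intro c hc hc2
    obtain ⟨hcQ, hcD⟩ := mem_inf.mp hc
    obtain ⟨hcT, hcb⟩ := mem_inf.mp hcQ
    exact bad_of_mem hM hDM ha haK hb hab hD hdiag hc2 (hac c hcT).symm (mem_cs.mp hcb).symm
      (hTK hcT) hcD (hTK hbT)
  -- an element `g ∈ N_T(Qb) - Qb` with `g² ∈ Qb`
  have hQT : Qb ≤ T := inf_le_left
  have hQne : Qb ≠ T := by
    intro h
    apply hbK
    apply hgood b hbT hb
    intro t ht
    rw [← h] at ht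
    exact mem_cs.mp (mem_inf.mp ht).2
  obtain ⟨g, hgT, hgQ, hgn, hg2⟩ : ∃ g ∈ T, g ∉ Qb ∧ cj g Qb = Qb ∧ g * g ∈ Qb := by
    haveI : Group.IsNilpotent T := hT.isNilpotent
    have hlt : Qb.subgroupOf T < ⊤ := by
      rw [lt_top_iff_ne_top]
      intro h
      exact hQne (le_antisymm hQT (subgroupOf_eq_top.mp h))
    have h1 := Group.normalizerCondition_of_isNilpotent (G := T) _ hlt
    obtain ⟨u, hu1, hu2⟩ := SetLike.exists_of_lt h1
    -- the powers of `u`
    obtain ⟨k, hk⟩ := hT u
    have hex : ∃ k : ℕ, (u : T) ^ 2 ^ k ∈ Qb.subgroupOf T := ⟨k, by rw [hk]; exact one_mem _⟩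
    classical
    let k0 := Nat.find hex
    have hk0 : (u : T) ^ 2 ^ k0 ∈ Qb.subgroupOf T := Nat.find_spec hex
    have hk0pos : k0 ≠ 0 := by
      intro h0
      rw [h0, pow_zero, pow_one] at hk0
      exact hu2 hk0
    obtain ⟨k1, hk1⟩ := Nat.exists_eq_succ_of_ne_zero hk0pos
    have hk1' : (u : T) ^ 2 ^ k1 ∉ Qb.subgroupOf T := Nat.find_min hex (by
      change k1 < k0
      omega)
    refine ⟨((u ^ 2 ^ k1 : T) : G), (u ^ 2 ^ k1 : T).2, fun h => hk1' (mem_subgroupOf.mpr h), ?_, ?_⟩
    · have h2 : (u ^ 2 ^ k1 : T) ∈ normalizer ((Qb.subgroupOf T : Subgroup T) : Set T) :=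
        pow_mem hu1 _
      rw [← mem_normalizer_iff_cj]
      rw [mem_normalizer_iff] at h2 ⊢
      intro w
      constructor
      · intro hw
        exact (h2 ⟨w, hQT hw⟩).mp hw
      · intro hw
        have hwT : w ∈ T := by
          have h3 : (((u ^ 2 ^ k1 : T) : G))⁻¹ * (((u ^ 2 ^ k1 : T) : G) * w * (((u ^ 2 ^ k1 : T) : G))⁻¹) *
              ((u ^ 2 ^ k1 : T) : G) ∈ T :=
            mul_mem (mul_mem (inv_mem (u ^ 2 ^ k1 : T).2) (hQT hw)) (u ^ 2 ^ k1 : T).2
          have h4 : (((u ^ 2 ^ k1 : T) : G))⁻¹ * (((u ^ 2 ^ k1 : T) : G) * w * (((u ^ 2 ^ k1 : T) : G))⁻¹) *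
              ((u ^ 2 ^ k1 : T) : G) = w := by group
          rwa [h4] at h3
        exact (h2 ⟨w, hwT⟩).mpr hw
    · have h2 : ((u ^ 2 ^ k1 : T) : G) * ((u ^ 2 ^ k1 : T) : G) = ((u ^ 2 ^ k0 : T) : G) := by
        rw [hk1, pow_succ, pow_mul]
        push_cast
        rw [pow_two]
      rw [h2]
      exact hk0
  have hga : g * a * g⁻¹ = a := by
    rw [hac g hgT]; group
  -- `b^g`
  set b1 : G := g * b * g⁻¹ with hb1
  have hb1Q : b1 ∈ Qb := by
    rw [← hgn]
    exact conj_mem_cj hbQ
  have hb1T : b1 ∈ T := hQT hb1Q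
  have hb1ne : b1 ≠ b := by
    intro h
    apply hgQ
    refine mem_inf.mpr ⟨hgT, mem_cs.mpr ?_⟩
    calc g * b = (g * b * g⁻¹) * g := by group
      _ = b * g := by rw [← hb1, h]
  have hb1c : b1 * b = b * b1 := mem_cs.mp (mem_inf.mp hb1Q).2
  have hb1o : orderOf b1 = 2 := by rw [hb1, orderOf_conj, hb]
  have hb1b1 := sq_of_order hb1o
  have hgb1 : g * b1 * g⁻¹ = b := by
    have h1 : (g * g) * b = b * (g * g) := mem_cs.mp (mem_inf.mp hg2).2
    calc g * b1 * g⁻¹ = (g * g) * b * (g * g)⁻¹ := by rw [hb1]; group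
      _ = b := by rw [h1]; group
  -- `b' = b b^g` is good
  have hb1notin : b1 ∉ Q1 := by
    intro hb1Q1
    have hb'o : orderOf (b * b1) = 2 := by
      apply order_of_sq
      · calc b * b1 * (b * b1) = b * (b1 * b) * b1 := by group
          _ = (b * b) * (b1 * b1) := by rw [hb1c]; group
          _ = 1 := by rw [hbb, hb1b1, one_mul]
      · intro h
        apply hb1ne
        calc b1 = b⁻¹ := (inv_eq_of_mul_eq_one_right h).symm
          _ = b := hbinv
    have hb'Q1 : b * b1 ∈ Q1 := mul_mem hbQ1 hb1Q1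
    have hbad := (h1a _ hb'Q1 hb'o).2
    have hle := hbmax (b * b1) ⟨mul_mem hbT hb1T, hb'o, hbad⟩
    have hlt : Qb < T ⊓ centralizer ({b * b1} : Set G) := by
      refine lt_of_le_of_ne ?_ ?_
      · intro q hq
        refine mem_inf.mpr ⟨hQT hq, mem_cs.mpr ?_⟩
        have c1 : q * b = b * q := mem_cs.mp (mem_inf.mp hq).2
        have c2 : q * b1 = b1 * q := by
          -- `q^(g⁻¹)` commutes with `b`
          have hq' : g⁻¹ * q * g ∈ Qb := by
            rw [← mem_cj, hgn]
            exact hq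
          have c3 : (g⁻¹ * q * g) * b = b * (g⁻¹ * q * g) := mem_cs.mp (mem_inf.mp hq').2
          calc q * b1 = g * ((g⁻¹ * q * g) * b) * g⁻¹ := by rw [hb1]; group
            _ = g * (b * (g⁻¹ * q * g)) * g⁻¹ := by rw [c3]
            _ = b1 * q := by rw [hb1]; group
        calc q * (b * b1) = (q * b) * b1 := by group
          _ = b * (q * b1) := by rw [c1]; group
          _ = b * b1 * q := by rw [c2]; group
      · intro h
        apply hgQ
        rw [h]
        refine mem_inf.mpr ⟨hgT, mem_cs.mpr ?_⟩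
        calc g * (b * b1) = (g * b * g⁻¹) * (g * b1 * g⁻¹) * g := by group
          _ = b1 * b * g := by rw [hgb1]
          _ = b * b1 * g := by rw [hb1c]
    have := Set.ncard_lt_ncard (show ((Qb : Subgroup G) : Set G) ⊂
      ((T ⊓ centralizer ({b * b1} : Set G) : Subgroup G) : Set G) from hlt) (Set.toFinite _)
    exact absurd hle (not_le.mpr this)
  -- `Q1 ⊓ Q1^g = 1`
  have hdisj : Q1 ⊓ cj g Q1 = ⊥ := by
    by_contra hne
    have hP : IsPGroup 2 (Q1 ⊓ cj g Q1 : Subgroup G) :=
      hT.to_le (inf_le_left.trans (inf_le_left.trans hQT))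
    obtain ⟨c, hcm, hc2, -⟩ := exists_central_involution hP hne
    obtain ⟨hc1, hc3⟩ := mem_inf.mp hcm
    have hcT : c ∈ T := hQT (mem_inf.mp hc1).1
    obtain ⟨hcD, hcK⟩ := h1a c hc1 hc2
    -- the conjugate statement
    have hc' : g⁻¹ * c * g ∈ Q1 := mem_cj.mp hc3
    have hc'2 : orderOf (g⁻¹ * c * g) = 2 := by
      have := orderOf_conj g⁻¹ c
      rw [inv_inv] at this
      rw [this, hc2]
    have hcDg : Comp c (cj g D) := by
      have h1 := (h1a _ hc' hc'2).1.conj g
      have h2 : g * (g⁻¹ * c * g) * g⁻¹ = c := by group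
      rwa [h2] at h1
    have hgK : g ∈ centralizer (K : Set G) := hTK hgT
    have hnDg : ¬ cj g D ≤ centralizer (K : Set G) := by
      rw [not_comm_conj hgK]; exact hdiag.not_comm
    have hacc : a * c = c * a := (hac c hcT).symm
    -- `D^g ∈ {D, D^a}`
    have hDg := hdiag.eq_or_eq hacc hcD hcDg hnDg
    have hb1D : b1 ∈ centralizer ((cj g D : Subgroup G) : Set G) := by
      have := hD.mem
      rw [← cj_centralizer]
      exact conj_mem_cj this
    apply hb1notin
    rcases hDg with h | h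
    · rw [h] at hb1D
      exact mem_inf.mpr ⟨hb1Q, hb1D⟩
    · rw [h, ← cj_centralizer, mem_cj] at hb1D
      have h5 : a⁻¹ * b1 * a = b1 := by
        have := hac b1 hb1T
        rw [mul_assoc, this]; group
      rw [h5] at hb1D
      exact mem_inf.mpr ⟨hb1Q, hb1D⟩
  -- orders
  have hcardQ : Nat.card Q1 * Nat.card (cj g Q1) ≤ Nat.card Qb := by
    apply card_mul_le inf_le_left _ hdisj
    have h1 : cj g Q1 ≤ cj g Qb := cj_mono inf_le_left
    rwa [hgn] at h1
  rw [card_cj] at hcardQ
  have hQ1le : Nat.card Q1 ≤ 2 := by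
    have hpos : 0 < Nat.card Q1 := Nat.card_pos
    by_contra hcon
    push Not at hcon
    have : 3 * Nat.card Q1 ≤ Nat.card Q1 * Nat.card Q1 := Nat.mul_le_mul_right _ hcon
    omega
  have hQb4 : Nat.card Qb = 4 := by
    have hle : Nat.card Qb ≤ 4 := by omega
    have hQ2 : IsPGroup 2 Qb := hT.to_le hQT
    obtain ⟨k, hk⟩ := hQ2.exists_card_eq
    -- at least three elements
    have h3 : 3 ≤ Nat.card Qb := by
      have hne : a ≠ b := fun h => hbK (h ▸ haK)
      have hsub : ({1, a, b} : Set G) ⊆ (Qb : Set G) := by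
        rintro w (rfl | rfl | rfl)
        · exact one_mem _
        · exact haQ
        · exact hbQ
      have h4 := Set.ncard_le_ncard hsub (Set.toFinite _)
      have h5 : ({1, a, b} : Set G).ncard = 3 := by
        have ha1 : (1 : G) ≠ a := by
          rintro rfl
          rw [orderOf_one] at ha
          omega
        have hb1' : (1 : G) ≠ b := by
          rintro rfl
          rw [orderOf_one] at hb
          omega
        rw [Set.ncard_insert_of_notMem (by simp [ha1, hb1']) (Set.toFinite _),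
          Set.ncard_pair hne]
      rw [h5] at h4
      exact h4
    have hk' : k = 2 := by
      have h1 : k < 3 := by
        by_contra hcon
        push Not at hcon
        have := Nat.pow_le_pow_right (n := 2) (by norm_num) hcon
        omega
      interval_cases k <;> omega
    rw [hk, hk']
    norm_num
  -- the group `⟨u⟩ × E` in `C(K)`
  obtain ⟨-, u, h, hu, huK, huK', hKne⟩ := hpair
  have hK'C : cj h K ≤ centralizer (K : Set G) := huK'.comm huK hKne
  obtain ⟨E, hEK', hE, hE4⟩ : ∃ E : Subgroup G, E ≤ cj h K ∧ ((∀ e ∈ E, e * e = 1) ∧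
      (∀ e ∈ E, ∀ f ∈ E, e * f = f * e)) ∧ 2 < Nat.card E := by
    have hnrk : ¬ PRankLE 2 1 (cj h K) := by
      intro hrk
      obtain ⟨⟨t, htc, hto⟩, -⟩ := QsRankOne.exists_central_involution huK'.quasi
        (even_iff_two_dvd.mpr (by rw [card_cj]; exact S.even K hM.1.1)) hrk
      have ht1 : (t : G) ∈ cj h K := t.2
      have ht2 : (t : G) ∈ centralizer ((cj h K : Subgroup G) : Set G) := by
        rw [mem_centralizer_iff]
        intro w hw
        exact congrArg Subtype.val (mem_center_iff.mp htc ⟨w, hw⟩)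
      apply hZK (h⁻¹ * t * h) (mem_cj.mp ht1)
      · have := orderOf_conj h⁻¹ (t : G)
        rw [inv_inv] at this
        rw [this, Subgroup.orderOf_coe, hto]
      · rw [← mem_cj, cj_centralizer]
        exact ht2
    unfold PRankLE at hnrk
    push Not at hnrk
    obtain ⟨E, hE1, hE2, hE3⟩ := hnrk
    refine ⟨E.map (cj h K).subtype, map_subtype_le _, ⟨?_, ?_⟩, ?_⟩
    · rintro _ ⟨e, he, rfl⟩
      have := hE2 e he
      rw [pow_two] at this
      exact congrArg Subtype.val this
    · rintro _ ⟨e, he, rfl⟩ _ ⟨f, hf, rfl⟩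
      have := hE1.is_comm.comm ⟨e, he⟩ ⟨f, hf⟩
      exact congrArg (fun w : E => ((w : cj h K) : G)) this
    · have : Nat.card (E.map (cj h K).subtype) = Nat.card E :=
        (Nat.card_congr (E.equivMapOfInjective _ (Subgroup.subtype_injective _)).toEquiv).symm
      rw [this]
      omega
  -- `E ⟨u⟩`
  have huE : u ∉ E := by
    intro h1
    have h2 : u ∈ cj h K := hEK' h1
    have h3 : u ∈ centralizer ((cj h K : Subgroup G) : Set G) := huK'.mem
    apply hZK (h⁻¹ * u * h) (mem_cj.mp h2)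
    · have := orderOf_conj h⁻¹ u
      rw [inv_inv] at this
      rw [this, hu]
    · rw [← mem_cj, cj_centralizer]
      exact h3
  have huu := sq_of_order hu
  have hcu : ∀ e ∈ E, e * u = u * e := fun e he => mem_centralizer_iff.mp huK'.mem e (hEK' he)
  let W : Subgroup G :=
    { carrier := {w | w ∈ E ∨ w * u ∈ E}
      one_mem' := Or.inl (one_mem _)
      mul_mem' := by
        rintro w w' (h1 | h1) (h2 | h2)
        · exact Or.inl (mul_mem h1 h2)
        · right
          rw [mul_assoc]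
          exact mul_mem h1 h2
        · right
          have : w * w' * u = (w * u) * w' := by
            rw [mul_assoc, hcu w' h2, mul_assoc]
          rw [this]
          exact mul_mem h1 h2
        · left
          have : w * w' = (w * u) * (w' * u) := by
            have h3 := hcu _ h2
            calc w * w' = w * ((w' * u) * u) := by rw [mul_assoc, huu, mul_one]
              _ = w * (u * (w' * u)) := by rw [h3]
              _ = (w * u) * (w' * u) := by group
          rw [this]
          exact mul_mem h1 h2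
      inv_mem' := by
        rintro w (h1 | h1)
        · exact Or.inl (inv_mem h1)
        · right
          have h3 := hcu _ (inv_mem h1)
          have huinv : u⁻¹ = u := inv_eq_of_mul_eq_one_left huu
          have : w⁻¹ * u = (w * u)⁻¹ := by
            have h4 : w⁻¹ = u * (w * u)⁻¹ := by group
            rw [h4, ← h3, mul_assoc, huu, mul_one]
          rw [this]
          exact inv_mem h1 }
  have hWmem : ∀ w, w ∈ W ↔ w ∈ E ∨ w * u ∈ E := fun w => Iff.rfl
  have hWsq : ∀ w ∈ W, w * w = 1 := by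
    intro w hw
    rcases hw with h1 | h1
    · exact hE.1 w h1
    · have h3 := hcu _ h1
      have h4 := hE.1 _ h1
      calc w * w = (w * u) * (u * w * u) * u := by
            have : (w * u) * (u * w * u) * u = w * (u * u) * w * (u * u) := by group
            rw [this, huu, mul_one, mul_one]
        _ = (w * u) * ((w * u) * u) * u := by rw [mul_assoc u w u, ← h3]
        _ = ((w * u) * (w * u)) * (u * u) := by group
        _ = 1 := by rw [h4, huu, one_mul]
  have hWC : W ≤ centralizer (K : Set G) := by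
    intro w hw
    rcases hw with h1 | h1
    · exact hK'C (hEK' h1)
    · have h2 := hK'C (hEK' h1)
      have h3 : w = (w * u) * u⁻¹ := by group
      rw [h3]
      exact mul_mem h2 (inv_mem huK.mem)
  have hW2 : IsPGroup 2 W := by
    intro w
    refine ⟨1, ?_⟩
    rw [pow_one, pow_two]
    exact Subtype.ext (hWsq w w.2)
  have hWcard : 4 < Nat.card W := by
    have h1 : E ≤ W := fun e he => Or.inl he
    have h2 : u ∈ W := Or.inr (by rw [huu]; exact one_mem _)
    have h3 : E.relIndex W ≠ 1 := by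
      intro h
      rw [Subgroup.relIndex_eq_one] at h
      exact huE (h h2)
    have h4 : E.relIndex W ≠ 0 := Subgroup.index_ne_zero_of_finite (H := E.subgroupOf W)
    have h5 := Subgroup.card_mul_index (E.subgroupOf W)
    have h6 : Nat.card (E.subgroupOf W) = Nat.card E :=
      Nat.card_congr (Subgroup.subgroupOfEquivOfLe h1).toEquiv
    have h7 : (E.subgroupOf W).index = E.relIndex W := rfl
    rw [h6, h7] at h5
    rw [← h5]
    have h8 : 2 ≤ E.relIndex W := by omega
    calc 4 < 3 * 2 := by norm_num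
      _ ≤ Nat.card E * E.relIndex W := Nat.mul_le_mul hE4 h8
  -- move into `T`
  obtain ⟨c, hc, hcW⟩ := hinto W hWC hW2
  have hle : cj c W ≤ T := by
    rintro _ ⟨w, hw, rfl⟩
    exact hcW w hw
  have h4 := card_le_four_of_centralizer (T := T) hT (b := ⟨b, hbT⟩) (E := (cj c W).subgroupOf T) (by
    have e : (centralizer ({(⟨b, hbT⟩ : T)} : Set T)).map T.subtype = Qb := by
      ext w
      constructor
      · rintro ⟨v, hv, rfl⟩
        exact mem_inf.mpr ⟨v.2, mem_cs.mpr (congrArg Subtype.val (mem_cs.mp hv))⟩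
      · intro hw
        obtain ⟨hw1, hw2⟩ := mem_inf.mp hw
        exact ⟨⟨w, hw1⟩, mem_cs.mpr (Subtype.ext (mem_cs.mp hw2)), rfl⟩
    have e2 : Nat.card (centralizer ({(⟨b, hbT⟩ : T)} : Set T)) =
        Nat.card ((centralizer ({(⟨b, hbT⟩ : T)} : Set T)).map T.subtype) :=
      Nat.card_congr ((centralizer ({(⟨b, hbT⟩ : T)} : Set T)).equivMapOfInjective _
        (Subgroup.subtype_injective T)).toEquiv
    rw [e2, e, hQb4]) (by
    rintro e he
    obtain ⟨w, hw, hwe⟩ := (he : (e : G) ∈ cj c W)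
    apply Subtype.ext
    change (e : G) * e = 1
    have h5 : c * w * c⁻¹ = e := hwe
    rw [← h5]
    calc c * w * c⁻¹ * (c * w * c⁻¹) = c * (w * w) * c⁻¹ := by group
      _ = 1 := by rw [hWsq w hw]; group)
  have h5 : Nat.card ((cj c W).subgroupOf T) = Nat.card W := by
    rw [Nat.card_congr (Subgroup.subgroupOfEquivOfLe hle).toEquiv, card_cj]
  omega

/-- THEOREM A: existence of a terminal component of maximal order. -/
theorem exists_terminal (S : Sys G) (hne : ∃ K, S.L K) : ∃ K, S.M K ∧ Terminal K := by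
  haveI : Fact (Nat.Prime 2) := ⟨Nat.prime_two⟩
  have hM : ∃ K, S.M K := by
    have hfin : Set.Finite {K : Subgroup G | S.L K} := Set.toFinite _
    obtain ⟨K, hK, hK'⟩ := Set.exists_max_image _ (fun K : Subgroup G => Nat.card K) hfin hne
    exact ⟨K, hK, hK'⟩
  by_cases hp : ∃ K, S.Paired K
  · have hfin : Set.Finite {p : Subgroup G × Subgroup G | S.Paired p.1 ∧
        p.2 ≤ centralizer (p.1 : Set G) ∧ IsPGroup 2 p.2} := Set.toFinite _
    obtain ⟨K0, hK0⟩ := hp
    obtain ⟨⟨K, T⟩, ⟨h1, h2, h3⟩, h4⟩ := Set.exists_max_image _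
      (fun p : Subgroup G × Subgroup G => Nat.card p.2) hfin ⟨(K0, ⊥), hK0, bot_le, IsPGroup.of_bot⟩
    exact ⟨K, h1.1, terminal_of_paired h1 h2 h3 (fun K' T' h5 h6 h7 => h4 (K', T') ⟨h5, h6, h7⟩)⟩
  · push Not at hp
    obtain ⟨K, hK⟩ := hM
    exact ⟨K, hK, terminal_of_not_paired hK hp⟩

end Cfsg.Agent.OddHalf.D3
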