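import Mathlib

/-!
# ODD D3 (iii): families of commuting classes (text of helper133, bb ODD 7641), definitions and tools
-/

set_option autoImplicit false

namespace Cfsg.Agent.OddHalf.D3.ThreeDefs

open scoped commutatorElement

universe u

variable {G : Type u} [Group G]

/-- conjugate subgroup `g L g⁻¹` -/
def cj (g : G) (L : Subgroup G) : Subgroup G := L.map (MulAut.conj g).toMonoidHom

theorem mem_cj {g x : G} {L : Subgroup G} : x ∈ cj g L ↔ g⁻¹ * x * g ∈ L := by
  unfold cj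
  rw [Subgroup.mem_map]
  constructor
  · rintro ⟨y, hy, rfl⟩
    have : g⁻¹ * (MulAut.conj g).toMonoidHom y * g = y := by
      change g⁻¹ * (g * y * g⁻¹) * g = y
      group
    rw [this]; exact hy
  · intro h
    refine ⟨_, h, ?_⟩
    change g * (g⁻¹ * x * g) * g⁻¹ = x
    group

theorem conj_mem_cj {g x : G} {L : Subgroup G} (hx : x ∈ L) : g * x * g⁻¹ ∈ cj g L := by
  rw [mem_cj]
  have : g⁻¹ * (g * x * g⁻¹) * g = x := by group
  rwa [this]

theorem cj_mul (g h : G) (L : Subgroup G) : cj (g * h) L = cj g (cj h L) := by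
  ext x
  rw [mem_cj, mem_cj, mem_cj]
  have : (g * h)⁻¹ * x * (g * h) = h⁻¹ * (g⁻¹ * x * g) * h := by group
  rw [this]

theorem cj_one (L : Subgroup G) : cj (1 : G) L = L := by
  ext x
  rw [mem_cj]; simp

theorem cj_inv_cj (g : G) (L : Subgroup G) : cj g⁻¹ (cj g L) = L := by
  rw [← cj_mul, inv_mul_cancel, cj_one]

theorem cj_cj_inv (g : G) (L : Subgroup G) : cj g (cj g⁻¹ L) = L := by
  rw [← cj_mul, mul_inv_cancel, cj_one]

theorem cj_inv_eq {g : G} {L : Subgroup G} (h : cj g L = L) : cj g⁻¹ L = L := by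
  conv_lhs => rw [← h]
  exact cj_inv_cj g L

theorem cj_mono {g : G} {L M : Subgroup G} (h : L ≤ M) : cj g L ≤ cj g M := by
  intro x hx
  rw [mem_cj] at hx ⊢
  exact h hx

theorem cj_injective (g : G) : Function.Injective (cj g : Subgroup G → Subgroup G) := by
  intro L M h
  have := congrArg (cj g⁻¹) h
  rwa [cj_inv_cj, cj_inv_cj] at this

theorem conj_mem_of_cj {g x : G} {L : Subgroup G} (h : cj g L = L) (hx : x ∈ L) : g * x * g⁻¹ ∈ L := by
  have := conj_mem_cj (g := g) hx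
  rwa [h] at this

theorem cj_eq_of_mem {g : G} {L : Subgroup G} (h : g ∈ L) : cj g L = L := by
  ext x
  rw [mem_cj]
  constructor
  · intro hx
    have : x = g * (g⁻¹ * x * g) * g⁻¹ := by group
    rw [this]
    exact mul_mem (mul_mem h hx) (inv_mem h)
  · intro hx
    exact mul_mem (mul_mem (inv_mem h) hx) h

theorem cj_eq_of_comm {g : G} {L : Subgroup G} (h : ∀ x ∈ L, g * x = x * g) : cj g L = L := by
  ext x
  rw [mem_cj]
  constructor
  · intro hx
    have h1 := h _ hx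
    have : x = g * (g⁻¹ * x * g) * g⁻¹ := by group
    rw [this, h1]
    have e : g⁻¹ * x * g * g * g⁻¹ = g⁻¹ * x * g := by group
    rw [e]; exact hx
  · intro hx
    have h1 := h _ hx
    have : g⁻¹ * x * g = x := by rw [mul_assoc, ← h1]; group
    rw [this]; exact hx

/-- two conjugations compose: `g` and `h` stabilise `L` -/
theorem cj_mul_eq {g h : G} {L : Subgroup G} (hg : cj g L = L) (hh : cj h L = L) : cj (g * h) L = L := by
  rw [cj_mul, hh, hg]

theorem card_cj (g : G) (L : Subgroup G) : Nat.card (cj g L) = Nat.card L :=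
  (Nat.card_congr (L.equivMapOfInjective _ (MulAut.conj g).injective).toEquiv).symm

/-- conjugate family -/
def cjs (g : G) (Λ : Set (Subgroup G)) : Set (Subgroup G) := cj g '' Λ

theorem cj_mem_cjs {g : G} {Λ : Set (Subgroup G)} {L : Subgroup G} (h : L ∈ Λ) : cj g L ∈ cjs g Λ :=
  Set.mem_image_of_mem _ h

theorem cjs_mul (g h : G) (Λ : Set (Subgroup G)) : cjs (g * h) Λ = cjs g (cjs h Λ) := by
  unfold cjs
  rw [Set.image_image]
  apply Set.image_congr
  intro L _
  exact cj_mul g h L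

theorem cjs_one (Λ : Set (Subgroup G)) : cjs (1 : G) Λ = Λ := by
  unfold cjs
  have : (cj (1 : G) : Subgroup G → Subgroup G) = id := funext fun L => cj_one L
  rw [this, Set.image_id]

theorem cjs_inv_cjs (g : G) (Λ : Set (Subgroup G)) : cjs g⁻¹ (cjs g Λ) = Λ := by
  rw [← cjs_mul, inv_mul_cancel, cjs_one]

theorem cjs_cjs_inv (g : G) (Λ : Set (Subgroup G)) : cjs g (cjs g⁻¹ Λ) = Λ := by
  rw [← cjs_mul, mul_inv_cancel, cjs_one]

/-- the stabiliser `H` of `Λ` -/
def St (Λ : Set (Subgroup G)) : Subgroup G where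
  carrier := {g | cjs g Λ = Λ}
  one_mem' := cjs_one Λ
  mul_mem' := by
    intro a b ha hb
    change cjs (a * b) Λ = Λ
    rw [cjs_mul, hb, ha]
  inv_mem' := by
    intro a ha
    change cjs a⁻¹ Λ = Λ
    conv_lhs => rw [← (ha : cjs a Λ = Λ)]
    exact cjs_inv_cjs a Λ

theorem mem_St {Λ : Set (Subgroup G)} {g : G} : g ∈ St Λ ↔ cjs g Λ = Λ := Iff.rfl

theorem mem_St_cjs {Λ : Set (Subgroup G)} {g x : G} : x ∈ St (cjs g Λ) ↔ g⁻¹ * x * g ∈ St Λ := by
  rw [mem_St, mem_St]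
  constructor
  · intro h
    rw [mul_assoc, cjs_mul, cjs_mul, h, cjs_inv_cjs]
  · intro h
    have e : x * g = g * (g⁻¹ * x * g) := by group
    rw [← cjs_mul, e, cjs_mul, h]

/-! ### Elementary abelian 2-subgroups -/

/-- largest order of an elementary abelian 2-subgroup of `X` -/
noncomputable def er (X : Subgroup G) : ℕ :=
  sSup {n | ∃ E : Subgroup G, E ≤ X ∧ (∀ x ∈ E, x * x = 1) ∧ Nat.card E = n}

theorem er_bdd [Finite G] (X : Subgroup G) :
    BddAbove {n | ∃ E : Subgroup G, E ≤ X ∧ (∀ x ∈ E, x * x = 1) ∧ Nat.card E = n} := by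
  refine ⟨Nat.card G, ?_⟩
  rintro n ⟨E, -, -, rfl⟩
  exact Nat.card_le_card_of_injective _ E.subtype_injective

theorem le_er [Finite G] {X E : Subgroup G} (h : E ≤ X) (hE : ∀ x ∈ E, x * x = 1) : Nat.card E ≤ er X :=
  le_csSup (er_bdd X) ⟨E, h, hE, rfl⟩

theorem exists_er [Finite G] (X : Subgroup G) :
    ∃ E : Subgroup G, E ≤ X ∧ (∀ x ∈ E, x * x = 1) ∧ Nat.card E = er X := by
  refine Nat.sSup_mem ?_ (er_bdd X)
  refine ⟨1, ⊥, bot_le, ?_, ?_⟩
  · intro x hx; rw [Subgroup.mem_bot] at hx; subst hx; simp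
  · simp

theorem er_mono [Finite G] {X Y : Subgroup G} (h : X ≤ Y) : er X ≤ er Y := by
  obtain ⟨E, hE, h1, h2⟩ := exists_er X
  rw [← h2]
  exact le_er (hE.trans h) h1

theorem er_cj_le [Finite G] (g : G) (X : Subgroup G) : er X ≤ er (cj g X) := by
  obtain ⟨E, hE, h1, h2⟩ := exists_er X
  rw [← h2, ← card_cj g E]
  refine le_er (cj_mono hE) ?_
  intro x hx
  rw [mem_cj] at hx
  have := h1 _ hx
  calc x * x = g * ((g⁻¹ * x * g) * (g⁻¹ * x * g)) * g⁻¹ := by group
    _ = 1 := by rw [this]; group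

theorem er_cj [Finite G] (g : G) (X : Subgroup G) : er (cj g X) = er X := by
  refine le_antisymm ?_ (er_cj_le g X)
  have := er_cj_le g⁻¹ (cj g X)
  rwa [cj_inv_cj] at this

theorem two_le_er [Finite G] {X : Subgroup G} {x : G} (hx : x ∈ X) (h2 : x * x = 1) (h1 : x ≠ 1) : 2 ≤ er X := by
  have hE : ∀ y ∈ Subgroup.zpowers x, y * y = 1 := by
    intro y hy
    obtain ⟨k, rfl⟩ := Subgroup.mem_zpowers_iff.mp hy
    rw [← zpow_add, ← two_mul, zpow_mul]
    have : x ^ (2 : ℤ) = 1 := by rw [zpow_ofNat, pow_two]; exact h2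
    rw [this, one_zpow]
  have h3 : Subgroup.zpowers x ≤ X := by rw [Subgroup.zpowers_le]; exact hx
  refine le_trans ?_ (le_er h3 hE)
  rw [Nat.card_zpowers, orderOf_eq_prime (by rw [pow_two]; exact h2) h1]

theorem one_le_er [Finite G] (X : Subgroup G) : 1 ≤ er X := by
  obtain ⟨E, -, -, h2⟩ := exists_er X
  rw [← h2]
  exact Nat.card_pos

/-- an involution in `X` from `2 ≤ er X` -/
theorem exists_inv_of_er [Finite G] {X : Subgroup G} (h : 2 ≤ er X) : ∃ x ∈ X, x * x = 1 ∧ x ≠ 1 := by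
  obtain ⟨E, hE, h1, h2⟩ := exists_er X
  rw [← h2] at h
  have : Nontrivial E := by
    rw [← Finite.one_lt_card_iff_nontrivial]
    omega
  obtain ⟨⟨x, hx⟩, hx1⟩ := exists_ne (1 : E)
  exact ⟨x, hE hx, h1 x hx, fun h => hx1 (Subtype.ext h)⟩

theorem inv_of_sq {x : G} (h : x * x = 1) : x⁻¹ = x := inv_eq_of_mul_eq_one_right h

theorem comm_of_sq {E : Subgroup G} (h : ∀ x ∈ E, x * x = 1) {x y : G} (hx : x ∈ E) (hy : y ∈ E) : x * y = y * x := by
  have h1 := h _ (mul_mem hx hy)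
  have h2 : x * y = (x * y)⁻¹ := (inv_of_sq h1).symm
  rw [h2, mul_inv_rev, inv_of_sq (h x hx), inv_of_sq (h y hy)]

theorem isPGroup_of_sq {E : Subgroup G} (h : ∀ x ∈ E, x * x = 1) : IsPGroup 2 E := by
  intro x
  refine ⟨1, Subtype.ext ?_⟩
  rw [pow_one, pow_two]
  exact h _ x.2

/-- a nontrivial element of a 2-group has a power which is an involution -/
theorem exists_pow_inv {T : Subgroup G} (hT : IsPGroup 2 T) {c : G} (hc : c ∈ T) (hc1 : c ≠ 1) :
    ∃ n : ℕ, c ^ n * c ^ n = 1 ∧ c ^ n ≠ 1 := by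
  obtain ⟨k, hk⟩ := hT ⟨c, hc⟩
  have hk' : c ^ 2 ^ k = 1 := congrArg Subtype.val hk
  induction k with
  | zero => exact absurd (by simpa using hk') hc1
  | succ k ih =>
    by_cases h : c ^ 2 ^ k = 1
    · exact ih (Subtype.ext h) h
    · refine ⟨2 ^ k, ?_, h⟩
      rw [← pow_add, ← two_mul, ← pow_succ']
      exact hk'

/-! ### Sylow tools, all inside `G` -/

theorem exists_syl [Finite G] {K W : Subgroup G} (hW : IsPGroup 2 W) (hWK : W ≤ K) :
    ∃ T : Subgroup G, T ≤ K ∧ IsPGroup 2 T ∧ W ≤ T ∧ ∀ R : Subgroup G, R ≤ K → IsPGroup 2 R → ∃ k ∈ K, cj k R ≤ T := by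
  have hW' : IsPGroup 2 (W.subgroupOf K) := hW.of_injective (Subgroup.subgroupOfEquivOfLe hWK).toMonoidHom
    (Subgroup.subgroupOfEquivOfLe hWK).injective
  obtain ⟨P, hP⟩ := hW'.exists_le_sylow
  refine ⟨(P : Subgroup K).map K.subtype, Subgroup.map_subtype_le _, P.2.map _, ?_, ?_⟩
  · intro w hw
    exact ⟨⟨w, hWK hw⟩, hP hw, rfl⟩
  · intro R hR hR2
    have hR' : IsPGroup 2 (R.subgroupOf K) := hR2.of_injective (Subgroup.subgroupOfEquivOfLe hR).toMonoidHom
      (Subgroup.subgroupOfEquivOfLe hR).injective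
    obtain ⟨P2, hP2⟩ := hR'.exists_le_sylow
    obtain ⟨k, hk⟩ := MulAction.exists_smul_eq K P2 P
    refine ⟨k, k.2, ?_⟩
    intro x hx
    rw [mem_cj] at hx
    have hxK : x ∈ K := by
      have : x = (k : G) * ((k : G)⁻¹ * x * k) * (k : G)⁻¹ := by group
      rw [this]
      exact mul_mem (mul_mem k.2 (hR hx)) (inv_mem k.2)
    refine ⟨⟨x, hxK⟩, ?_, rfl⟩
    have h1 : k⁻¹ * (⟨x, hxK⟩ : K) * k ∈ (P2 : Subgroup K) := hP2 (by
      rw [Subgroup.mem_subgroupOf]; exact hx)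
    rw [← hk]
    change (⟨x, hxK⟩ : K) ∈ ((k • P2 : Sylow 2 K) : Subgroup K)
    rw [Sylow.coe_subgroup_smul, Subgroup.mem_pointwise_smul_iff_inv_smul_mem]
    rw [← map_inv, MulAut.smul_def, MulAut.conj_apply, inv_inv]
    exact h1

/-- **invariant Sylow subgroups**: a 2-group `W` normalising `X` normalises a Sylow 2-subgroup `P` of `X` -/
theorem exists_inv_syl [Finite G] {X W : Subgroup G} (hW : IsPGroup 2 W) (hWX : ∀ w ∈ W, cj w X = X) :
    ∃ P : Subgroup G, P ≤ X ∧ IsPGroup 2 P ∧ (∀ w ∈ W, cj w P = P) ∧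
      ∀ R : Subgroup G, R ≤ X → IsPGroup 2 R → ∃ x ∈ X, cj x R ≤ P := by
  have hnorm : ∀ k ∈ X ⊔ W, cj k X = X := by
    have : X ⊔ W ≤ Subgroup.normalizer (X : Set G) := by
      refine sup_le Subgroup.le_normalizer ?_
      intro w hw
      rw [Subgroup.mem_normalizer_iff]
      intro h
      have h1 : cj w⁻¹ X = X := cj_inv_eq (hWX w hw)
      have h2 : w * h * w⁻¹ ∈ X ↔ h ∈ cj w⁻¹ X := by
        rw [mem_cj, inv_inv]
      rw [h2, h1]
    intro k hk
    have hk' := Subgroup.mem_normalizer_iff.mp (inv_mem (this hk))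
    ext x
    rw [mem_cj]
    have := hk' x
    rw [inv_inv] at this
    exact this.symm
  have hXW : ∀ k ∈ X ⊔ W, ∃ w ∈ W, ∃ x ∈ X, k = w * x := by
    intro k hk
    have hsup : X ⊔ W ≤ (Subgroup.normalizer (X : Set G)) := by
      intro y hy
      rw [Subgroup.mem_normalizer_iff]
      intro h
      have h1 : cj y⁻¹ X = X := cj_inv_eq (hnorm y hy)
      have h2 : y * h * y⁻¹ ∈ X ↔ h ∈ cj y⁻¹ X := by rw [mem_cj, inv_inv]
      rw [h2, h1]
    have hle : X ⊔ W ≤ { carrier := {k | ∃ w ∈ W, ∃ x ∈ X, k = w * x}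
                         one_mem' := ⟨1, one_mem _, 1, one_mem _, by simp⟩
                         mul_mem' := by
                           rintro _ _ ⟨w, hw, x, hx, rfl⟩ ⟨w', hw', x', hx', rfl⟩
                           refine ⟨w * w', mul_mem hw hw', (w'⁻¹ * x * w') * x', mul_mem ?_ hx', by group⟩
                           have := conj_mem_of_cj (cj_inv_eq (hWX w' hw')) hx
                           rwa [inv_inv] at this
                         inv_mem' := by
                           rintro _ ⟨w, hw, x, hx, rfl⟩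
                           refine ⟨w⁻¹, inv_mem hw, w * x⁻¹ * w⁻¹, conj_mem_of_cj (hWX w hw) (inv_mem hx), ?_⟩
                           group } := by
      refine sup_le ?_ ?_
      · intro x hx; exact ⟨1, one_mem _, x, hx, by simp⟩
      · intro w hw; exact ⟨w, hw, 1, one_mem _, by simp⟩
    exact hle hk
  obtain ⟨T, hTK, hT, hWT, hconj⟩ := exists_syl hW (le_sup_right : W ≤ X ⊔ W)
  refine ⟨T ⊓ X, inf_le_right, hT.to_le inf_le_left, ?_, ?_⟩
  · intro w hw
    have h1 : cj w T = T := cj_eq_of_mem (hWT hw)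
    have h2 := hWX w hw
    ext x
    rw [mem_cj, Subgroup.mem_inf, Subgroup.mem_inf, ← mem_cj, ← mem_cj, h1, h2]
  · intro R hR hR2
    obtain ⟨k, hk, hkR⟩ := hconj R (hR.trans le_sup_left) hR2
    obtain ⟨w, hw, x, hx, rfl⟩ := hXW k hk
    refine ⟨x, hx, ?_⟩
    intro y hy
    rw [Subgroup.mem_inf]
    constructor
    · have h1 : w * y * w⁻¹ ∈ cj (w * x) R := by
        rw [cj_mul]; exact conj_mem_cj hy
      have h2 := hkR h1
      have : y = w⁻¹ * (w * y * w⁻¹) * w := by group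
      rw [this]
      exact mul_mem (mul_mem (inv_mem (hWT hw)) h2) (hWT hw)
    · rw [mem_cj] at hy
      have : y = x * (x⁻¹ * y * x) * x⁻¹ := by group
      rw [this]
      exact mul_mem (mul_mem hx (hR hy)) (inv_mem hx)

/-- an involution acting on a group with an involution fixes an involution -/
theorem exists_fixed_inv [Finite G] {X : Subgroup G} {u : G} (hu : u * u = 1) (huX : cj u X = X)
    (hX : ∃ x ∈ X, x * x = 1 ∧ x ≠ 1) : ∃ x ∈ X, x * x = 1 ∧ x ≠ 1 ∧ u * x = x * u := by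
  have hE : ∀ y ∈ Subgroup.zpowers u, y * y = 1 := by
    intro y hy
    obtain ⟨k, rfl⟩ := Subgroup.mem_zpowers_iff.mp hy
    rw [← zpow_add, ← two_mul, zpow_mul]
    have : u ^ (2 : ℤ) = 1 := by rw [zpow_ofNat, pow_two]; exact hu
    rw [this, one_zpow]
  have hW : IsPGroup 2 (Subgroup.zpowers u) := isPGroup_of_sq hE
  have hWX : ∀ w ∈ Subgroup.zpowers u, cj w X = X := by
    intro w hw
    obtain ⟨k, rfl⟩ := Subgroup.mem_zpowers_iff.mp hw
    have h1 : Subgroup.zpowers u ≤ Subgroup.normalizer (X : Set G) := by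
      rw [Subgroup.zpowers_le, Subgroup.mem_normalizer_iff]
      intro h
      have h1 : cj u⁻¹ X = X := cj_inv_eq huX
      have h2 : u * h * u⁻¹ ∈ X ↔ h ∈ cj u⁻¹ X := by rw [mem_cj, inv_inv]
      rw [h2, h1]
    have hk' := Subgroup.mem_normalizer_iff.mp (inv_mem (h1 hw))
    ext x
    rw [mem_cj]
    have := hk' x
    rw [inv_inv] at this
    exact this.symm
  obtain ⟨P, hPX, hP, hinv, hcon⟩ := exists_inv_syl hW hWX
  obtain ⟨x, hx, hx2, hx1⟩ := hX
  have hxz : ∀ y ∈ Subgroup.zpowers x, y * y = 1 := by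
    intro y hy
    obtain ⟨k, rfl⟩ := Subgroup.mem_zpowers_iff.mp hy
    rw [← zpow_add, ← two_mul, zpow_mul]
    have : x ^ (2 : ℤ) = 1 := by rw [zpow_ofNat, pow_two]; exact hx2
    rw [this, one_zpow]
  obtain ⟨z, hz, hzP⟩ := hcon (Subgroup.zpowers x) (by rw [Subgroup.zpowers_le]; exact hx) (isPGroup_of_sq hxz)
  have hyP : z * x * z⁻¹ ∈ P := hzP (conj_mem_cj (Subgroup.mem_zpowers x))
  have huP := hinv u (Subgroup.mem_zpowers u)
  by_contra hcon2
  push Not at hcon2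
  -- fixed elements of `P` are trivial
  have hfix : ∀ y ∈ P, u * y = y * u → y = 1 := by
    intro y hy hyc
    by_contra hy1
    obtain ⟨n, hn2, hn1⟩ := exists_pow_inv hP hy hy1
    refine hcon2 (y ^ n) (hPX (pow_mem hy n)) hn2 hn1 ?_
    have : Commute u y := hyc
    exact (this.pow_right n).eq
  let ψ : P → P := fun y => ⟨(y : G)⁻¹ * (u * y * u⁻¹), mul_mem (inv_mem y.2) (conj_mem_of_cj huP y.2)⟩
  have hψ : Function.Injective ψ := by
    intro y y' h
    have h1 : (y : G)⁻¹ * (u * y * u⁻¹) = (y' : G)⁻¹ * (u * y' * u⁻¹) := congrArg Subtype.val h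
    have h2 : u * ((y' : G) * (y : G)⁻¹) = ((y' : G) * (y : G)⁻¹) * u := by
      calc u * ((y' : G) * (y : G)⁻¹) = (y' : G) * ((y' : G)⁻¹ * (u * y' * u⁻¹)) * u * (y : G)⁻¹ := by group
        _ = (y' : G) * ((y : G)⁻¹ * (u * y * u⁻¹)) * u * (y : G)⁻¹ := by rw [h1]
        _ = _ := by group
    have h3 := hfix _ (mul_mem y'.2 (inv_mem y.2)) h2
    exact Subtype.ext (mul_inv_eq_one.mp h3).symm
  have hψs : Function.Surjective ψ := Finite.injective_iff_surjective.mp hψ
  obtain ⟨y, hy⟩ := hψs ⟨z * x * z⁻¹, hyP⟩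
  have hy' : (y : G)⁻¹ * (u * y * u⁻¹) = z * x * z⁻¹ := congrArg Subtype.val hy
  have hinv2 : (z * x * z⁻¹) * (z * x * z⁻¹) = 1 := by
    calc (z * x * z⁻¹) * (z * x * z⁻¹) = z * (x * x) * z⁻¹ := by group
      _ = 1 := by rw [hx2]; group
  have hinvu : u * (z * x * z⁻¹) * u⁻¹ = (z * x * z⁻¹)⁻¹ := by
    rw [← hy']
    calc u * ((y : G)⁻¹ * (u * y * u⁻¹)) * u⁻¹ = (u * y * u⁻¹)⁻¹ * ((u * u) * y * (u * u)⁻¹) := by group
      _ = (u * y * u⁻¹)⁻¹ * y := by rw [hu]; group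
      _ = _ := by group
  have h4 : z * x * z⁻¹ = 1 := by
    refine hfix _ hyP ?_
    rw [inv_of_sq hinv2] at hinvu
    calc u * (z * x * z⁻¹) = (u * (z * x * z⁻¹) * u⁻¹) * u := by group
      _ = _ := by rw [hinvu]
  exact hx1 (by
    have : x = z⁻¹ * (z * x * z⁻¹) * z := by group
    rw [this, h4]; group)

end Cfsg.Agent.OddHalf.D3.ThreeDefs
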