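import Cfsg.Agent.OddHalf.D3.Pump
import Cfsg.Agent.S0112
import Cfsg.Agent.S0113
import Cfsg.Agent.SmallSimple.EvenOrder
import Cfsg.Agent.SignalizersComponents.CompBasic

/-!
# Facts on 2-groups and on Sylow 2-subgroups of quasisimple groups
-/

set_option autoImplicit false
set_option linter.style.haveILetI false

namespace Cfsg.Agent.OddHalf.D3

open Subgroup Cfsg Cfsg.Agent.SignalizersComponents
open scoped commutatorElement

section TwoGroups

variable {G : Type*} [Group G] [Finite G]

/-- A 2-subgroup `T ≤ C` of maximal order contains a `C`-conjugate of every 2-subgroup of `C`. -/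
theorem exists_conj_into {C T Q : Subgroup G} (hTC : T ≤ C) (hT : IsPGroup 2 T)
    (hmax : ∀ R : Subgroup G, R ≤ C → IsPGroup 2 R → Nat.card R ≤ Nat.card T) (hQC : Q ≤ C)
    (hQ : IsPGroup 2 Q) : ∃ c ∈ C, ∀ q ∈ Q, c * q * c⁻¹ ∈ T := by
  haveI : Fact (Nat.Prime 2) := ⟨Nat.prime_two⟩
  have hT' : IsPGroup 2 (T.subgroupOf C) := hT.comap_subtype
  have hQ' : IsPGroup 2 (Q.subgroupOf C) := hQ.comap_subtype
  obtain ⟨P, hP⟩ := hT'.exists_le_sylow
  obtain ⟨R, hR⟩ := hQ'.exists_le_sylow
  have hPT : (P : Subgroup C) = T.subgroupOf C := by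
    refine (SetLike.coe_injective (Set.eq_of_subset_of_ncard_le hP ?_ (Set.toFinite _))).symm
    have h1 : Nat.card ((P : Subgroup C).map C.subtype) ≤ Nat.card T :=
      hmax _ (map_subtype_le _) (P.isPGroup'.map _)
    have h2 : Nat.card ((P : Subgroup C).map C.subtype) = Nat.card (P : Subgroup C) :=
      Nat.card_congr ((P : Subgroup C).equivMapOfInjective _ (Subgroup.subtype_injective C)).symm.toEquiv
    have h3 : Nat.card (T.subgroupOf C) = Nat.card T :=
      Nat.card_congr (Subgroup.subgroupOfEquivOfLe hTC).toEquiv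
    rw [h2, ← h3] at h1
    exact h1
  obtain ⟨c, hc⟩ := MulAction.exists_smul_eq C R P
  refine ⟨c, c.2, fun q hq => ?_⟩
  have h1 : (⟨q, hQC hq⟩ : C) ∈ (R : Subgroup C) := hR (show q ∈ Q from hq)
  have h2 : c * (⟨q, hQC hq⟩ : C) * c⁻¹ ∈ (P : Subgroup C) := by
    rw [← hc]
    have h3 := Subgroup.smul_mem_pointwise_smul _ (MulAut.conj c) _ h1
    exact h3
  rw [hPT] at h2
  exact h2

theorem card_le_two_mul {A T : Subgroup G} (x : G)
    (h : ∀ q ∈ T, q ∈ A ∨ x⁻¹ * q ∈ A) : Nat.card T ≤ 2 * Nat.card A := by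
  have h1 : (T : Set G) ⊆ (A : Set G) ∪ (fun a => x * a) '' (A : Set G) := by
    intro q hq
    rcases h q hq with h1 | h1
    · exact Or.inl h1
    · exact Or.inr ⟨x⁻¹ * q, h1, by simp⟩
  have h2 := Set.ncard_le_ncard h1 (Set.toFinite _)
  have h3 := Set.ncard_union_le (A : Set G) ((fun a => x * a) '' (A : Set G))
  have h4 : ((fun a => x * a) '' (A : Set G)).ncard ≤ (A : Set G).ncard :=
    Set.ncard_image_le (Set.toFinite _)
  have h5 : (T : Set G).ncard = Nat.card T := rfl
  have h6 : (A : Set G).ncard = Nat.card A := rfl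
  omega

/-- Subgroups of `Q` meeting trivially. -/
theorem card_mul_le {A B Q : Subgroup G} (hA : A ≤ Q) (hB : B ≤ Q) (h : A ⊓ B = ⊥) :
    Nat.card A * Nat.card B ≤ Nat.card Q := by
  rw [← Nat.card_prod]
  refine Nat.card_le_card_of_injective (fun p : A × B => (⟨p.1 * p.2, mul_mem (hA p.1.2) (hB p.2.2)⟩ : Q)) ?_
  rintro ⟨a, b⟩ ⟨a', b'⟩ hab
  have h1 : (a : G) * b = a' * b' := congrArg Subtype.val hab
  have h2 : (a' : G)⁻¹ * a = b' * (b : G)⁻¹ := by
    rw [inv_mul_eq_iff_eq_mul, ← mul_assoc, ← h1]; group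
  have h3 : (a' : G)⁻¹ * a ∈ A ⊓ B := by
    refine mem_inf.mpr ⟨mul_mem (inv_mem a'.2) a.2, ?_⟩
    rw [h2]
    exact mul_mem b'.2 (inv_mem b.2)
  rw [h, mem_bot] at h3
  have h4 : a = a' := Subtype.ext (inv_mul_eq_one.mp h3).symm
  rw [h3] at h2
  have h5 : b = b' := Subtype.ext (mul_inv_eq_one.mp h2.symm).symm
  rw [h4, h5]

/-- A 2-group `T` with an involution `b` such that `|C_T(b)| = 4` has 2-rank at most two. -/
theorem card_le_four_of_centralizer {T : Type*} [Group T] [Finite T] (hT : IsPGroup 2 T) {b : T}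
    (hb : Nat.card (centralizer ({b} : Set T)) = 4) {E : Subgroup T} (hE : ∀ e ∈ E, e * e = 1) :
    Nat.card E ≤ 4 := by
  haveI : Fact (Nat.Prime 2) := ⟨Nat.prime_two⟩
  obtain ⟨n, hn⟩ := hT.exists_card_eq
  by_cases hn3 : n < 3
  · have h1 : Nat.card E ≤ Nat.card T := Subgroup.card_le_card_group E
    have h2 : Nat.card T ≤ 4 := by
      rw [hn]
      calc 2 ^ n ≤ 2 ^ 2 := Nat.pow_le_pow_right (by norm_num) (by omega)
        _ = 4 := by norm_num
    omega
  push Not at hn3
  set A := centralizer ({b} : Set T) with hA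
  have hcard : Nat.card A = 2 ^ 2 := by rw [hb]; norm_num
  have hcomm : IsMulCommutative A := IsPGroup.isMulCommutative_of_card_eq_prime_sq hcard
  have hbA : b ∈ A := by rw [hA, mem_cs]
  have hCA : centralizer (A : Set T) = A := by
    apply le_antisymm
    · rw [hA]
      apply centralizer_le
      intro y hy
      rw [Set.mem_singleton_iff] at hy
      rw [hy]
      exact hbA
    · exact Subgroup.le_centralizer A
  have h1 := Cfsg.Agent.S0112.result n hn A hcard hCA
  obtain ⟨C, hC, hCi⟩ := Cfsg.Agent.S0113.result n hn3 hn h1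
  -- `E ⊓ C` has order at most 2
  have h2 : Nat.card (E ⊓ C : Subgroup T) ≤ 2 := by
    haveI : IsCyclic (E ⊓ C : Subgroup T) := by
      have := isCyclic_of_injective (Subgroup.inclusion (inf_le_right : E ⊓ C ≤ C))
        (Subgroup.inclusion_injective _)
      exact this
    obtain ⟨g, hg⟩ := IsCyclic.exists_generator (α := (E ⊓ C : Subgroup T))
    have h3 : orderOf g ≤ 2 := by
      apply orderOf_le_of_pow_eq_one (by norm_num)
      apply Subtype.ext
      rw [pow_two]
      exact hE g (mem_inf.mp g.2).1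
    rw [← orderOf_eq_card_of_forall_mem_zpowers hg]
    exact h3
  have h3 : (E ⊓ C).relIndex E ≤ 2 := by
    rw [inf_comm, Subgroup.inf_relIndex_right]
    have h5 : C.relIndex E ≤ C.index := by
      rw [← Subgroup.relIndex_top_right]
      exact Subgroup.relIndex_le_of_le_right le_top (by
        rw [Subgroup.relIndex_top_right, hCi]; norm_num)
    omega
  have h6 := Subgroup.card_mul_index ((E ⊓ C).subgroupOf E)
  have h7 : Nat.card ((E ⊓ C).subgroupOf E) = Nat.card (E ⊓ C : Subgroup T) :=
    Nat.card_congr (Subgroup.subgroupOfEquivOfLe inf_le_left).toEquiv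
  have h8 : ((E ⊓ C).subgroupOf E).index = (E ⊓ C).relIndex E := rfl
  rw [h7, h8] at h6
  rw [← h6]
  calc Nat.card (E ⊓ C : Subgroup T) * (E ⊓ C).relIndex E ≤ 2 * 2 := Nat.mul_le_mul h2 h3
    _ = 4 := by norm_num

end TwoGroups

section Quasisimple

/-- In a quasisimple group of even order a Sylow 2-subgroup is at least four times as large as its
intersection with the centre. -/
theorem four_mul_card_inf_center {D : Type*} [Group D] [Finite D] (hD : IsQuasisimple D)
    (h2 : 2 ∣ Nat.card D) (P : Sylow 2 D) :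
    4 * Nat.card ((P : Subgroup D) ⊓ center D : Subgroup D) ≤ Nat.card (P : Subgroup D) := by
  haveI : Fact (Nat.Prime 2) := ⟨Nat.prime_two⟩
  haveI := hD.2
  have hnc : ¬ IsMulCommutative (D ⧸ center D) := by
    intro hcon
    have hp : Group.IsPerfect (D ⧸ center D) :=
      haveI := hD.1
      Group.IsPerfect.ofSurjective (f := QuotientGroup.mk' (center D)) (QuotientGroup.mk'_surjective _)
    have h1 := hp.commutator_eq_top
    have h3 : commutator (D ⧸ center D) = ⊥ := by
      rw [_root_.commutator_def, Subgroup.commutator_eq_bot_iff_le_centralizer]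
      intro x _
      rw [mem_centralizer_iff]
      intro y _
      exact hcon.is_comm.comm y x
    rw [h3] at h1
    exact (bot_ne_top (α := Subgroup (D ⧸ center D))) h1
  have h2' : 2 ∣ Nat.card (D ⧸ center D) := by
    by_contra hcon
    apply CompBasic.sylow_not_le_center_of_perfect hD.1 2 h2 P
    have h1 : (P : Subgroup D).map (QuotientGroup.mk' (center D)) = ⊥ := by
      have h3 : IsPGroup 2 ((P : Subgroup D).map (QuotientGroup.mk' (center D))) := P.isPGroup'.map _
      obtain ⟨k, hk⟩ := h3.exists_card_eq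
      have h4 : Nat.card ((P : Subgroup D).map (QuotientGroup.mk' (center D))) ∣
          Nat.card (D ⧸ center D) := Subgroup.card_subgroup_dvd_card _
      rcases k with _ | k
      · rw [pow_zero] at hk
        exact Subgroup.card_eq_one.mp hk
      · exfalso
        apply hcon
        rw [hk] at h4
        exact (dvd_pow_self 2 (by omega)).trans h4
    rw [Subgroup.map_eq_bot_iff, QuotientGroup.ker_mk'] at h1
    exact h1
  have h4 := SmallSimple.EvenOrder.four_dvd_card hnc h2'
  -- count
  have hc : Nat.card D = Nat.card (D ⧸ center D) * Nat.card (center D) :=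
    Subgroup.card_eq_card_quotient_mul_card_subgroup (center D)
  have hP : Nat.card (P : Subgroup D) = 2 ^ (Nat.card D).factorization 2 := Sylow.card_eq_multiplicity P
  have hn1 : Nat.card (D ⧸ center D) ≠ 0 := Nat.card_pos.ne'
  have hn2 : Nat.card (center D) ≠ 0 := Nat.card_pos.ne'
  have hf : (Nat.card D).factorization 2 =
      (Nat.card (D ⧸ center D)).factorization 2 + (Nat.card (center D)).factorization 2 := by
    rw [hc, Nat.factorization_mul hn1 hn2]
    rfl
  have h5 : 2 ≤ (Nat.card (D ⧸ center D)).factorization 2 := by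
    rw [← Nat.prime_two.pow_dvd_iff_le_factorization hn1]
    exact h4
  obtain ⟨k, hk⟩ : ∃ k, Nat.card ((P : Subgroup D) ⊓ center D : Subgroup D) = 2 ^ k :=
    (P.isPGroup'.to_le inf_le_left).exists_card_eq
  have h6 : k ≤ (Nat.card (center D)).factorization 2 := by
    rw [← Nat.prime_two.pow_dvd_iff_le_factorization hn2, ← hk]
    exact Subgroup.card_dvd_of_le inf_le_right
  rw [hk, hP, hf]
  calc 4 * 2 ^ k = 2 ^ (2 + k) := by rw [pow_add]; norm_num
    _ ≤ _ := Nat.pow_le_pow_right (by norm_num) (by omega)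

variable {G : Type*} [Group G] [Finite G]

/-- A quasisimple subgroup `D` of even order contains a 2-subgroup `P` such that for every
2-subgroup `T` of `C(D)` the 2-group `T P` has order at least `4 |T|`. -/
theorem exists_two_subgroup {D : Subgroup G} (hD : IsQuasisimple D) (h2 : 2 ∣ Nat.card D) :
    ∃ P : Subgroup G, P ≤ D ∧ IsPGroup 2 P ∧ ∀ T : Subgroup G, T ≤ centralizer (D : Set G) →
      IsPGroup 2 T → IsPGroup 2 (T ⊔ P : Subgroup G) ∧ 4 * Nat.card T ≤ Nat.card (T ⊔ P : Subgroup G) := by
  haveI : Fact (Nat.Prime 2) := ⟨Nat.prime_two⟩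
  obtain ⟨P⟩ : Nonempty (Sylow 2 D) := inferInstance
  have h4 := four_mul_card_inf_center hD h2 P
  have hPG : IsPGroup 2 ((P : Subgroup D).map D.subtype) := P.isPGroup'.map _
  refine ⟨(P : Subgroup D).map D.subtype, map_subtype_le _, hPG, fun T hT hT2 => ?_⟩
  set P' := (P : Subgroup D).map D.subtype with hP'
  have hcomm : ∀ (t : T) (p : P'), Commute (T.subtype t) (P'.subtype p) := by
    intro t p
    exact comm_elt hT t.2 (map_subtype_le _ p.2)
  let φ : T × P' →* G := MonoidHom.noncommCoprod T.subtype P'.subtype hcomm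
  have hφ : φ.range = T ⊔ P' := by
    have := MonoidHom.noncommCoprod_range T.subtype P'.subtype hcomm
    rw [this, Subgroup.range_subtype, Subgroup.range_subtype]
  have hTP : IsPGroup 2 (T × P') := by
    rintro ⟨t, p⟩
    obtain ⟨k, hk⟩ := hT2 t
    obtain ⟨l, hl⟩ := hPG p
    refine ⟨k + l, ?_⟩
    rw [pow_add]
    apply Prod.ext
    · change t ^ (2 ^ k * 2 ^ l) = 1
      rw [pow_mul, hk, one_pow]
    · change p ^ (2 ^ k * 2 ^ l) = 1
      rw [mul_comm, pow_mul, hl, one_pow]
  constructor
  · rw [← hφ]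
    exact hTP.of_surjective φ.rangeRestrict φ.rangeRestrict_surjective
  · have h5 : Nat.card (T × P') = Nat.card φ.ker * Nat.card φ.range := by
      rw [← Subgroup.index_ker, Subgroup.card_mul_index]
    have h6 : Nat.card φ.ker ≤ Nat.card ((P : Subgroup D) ⊓ center D : Subgroup D) := by
      refine Nat.card_le_card_of_injective (fun u : φ.ker =>
        (⟨⟨(u : T × P').2, map_subtype_le _ (u : T × P').2.2⟩, ?_⟩ : ((P : Subgroup D) ⊓ center D : Subgroup D))) ?_
      · obtain ⟨⟨t, p⟩, hu⟩ := u
        have h7 : (t : G) * (p : G) = 1 := hu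
        refine mem_inf.mpr ⟨?_, ?_⟩
        · obtain ⟨q, hq, hqp⟩ := p.2
          have : q = ⟨(p : G), map_subtype_le _ p.2⟩ := Subtype.ext hqp
          rw [← this]
          exact hq
        · rw [mem_center_iff]
          intro g
          apply Subtype.ext
          change (g : G) * (p : G) = (p : G) * g
          have h8 : (p : G) = (t : G)⁻¹ := (inv_eq_of_mul_eq_one_right h7).symm
          rw [h8]
          exact (comm_elt hT (inv_mem t.2) g.2).symm
      · rintro ⟨⟨t, p⟩, hu⟩ ⟨⟨t', p'⟩, hu'⟩ h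
        have h7 : (t : G) * (p : G) = 1 := hu
        have h7' : (t' : G) * (p' : G) = 1 := hu'
        have h8 : (p : G) = p' := congrArg (fun v => ((v : ((P : Subgroup D) ⊓ center D : Subgroup D)) : G)) h
        have h9 : p = p' := Subtype.ext h8
        have h10 : t = t' := by
          apply Subtype.ext
          rw [eq_inv_of_mul_eq_one_left h7, eq_inv_of_mul_eq_one_left h7', h8]
        apply Subtype.ext
        exact Prod.ext h10 h9
    rw [Nat.card_prod, hφ] at h5
    have h7 : Nat.card P' = Nat.card (P : Subgroup D) :=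
      (Nat.card_congr ((P : Subgroup D).equivMapOfInjective _ (Subgroup.subtype_injective D)).toEquiv).symm
    rw [h7] at h5
    have hpos : 0 < Nat.card ((P : Subgroup D) ⊓ center D : Subgroup D) := Nat.card_pos
    refine Nat.le_of_mul_le_mul_right ?_ hpos
    calc 4 * Nat.card T * Nat.card ((P : Subgroup D) ⊓ center D : Subgroup D)
        = Nat.card T * (4 * Nat.card ((P : Subgroup D) ⊓ center D : Subgroup D)) := by ring
      _ ≤ Nat.card T * Nat.card (P : Subgroup D) := Nat.mul_le_mul_left _ h4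
      _ = Nat.card φ.ker * Nat.card (T ⊔ P' : Subgroup G) := h5
      _ ≤ Nat.card ((P : Subgroup D) ⊓ center D : Subgroup D) * Nat.card (T ⊔ P' : Subgroup G) :=
          Nat.mul_le_mul_right _ h6
      _ = Nat.card (T ⊔ P' : Subgroup G) * Nat.card ((P : Subgroup D) ⊓ center D : Subgroup D) := by ring

end Quasisimple

end Cfsg.Agent.OddHalf.D3
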