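import Cfsg.Agent.OddHalf.D3.TwoNF

/-!
# ODD D3 (iii), `n = 2`: not full (text of helper133, bb ODD 9195, (4)-(6); helper212, bb ODD 9698, (2))
-/

set_option autoImplicit false

namespace Cfsg.Agent.OddHalf.D3.TwoKey

open Cfsg.Agent.OddHalf.D3.ThreeDefs Cfsg.Agent.OddHalf.D3.ThreeFam Cfsg.Agent.OddHalf.D3.ThreeMain
open Cfsg.Agent.OddHalf.D3.Swap Cfsg.Agent.OddHalf.D3.TwoCfg Cfsg.Agent.OddHalf.D3.TwoNF
open scoped commutatorElement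

universe u

variable {G : Type u} [Group G]

/-- a nontrivial subgroup normalised by a 2-group `Q` which contains it has a nontrivial element centralised by `Q` -/
theorem exists_central [Finite G] {Q N : Subgroup G} (hQ : IsPGroup 2 Q) (hNQ : N ≤ Q) (hn : ∀ q ∈ Q, cj q N = N)
    (h1 : ∃ x ∈ N, x ≠ 1) : ∃ w ∈ N, w ≠ 1 ∧ w * w = 1 ∧ ∀ q ∈ Q, w * q = q * w := by
  have : Fact (Nat.Prime 2) := ⟨Nat.prime_two⟩
  let act : MulAction Q N :=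
    { smul := fun q n => ⟨(q : G) * n * (q : G)⁻¹, conj_mem_of_cj (hn q q.2) n.2⟩
      one_smul := fun n => Subtype.ext (by change ((1 : Q) : G) * n * ((1 : Q) : G)⁻¹ = n; simp)
      mul_smul := fun a b n => Subtype.ext (by
        change ((a * b : Q) : G) * n * ((a * b : Q) : G)⁻¹ = (a : G) * ((b : G) * n * (b : G)⁻¹) * (a : G)⁻¹
        push_cast; group) }
  have hsm : ∀ (q : Q) (n : N), ((q • n : N) : G) = (q : G) * n * (q : G)⁻¹ := fun _ _ => rfl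
  obtain ⟨x, hx, hx1⟩ := h1
  have hdvd : 2 ∣ Nat.card N := by
    obtain ⟨n, hn2, hn1⟩ := exists_pow_inv hQ (hNQ hx) hx1
    have h2 : orderOf (⟨x ^ n, pow_mem hx n⟩ : N) = 2 := by
      refine orderOf_eq_prime ?_ ?_
      · rw [pow_two]; exact Subtype.ext hn2
      · intro h; exact hn1 (congrArg Subtype.val h)
    rw [← h2]
    exact orderOf_dvd_natCard _
  obtain ⟨b, hb, hb1⟩ := hQ.exists_fixed_point_of_prime_dvd_card_of_fixed_point N hdvd (a := (1 : N)) (by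
    intro q
    apply Subtype.ext
    rw [hsm]
    simp)
  have hbc : ∀ q ∈ Q, (b : G) * q = q * b := by
    intro q hq
    have h3 : ((⟨q, hq⟩ : Q) • b : N) = b := hb ⟨q, hq⟩
    have h4 : q * (b : G) * q⁻¹ = b := congrArg Subtype.val h3
    calc (b : G) * q = q * (b : G) * q⁻¹ * q := by rw [h4]
      _ = q * b := by group
  obtain ⟨n, hn2, hn1⟩ := exists_pow_inv hQ (hNQ b.2) (fun h => hb1 (Subtype.ext h.symm))
  refine ⟨(b : G) ^ n, pow_mem b.2 n, hn1, hn2, fun q hq => ?_⟩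
  have : Commute (b : G) q := hbc q hq
  exact (this.pow_left n).eq

section
variable {𝓒 : Set (Set (Subgroup G))} {Q : Subgroup G}

/-- a central involution of `Q` in a member -/
theorem exists_w [Finite G] (C : Cfg 𝓒 Q) {d : Set (Subgroup G)} (hd : d ∈ 𝓒) (hQd : Q ≤ Nm d) {M : Subgroup G}
    (hM : M ∈ d) : ∃ w ∈ M, w ∈ Q ∧ w ≠ 1 ∧ w * w = 1 ∧ ∀ q ∈ Q, w * q = q * w := by
  obtain ⟨x, hx, hxQ, hx2, hx1⟩ := C.inv d hd hQd M hM
  obtain ⟨w, hw, hw1, hw2, hwc⟩ := exists_central (N := Q ⊓ M) C.pg inf_le_left (by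
    intro q hq
    rw [cj_inf, cj_eq_of_mem hq, hQd hq M hM]) ⟨x, Subgroup.mem_inf.mpr ⟨hxQ, hx⟩, hx1⟩
  exact ⟨w, (Subgroup.mem_inf.mp hw).2, (Subgroup.mem_inf.mp hw).1, hw1, hw2, hwc⟩

/-! ### Witnesses -/

/-- if `Q ∩ A` is not Sylow in `A` there is a witness -/
theorem exists_wit [Finite G] (hQ : IsPGroup 2 Q) {A : Subgroup G} (hQA : ∀ q ∈ Q, cj q A = A)
    (h : ¬ IsSyl (Q ⊓ A) A) : ∃ s, Wit Q A s := by
  obtain ⟨P, hPA, hP, hPn, hPc⟩ := exists_inv_syl hQ hQA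
  have hS : IsSyl P A := ⟨hPA, hP, hPc⟩
  -- `P Q` is a 2-group
  have hT := isPGroup_mulSub (h := hPn) hP hQ
  -- `P ≰ Q`
  have hPQ : ¬ P ≤ Q := by
    intro hle
    apply h
    have h1 : Q ⊓ A = P := hS.eq inf_le_right (hQ.to_le inf_le_left) (le_inf hle hPA)
    rw [h1]; exact hS
  obtain ⟨t, ⟨p, hp, q, hq, rfl⟩, htn, htc⟩ := exists_norm hT le_mulSub_right (fun hle => hPQ (le_mulSub_left.trans hle))
  have hpQ : p ∉ Q := fun h => htn (mul_mem h hq)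
  have hpc : cj p Q = Q := by
    have h1 : p = p * q * q⁻¹ := by group
    rw [h1]
    exact cj_mul_eq htc (cj_eq_of_mem (inv_mem hq))
  -- powers
  obtain ⟨k, hk⟩ := hP ⟨p, hp⟩
  have hk' : p ^ 2 ^ k = 1 := congrArg Subtype.val hk
  have hcpow : ∀ n : ℕ, cj (p ^ n) Q = Q := by
    intro n
    induction n with
    | zero => rw [pow_zero, cj_one]
    | succ n ih => rw [pow_succ]; exact cj_mul_eq ih hpc
  have key : ∀ k : ℕ, p ^ 2 ^ k ∈ Q → ∃ s, Wit Q A s := by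
    intro k
    induction k with
    | zero => intro hk; exact absurd (by simpa using hk) hpQ
    | succ k ih =>
      intro hk
      by_cases h2 : p ^ 2 ^ k ∈ Q
      · exact ih h2
      · refine ⟨p ^ 2 ^ k, pow_mem (hPA hp) _, hcpow _, h2, ?_⟩
        rw [← pow_add, ← two_mul, ← pow_succ']
        exact hk
  exact key k (by rw [hk']; exact one_mem _)

/-- a witness for `A`: for `d ≠ c`, `Q ∩ M` is not Sylow in `M` -/
theorem not_syl_of_wit [Finite G] (F : Fam2 𝓒) (C : Cfg 𝓒 Q) {c d : Set (Subgroup G)} (hc : c ∈ 𝓒) (hd : d ∈ 𝓒)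
    (hcd : c ≠ d) (hQc : Q ≤ Nm c) (hQd : Q ≤ Nm d) {A M : Subgroup G} (hA : A ∈ c) (hM : M ∈ d) {s : G}
    (w : Wit Q A s) : ¬ IsSyl (Q ⊓ M) M := by
  intro hS
  have h1 := (rp_both F C hc hd hcd hQc hQd hA hM w).card_le (fun q hq => hQc hq A hA) w
  -- the 2-group `(Q ∩ A) ⟨s⟩`
  have hn : ∀ x ∈ Subgroup.zpowers s, cj x (Q ⊓ A) = Q ⊓ A := by
    have : Subgroup.zpowers s ≤ Nm ({Q ⊓ A} : Set (Subgroup G)) := by
      rw [Subgroup.zpowers_le]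
      intro X hX
      rw [Set.mem_singleton_iff] at hX
      rw [hX, cj_inf, w.norm, cj_eq_of_mem w.mem]
    exact fun x hx => this hx _ rfl
  have hR := isPGroup_mulSub (h := hn) (C.pg.to_le inf_le_left) (sq_pgroup C.pg w.sq)
  have hRA : mulSub (Q ⊓ A) (Subgroup.zpowers s) hn ≤ A :=
    mulSub_le inf_le_right (by rw [Subgroup.zpowers_le]; exact w.mem)
  have hlt : Nat.card (Q ⊓ A : Subgroup G) < Nat.card (mulSub (Q ⊓ A) (Subgroup.zpowers s) hn) := by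
    by_contra hcon
    have h2 : Q ⊓ A = mulSub (Q ⊓ A) (Subgroup.zpowers s) hn :=
      Subgroup.eq_of_le_of_card_ge le_mulSub_left (not_lt.mp hcon)
    have h3 : s ∈ mulSub (Q ⊓ A) (Subgroup.zpowers s) hn := le_mulSub_right (Subgroup.mem_zpowers s)
    rw [← h2] at h3
    exact w.not (Subgroup.mem_inf.mp h3).1
  obtain ⟨g, hg⟩ := F.tr c hc d hd A hA M hM
  have h4 : cj g (mulSub (Q ⊓ A) (Subgroup.zpowers s) hn) ≤ M := by
    rw [← hg]; exact cj_mono hRA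
  have h5 := hS.card_le h4 (by
    exact hR.map _)
  rw [card_cj] at h5
  omega

/-- **(4)** -/
theorem all_or [Finite G] (F : Fam2 𝓒) (C : Cfg 𝓒 Q) :
    (∀ c ∈ 𝓒, Q ≤ Nm c → ∀ A ∈ c, IsSyl (Q ⊓ A) A) ∨ (∀ c ∈ 𝓒, Q ≤ Nm c → ∀ A ∈ c, ∃ s, Wit Q A s) := by
  by_cases h : ∀ c ∈ 𝓒, Q ≤ Nm c → ∀ A ∈ c, IsSyl (Q ⊓ A) A
  · exact Or.inl h
  right
  push Not at h
  obtain ⟨c, hc, hQc, A, hA, hnS⟩ := h
  have key : ∀ c ∈ 𝓒, Q ≤ Nm c → ∀ A ∈ c, ¬ IsSyl (Q ⊓ A) A → ∀ d ∈ 𝓒, Q ≤ Nm d → c ≠ d → ∀ M ∈ d,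
      ¬ IsSyl (Q ⊓ M) M := by
    intro c hc hQc A hA hnS d hd hQd hcd M hM
    obtain ⟨s, w⟩ := exists_wit C.pg (fun q hq => hQc hq A hA) hnS
    exact not_syl_of_wit F C hc hd hcd hQc hQd hA hM w
  intro d hd hQd M hM
  refine exists_wit C.pg (fun q hq => hQd hq M hM) ?_
  by_cases hcd : c = d
  · subst hcd
    obtain ⟨e, he, hQe, hec⟩ := C.other c
    obtain ⟨N, hN, -⟩ := F.two e he ⊥
    exact key e he hQe N hN (key c hc hQc A hA hnS e he hQe (Ne.symm hec) N hN) c hc hQc hec M hM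
  · exact key c hc hQc A hA hnS d hd hQd hcd M hM

/-! ### (5): `K0` has odd order -/

/-- the common centralizer of the members -/
def K0 (c : Set (Subgroup G)) : Subgroup G where
  carrier := {g | ∀ A ∈ c, ∀ a ∈ A, g * a = a * g}
  one_mem' := fun A _ a _ => by simp
  mul_mem' := fun {x y} hx hy A hA a ha => by
    have h1 := hx A hA a ha
    have h2 := hy A hA a ha
    calc x * y * a = x * (y * a) := by group
      _ = x * a * y := by rw [h2]; group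
      _ = a * (x * y) := by rw [h1]; group
  inv_mem' := fun {x} hx A hA a ha => by
    have h1 := hx A hA a ha
    calc x⁻¹ * a = x⁻¹ * (a * x) * x⁻¹ := by group
      _ = x⁻¹ * (x * a) * x⁻¹ := by rw [h1]
      _ = a * x⁻¹ := by group

theorem mem_K0 {c : Set (Subgroup G)} {g : G} : g ∈ K0 c ↔ ∀ A ∈ c, ∀ a ∈ A, g * a = a * g := Iff.rfl

theorem K0_le_Nm (c : Set (Subgroup G)) : K0 c ≤ Nm c := fun _ hg A hA => cj_eq_of_comm (hg A hA)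

theorem mem_K0_cjs {c : Set (Subgroup G)} {g x : G} (hx : x ∈ K0 c) : g * x * g⁻¹ ∈ K0 (cjs g c) := by
  rintro _ ⟨A, hA, rfl⟩ a ha
  rw [mem_cj] at ha
  have h1 := hx A hA _ ha
  calc g * x * g⁻¹ * a = g * (x * (g⁻¹ * a * g)) * g⁻¹ := by group
    _ = g * ((g⁻¹ * a * g) * x) * g⁻¹ := by rw [h1]
    _ = _ := by group

theorem cj_K0 {c : Set (Subgroup G)} {g : G} (hg : g ∈ St c) : cj g (K0 c) = K0 c := by
  have key : ∀ g ∈ St c, ∀ x ∈ K0 c, g * x * g⁻¹ ∈ K0 c := by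
    intro g hg x hx
    have := mem_K0_cjs (g := g) hx
    rwa [mem_St.mp hg] at this
  ext x
  rw [mem_cj]
  constructor
  · intro h
    have := key g hg _ h
    have e : g * (g⁻¹ * x * g) * g⁻¹ = x := by group
    rwa [e] at this
  · intro h
    have := key g⁻¹ (inv_mem hg) _ h
    rwa [inv_inv] at this

theorem K0_inv_all (F : Fam 𝓒) {c : Set (Subgroup G)} (hc : c ∈ 𝓒) {x : G} (hx : x ∈ K0 c) (hx2 : x * x = 1)
    (hx1 : x ≠ 1) {d : Set (Subgroup G)} (hd : d ∈ 𝓒) : ∃ y ∈ K0 d, y * y = 1 ∧ y ≠ 1 := by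
  obtain ⟨A, hA, -⟩ := F.two c hc ⊥
  obtain ⟨B, hB, -⟩ := F.two d hd ⊥
  obtain ⟨g, hg⟩ := F.tr c hc d hd A hA B hB
  have h1 : cjs g c = d := by
    refine class_unique F (F.conj g c hc) hd (A := B) ?_ hB
    rw [← hg]; exact cj_mem_cjs hA
  refine ⟨g * x * g⁻¹, ?_, ?_, ?_⟩
  · rw [← h1]; exact mem_K0_cjs hx
  · calc g * x * g⁻¹ * (g * x * g⁻¹) = g * (x * x) * g⁻¹ := by group
      _ = 1 := by rw [hx2]; group
  · intro h
    apply hx1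
    calc x = g⁻¹ * (g * x * g⁻¹) * g := by group
      _ = 1 := by rw [h]; group

theorem K0_meet [Finite G] (F : Fam2 𝓒) (C : Cfg 𝓒 Q) {c : Set (Subgroup G)} (hc : c ∈ 𝓒) {x : G} (hx : x ∈ K0 c)
    (hx2 : x * x = 1) (hx1 : x ≠ 1) {d : Set (Subgroup G)} (hd : d ∈ 𝓒) (hQd : Q ≤ Nm d) :
    ∃ y ∈ K0 d, y ∈ Q ∧ y ≠ 1 := by
  obtain ⟨y, hy, hy2, hy1⟩ := K0_inv_all F.toFam hc hx hx2 hx1 hd
  obtain ⟨e, he, hQe, hed⟩ := C.other d
  obtain ⟨N, hN, -⟩ := F.two e he ⊥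
  obtain ⟨u, huN, huQ, hu2, hu1⟩ := C.inv e he hQe N hN
  obtain ⟨z, hz, hz2, hz1, hzc⟩ := exists_fixed_inv hu2 (cj_K0 (Nm_le_St d (hQd huQ))) ⟨y, hy, hy2, hy1⟩
  have hze : z ∈ Nm e := cen_Nm F he hN huN hu2 hu1 hzc
  have hS : IsSyl Q (Nm d ⊓ Nm e) := isSyl_of_max (le_inf hQd hQe) C.pg fun R hR hR2 =>
    C.mx d hd e he (Ne.symm hed) hQd hQe R hR2 (hR.trans inf_le_left) (hR.trans inf_le_right)
  obtain ⟨t, ht, htQ, -, ht1⟩ := hS.exists_inv (Y := K0 d ⊓ Nm e) (inf_le_inf_right _ (K0_le_Nm d)) (by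
    intro g hg
    rw [Subgroup.mem_inf] at hg
    rw [cj_inf, cj_K0 (Nm_le_St d hg.1), cj_eq_of_mem hg.2]) (Subgroup.mem_inf.mpr ⟨hz, hze⟩) hz2 hz1
  exact ⟨t, (Subgroup.mem_inf.mp ht).1, htQ, ht1⟩

theorem Wit.inv {A : Subgroup G} {s : G} (w : Wit Q A s) : Wit Q A s⁻¹ where
  mem := inv_mem w.mem
  norm := cj_inv_eq w.norm
  not := fun h => w.not (by have := inv_mem h; rwa [inv_inv] at this)
  sq := by
    have := inv_mem w.sq
    rwa [mul_inv_rev] at this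

/-- **(5)** -/
theorem K0_odd [Finite G] (F : Fam2 𝓒) (C : Cfg 𝓒 Q) (hW : ∀ c ∈ 𝓒, Q ≤ Nm c → ∀ A ∈ c, ∃ s, Wit Q A s)
    {c : Set (Subgroup G)} (hc : c ∈ 𝓒) {x : G} (hx : x ∈ K0 c) (hx2 : x * x = 1) : x = 1 := by
  by_contra hx1
  have hmeet : ∀ d ∈ 𝓒, Q ≤ Nm d → ∃ y ∈ K0 d, y ∈ Q ∧ y ≠ 1 := fun d hd hQd => K0_meet F C hc hx hx2 hx1 hd hQd
  -- maximal `|Q ∩ M|`
  let S : Set ℕ := {n | ∃ d ∈ 𝓒, Q ≤ Nm d ∧ ∃ M ∈ d, Nat.card (Q ⊓ M : Subgroup G) = n}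
  have hbdd : BddAbove S := by
    refine ⟨Nat.card G, ?_⟩
    rintro n ⟨d, -, -, M, -, rfl⟩
    exact Nat.card_le_card_of_injective _ (Q ⊓ M).subtype_injective
  have hne' : S.Nonempty := by
    obtain ⟨a, ha, b, hb, hab, hQa, hQb⟩ := C.ex
    obtain ⟨A, hA, -⟩ := F.two a ha ⊥
    exact ⟨_, a, ha, hQa, A, hA, rfl⟩
  set m := sSup S with hm
  have hle : ∀ d ∈ 𝓒, Q ≤ Nm d → ∀ M ∈ d, Nat.card (Q ⊓ M : Subgroup G) ≤ m := fun d hd hQd M hM =>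
    le_csSup hbdd ⟨d, hd, hQd, M, hM, rfl⟩
  -- the main step
  have key : ∀ d ∈ 𝓒, Q ≤ Nm d → ∀ M ∈ d, Nat.card (Q ⊓ M : Subgroup G) = m → ∀ c ∈ 𝓒, Q ≤ Nm c → c ≠ d → ∀ A ∈ c,
      Nat.card (Q ⊓ A : Subgroup G) = m ∧ ∀ s, Wit Q A s → cjs s d = d := by
    intro d hd hQd M hM hcard c hc hQc hcd A hA
    have hQA : ∀ q ∈ Q, cj q A = A := fun q hq => hQc hq A hA
    constructor
    · obtain ⟨s, w⟩ := hW c hc hQc A hA
      have h1 := (rp_both F C hc hd hcd hQc hQd hA hM w).card_le hQA w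
      exact le_antisymm (hle c hc hQc A hA) (hcard ▸ h1)
    · intro s w
      by_contra hmv
      obtain ⟨M', hM', hne⟩ := F.two d hd M
      have h1 := (rp_mv F.toFam C.pg hc hd hcd hQd hA hM' w.norm hmv).card_le hQA w
      have h2 : Q ⊓ M ≤ QC Q M' := inf_le_QC F.toFam hd hM' hM (Ne.symm hne)
      have h3 : Q ⊓ M = QC Q M' :=
        Subgroup.eq_of_le_of_card_ge h2 (h1.trans ((hle c hc hQc A hA).trans hcard.ge))
      obtain ⟨y, hy, hyQ, hy1⟩ := hmeet d hd hQd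
      have h4 : y ∈ QC Q M' := mem_QC.mpr ⟨hyQ, hy M' hM'⟩
      rw [← h3] at h4
      exact hy1 (eq_one_of_center F.toFam C.pg hd hM (mem_QC.mpr ⟨hyQ, hy M hM⟩) (Subgroup.mem_inf.mp h4).2)
  obtain ⟨d, hd, hQd, M, hM, hcard⟩ := Nat.sSup_mem hne' hbdd
  obtain ⟨e, he, hQe, hed⟩ := C.other d
  obtain ⟨A, hA, -⟩ := F.two e he ⊥
  obtain ⟨A', hA', hne⟩ := F.two e he A
  obtain ⟨s1, w1⟩ := hW e he hQe A hA
  obtain ⟨s2, w2⟩ := hW e he hQe A' hA'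
  have h1 := (key d hd hQd M hM hcard e he hQe hed A hA).2 s1 w1
  have h2 := (key d hd hQd M hM hcard e he hQe hed A' hA').2 s2 w2
  have n1 := w1.not_Nm F C he hd hed hQe hQd hA
  have n2 := w2.not_Nm F C he hd hed hQe hQd hA'
  have hcomm : s1 * s2 = s2 * s1 := F.comm e he A hA A' hA' (Ne.symm hne) s1 w1.mem s2 w2.mem
  have hq : s1 * s2 ∈ Q := by
    refine C.mem_of_norm he hd hed hQe hQd (sq_pgroup C.pg ?_) (cj_mul_eq w1.norm w2.norm) ?_ ?_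
    · have : s1 * s2 * (s1 * s2) = (s1 * s1) * (s2 * s2) := by
        calc s1 * s2 * (s1 * s2) = s1 * (s2 * s1) * s2 := by group
          _ = s1 * (s1 * s2) * s2 := by rw [hcomm]
          _ = _ := by group
      rw [this]
      exact mul_mem w1.sq w2.sq
    · exact mul_mem (mem_le_Nm F.toFam he hA w1.mem) (mem_le_Nm F.toFam he hA' w2.mem)
    · exact mul_mem_Nm F hd h1 n1 h2 n2
  obtain ⟨w, hwM, hwQ, hw1, hw2, hwc⟩ := exists_w C hd hQd hM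
  have h5 := hwc _ hq
  have h6 : s2 * w * s2⁻¹ = s1⁻¹ * w * s1 := by
    calc s2 * w * s2⁻¹ = s1⁻¹ * (s1 * s2 * w) * s2⁻¹ := by group
      _ = s1⁻¹ * (w * (s1 * s2)) * s2⁻¹ := by rw [h5]
      _ = s1⁻¹ * w * s1 := by group
  have h7 := r_mem (fun q hq => hQe hq A' hA') w2 (le_refl Q) hwQ
  have h8 := r_mem (fun q hq => hQe hq A hA) (Wit.inv w1) (le_refl Q) hwQ
  rw [inv_inv, ← h6] at h8
  have h9 := eq_one_of_same F.toFam C.pg he hA hA' hne (Subgroup.mem_inf.mp h7).1 (Subgroup.mem_inf.mp h8).2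
    (Subgroup.mem_inf.mp h7).2
  exact hw1 ((rp_both F C he hd hed hQe hQd hA' hM w2).inj w (Subgroup.mem_inf.mpr ⟨hwQ, hwM⟩)
    (inv_mul_eq_one.mp h9).symm)

/-! ### (6) -/

/-- the configuration with witnesses everywhere and `K0` of odd order -/
structure NF (𝓒 : Set (Set (Subgroup G))) (Q : Subgroup G) : Prop extends Cfg 𝓒 Q where
  wit : ∀ c ∈ 𝓒, Q ≤ Nm c → ∀ A ∈ c, ∃ s, Wit Q A s

/-- no element of `Q` centralises both members -/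
theorem eq_one_of_K0 [Finite G] (F : Fam2 𝓒) (C : NF 𝓒 Q) {c : Set (Subgroup G)} (hc : c ∈ 𝓒) {A A' : Subgroup G}
    (hA : A ∈ c) (hA' : A' ∈ c) (hne : A' ≠ A) {x : G} (hx : x ∈ QC Q A) (hx' : x ∈ QC Q A') : x = 1 := by
  by_contra h1
  obtain ⟨n, hn2, hn1⟩ := exists_pow_inv C.pg (mem_QC.mp hx).1 h1
  refine hn1 (K0_odd F C.toCfg C.wit hc (x := x ^ n) ?_ hn2)
  intro B hB a ha
  have h2 : B = A ∨ B = A' := by
    rcases F.le2 c hc A hA A' hA' B hB with h | h | h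
    · exact absurd h.symm hne
    · exact Or.inl h.symm
    · exact Or.inr h.symm
  have : Commute x a := by
    rcases h2 with rfl | rfl
    · exact (mem_QC.mp hx).2 a ha
    · exact (mem_QC.mp hx').2 a ha
  exact (this.pow_left n).eq

theorem rp_all [Finite G] (F : Fam2 𝓒) (C : NF 𝓒 Q) {c d : Set (Subgroup G)} (hc : c ∈ 𝓒) (hd : d ∈ 𝓒)
    (hcd : c ≠ d) (hQc : Q ≤ Nm c) (hQd : Q ≤ Nm d) {A M : Subgroup G} (hA : A ∈ c) (hM : M ∈ d) {s : G}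
    (w : Wit Q A s) : RP Q A (QC Q M) s := by
  by_cases h : cjs s d = d
  · have hsw : cj s M ≠ M := fun hsM => w.not_Nm F C.toCfg hc hd hcd hQc hQd hA (mem_Nm_of_cj F hd hM hsM)
    have hM' : cj s M ∈ d := cj_mem_of_St h hM
    have hcj : cj s (QC Q M) = QC Q (cj s M) := cj_QC w.norm
    refine ⟨QC_le, tri_QC F.toFam C.pg hc hd hcd hA hM, ?_, ?_⟩
    · intro b hb b' hb'
      have h1 : s * b' * s⁻¹ ∈ QC Q (cj s M) := by rw [← hcj]; exact conj_mem_cj hb'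
      set y := s * b' * s⁻¹ with hy
      have hbQ := (mem_QC.mp hb).1
      have hyQ := (mem_QC.mp h1).1
      have e1 : cj y (QC Q M) = QC Q M := by
        rw [cj_QC (cj_eq_of_mem hyQ), hQd hyQ M hM]
      have e2 : cj b (QC Q (cj s M)) = QC Q (cj s M) := by
        rw [cj_QC (cj_eq_of_mem hbQ), hQd hbQ _ hM']
      have h3 : ⁅b, y⁆ ∈ QC Q M := by
        have e : ⁅b, y⁆ = b * (y * b⁻¹ * y⁻¹) := by rw [commutatorElement_def]; group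
        rw [e]
        exact mul_mem hb (conj_mem_of_cj e1 (inv_mem hb))
      have h4 : ⁅b, y⁆ ∈ QC Q (cj s M) := by
        rw [commutatorElement_def]
        exact mul_mem (conj_mem_of_cj e2 h1) (inv_mem h1)
      have h5 := eq_one_of_K0 F C hd hM hM' hsw h3 h4
      rw [commutatorElement_def] at h5
      calc b * y = (b * y * b⁻¹ * y⁻¹) * (y * b) := by group
        _ = y * b := by rw [h5, one_mul]
    · intro b hb h
      have h1 : s * b * s⁻¹ ∈ QC Q (cj s M) := by rw [← hcj]; exact conj_mem_cj hb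
      rw [h] at h1
      exact eq_one_of_K0 F C hd hM hM' hsw hb h1
  · exact rp_mv F.toFam C.pg hc hd hcd hQd hA hM w.norm h

theorem card_QC_le [Finite G] (F : Fam2 𝓒) (C : NF 𝓒 Q) {c d : Set (Subgroup G)} (hc : c ∈ 𝓒) (hd : d ∈ 𝓒)
    (hcd : c ≠ d) (hQc : Q ≤ Nm c) (hQd : Q ≤ Nm d) {A M : Subgroup G} (hA : A ∈ c) (hM : M ∈ d) :
    Nat.card (QC Q M) ≤ Nat.card (Q ⊓ A : Subgroup G) := by
  obtain ⟨s, w⟩ := C.wit c hc hQc A hA
  exact (rp_all F C hc hd hcd hQc hQd hA hM w).card_le (fun q hq => hQc hq A hA) w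

theorem card_inf_le [Finite G] (F : Fam 𝓒) {c : Set (Subgroup G)} (hc : c ∈ 𝓒) {A A' : Subgroup G} (hA : A ∈ c)
    (hA' : A' ∈ c) (hne : A' ≠ A) : Nat.card (Q ⊓ A : Subgroup G) ≤ Nat.card (QC Q A') :=
  Nat.card_le_card_of_injective _ (Subgroup.inclusion_injective (inf_le_QC F hc hA' hA (Ne.symm hne)))

/-- `|Q ∩ A| ≤ |Q ∩ M|` -/
theorem card_le [Finite G] (F : Fam2 𝓒) (C : NF 𝓒 Q) {c d : Set (Subgroup G)} (hc : c ∈ 𝓒) (hd : d ∈ 𝓒)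
    (hcd : c ≠ d) (hQc : Q ≤ Nm c) (hQd : Q ≤ Nm d) {A M : Subgroup G} (hA : A ∈ c) (hM : M ∈ d) :
    Nat.card (Q ⊓ A : Subgroup G) ≤ Nat.card (Q ⊓ M : Subgroup G) := by
  obtain ⟨A', hA', hne⟩ := F.two c hc A
  exact (card_inf_le F.toFam hc hA hA' hne).trans (card_QC_le F C hd hc (Ne.symm hcd) hQd hQc hM hA')

/-- a witness inverts `Q ∩ A` -/
theorem inverts [Finite G] (F : Fam2 𝓒) (C : NF 𝓒 Q) {c : Set (Subgroup G)} (hc : c ∈ 𝓒) (hQc : Q ≤ Nm c)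
    {A : Subgroup G} (hA : A ∈ c) {s : G} (w : Wit Q A s) {a : G} (ha : a ∈ Q) (haA : a ∈ A) : s * a * s⁻¹ = a⁻¹ := by
  obtain ⟨d, hd, hQd, hdc⟩ := C.other c
  obtain ⟨M, hM, -⟩ := F.two d hd ⊥
  obtain ⟨M', hM', hne'⟩ := F.two d hd M
  obtain ⟨A', hA', hne⟩ := F.two c hc A
  have hQA : ∀ q ∈ Q, cj q A = A := fun q hq => hQc hq A hA
  obtain ⟨b, hb, hba⟩ := (rp_both F C.toCfg hc hd (Ne.symm hdc) hQc hQd hA hM w).surj hQA w
    (card_le F C hc hd (Ne.symm hdc) hQc hQd hA hM) ha haA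
  have hs2 : s * s ∈ QC Q A' := inf_le_QC F.toFam hc hA' hA (Ne.symm hne)
    (Subgroup.mem_inf.mpr ⟨w.sq, mul_mem w.mem w.mem⟩)
  have hb2 : b ∈ QC Q M' := inf_le_QC F.toFam hd hM' hM (Ne.symm hne') hb
  have h1 := comm_of_two F.toFam C.pg hc hd (Ne.symm hdc) hQc hQd hA' hM' hs2 hb2
  rw [← hba]
  calc s * (b⁻¹ * (s * b * s⁻¹)) * s⁻¹ = (s * b * s⁻¹)⁻¹ * ((s * s * b) * (s * s)⁻¹) := by group
    _ = (s * b * s⁻¹)⁻¹ * ((b * (s * s)) * (s * s)⁻¹) := by rw [h1]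
    _ = (b⁻¹ * (s * b * s⁻¹))⁻¹ := by group

/-- **(KEY)** -/
theorem key [Finite G] (F : Fam2 𝓒) (C : Cfg 𝓒 Q) {c : Set (Subgroup G)} (hc : c ∈ 𝓒) (hQc : Q ≤ Nm c)
    {A : Subgroup G} (hA : A ∈ c) {s q : G} (w : Wit Q A s) (hq : q ∈ Q) (h : ∀ a ∈ A, s * q * a = a * (s * q)) :
    False := by
  obtain ⟨d, hd, hQd, hdc⟩ := C.other c
  obtain ⟨M, hM, -⟩ := F.two d hd ⊥
  obtain ⟨x, hxM, hxQ, hx1, hx2, hxc⟩ := exists_w C hd hQd hM
  have h1 := r_mem (fun q hq => hQc hq A hA) w (le_refl Q) hxQ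
  -- `r_s(x) ∈ C(A)`
  have h2 : x⁻¹ * (s * x * s⁻¹) = x⁻¹ * (s * q) * x * (s * q)⁻¹ := by
    have h3 := hxc q hq
    calc x⁻¹ * (s * x * s⁻¹) = x⁻¹ * (s * (x * q) * q⁻¹ * s⁻¹) := by group
      _ = x⁻¹ * (s * (q * x) * q⁻¹ * s⁻¹) := by rw [h3]
      _ = _ := by group
  have h4 : x⁻¹ * (s * x * s⁻¹) = 1 := by
    refine eq_one_of_center F.toFam C.pg hc hA (mem_QC.mpr ⟨(Subgroup.mem_inf.mp h1).1, ?_⟩) (Subgroup.mem_inf.mp h1).2
    rw [h2]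
    intro a ha
    have h5 : x * a * x⁻¹ ∈ A := conj_mem_of_cj (hQc hxQ A hA) ha
    have h6 := h _ h5
    have h7 := h a ha
    have h8 : (s * q)⁻¹ * a = a * (s * q)⁻¹ := by
      calc (s * q)⁻¹ * a = (s * q)⁻¹ * (a * (s * q)) * (s * q)⁻¹ := by group
        _ = (s * q)⁻¹ * (s * q * a) * (s * q)⁻¹ := by rw [h7]
        _ = a * (s * q)⁻¹ := by group
    calc x⁻¹ * (s * q) * x * (s * q)⁻¹ * a = x⁻¹ * (s * q) * x * ((s * q)⁻¹ * a) := by group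
      _ = x⁻¹ * (s * q * (x * a * x⁻¹)) * x * (s * q)⁻¹ := by rw [h8]; group
      _ = x⁻¹ * (x * a * x⁻¹ * (s * q)) * x * (s * q)⁻¹ := by rw [h6]
      _ = _ := by group
  exact hx1 ((rp_both F C hc hd (Ne.symm hdc) hQc hQd hA hM w).inj x (Subgroup.mem_inf.mpr ⟨hxQ, hxM⟩)
    (inv_mul_eq_one.mp h4).symm)

/-- **(2) of helper212** -/
theorem eq_one_of_prod [Finite G] (F : Fam2 𝓒) (C : NF 𝓒 Q) {c d : Set (Subgroup G)} (hc : c ∈ 𝓒) (hd : d ∈ 𝓒)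
    (hcd : c ≠ d) (hQc : Q ≤ Nm c) (hQd : Q ≤ Nm d) {A A' M : Subgroup G} (hA : A ∈ c) (hA' : A' ∈ c) (hne : A' ≠ A)
    (hM : M ∈ d) {a b : G} (ha : a ∈ Q ⊓ A) (hb : b ∈ Q ⊓ A') (hab : a * b ∈ M) : a * b = 1 := by
  by_contra hab1
  have hcomm : ∀ a ∈ A, ∀ b ∈ A', a * b = b * a := F.comm c hc A hA A' hA' (Ne.symm hne)
  have htri : ∀ x ∈ Q, x ∈ A → x ∈ A' → x = 1 := fun x hx h1 h2 => eq_one_of_same F.toFam C.pg hc hA hA' hne hx h1 h2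
  -- the subgroup `(Q ∩ A)(Q ∩ A')`
  have hcj : ∀ w ∈ Q ⊓ A', cj w (Q ⊓ A) = Q ⊓ A :=
    comm_cj fun p hp w hw => hcomm p (Subgroup.mem_inf.mp hp).2 w (Subgroup.mem_inf.mp hw).2
  obtain ⟨w, hw, hw1, hw2, hwc⟩ := exists_central (N := mulSub (Q ⊓ A) (Q ⊓ A') hcj ⊓ M) C.pg
    (inf_le_left.trans (mulSub_le inf_le_left inf_le_left)) (by
      intro q hq
      have key : ∀ q ∈ Q, ∀ x ∈ mulSub (Q ⊓ A) (Q ⊓ A') hcj, q * x * q⁻¹ ∈ mulSub (Q ⊓ A) (Q ⊓ A') hcj := by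
        rintro q hq _ ⟨x, hx, y, hy, rfl⟩
        rw [Subgroup.mem_inf] at hx hy
        refine ⟨q * x * q⁻¹, Subgroup.mem_inf.mpr ⟨mul_mem (mul_mem hq hx.1) (inv_mem hq),
          conj_mem_of_cj (hQc hq A hA) hx.2⟩, q * y * q⁻¹, Subgroup.mem_inf.mpr ⟨mul_mem (mul_mem hq hy.1) (inv_mem hq),
          conj_mem_of_cj (hQc hq A' hA') hy.2⟩, by group⟩
      have h1 : cj q (mulSub (Q ⊓ A) (Q ⊓ A') hcj) = mulSub (Q ⊓ A) (Q ⊓ A') hcj := by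
        ext x
        rw [mem_cj]
        constructor
        · intro h
          have := key q hq _ h
          have e : q * (q⁻¹ * x * q) * q⁻¹ = x := by group
          rwa [e] at this
        · intro h
          have := key q⁻¹ (inv_mem hq) _ h
          rwa [inv_inv] at this
      rw [cj_inf, h1, hQd hq M hM])
    ⟨a * b, Subgroup.mem_inf.mpr ⟨⟨a, ha, b, hb, rfl⟩, hab⟩, hab1⟩
  rw [Subgroup.mem_inf] at hw
  obtain ⟨⟨x, hx, y, hy, rfl⟩, hwM⟩ := hw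
  rw [Subgroup.mem_inf] at hx hy
  have hxy := hcomm x hx.2 y hy.2
  -- `x² = 1`
  have hx2 : x * x = 1 := by
    refine htri _ (mul_mem hx.1 hx.1) (mul_mem hx.2 hx.2) ?_
    have h1 : x * x = (y * y)⁻¹ := by
      have h2 : x * y * (x * y) = (x * x) * (y * y) := by
        calc x * y * (x * y) = x * (y * x) * y := by group
          _ = x * (x * y) * y := by rw [hxy]
          _ = _ := by group
      rw [h2] at hw2
      exact eq_inv_of_mul_eq_one_left hw2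
    rw [h1]
    exact inv_mem (mul_mem hy.2 hy.2)
  obtain ⟨s, w⟩ := C.wit c hc hQc A hA
  have h1 := inverts F C hc hQc hA w hx.1 hx.2
  rw [inv_of_sq hx2] at h1
  have h2 := hcomm s w.mem y hy.2
  have h3 : x * y * s = s * (x * y) := by
    have h4 : s * x = x * s := by
      calc s * x = s * x * s⁻¹ * s := by group
        _ = x * s := by rw [h1]
    calc x * y * s = x * (y * s) := by group
      _ = x * s * y := by rw [← h2]; group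
      _ = s * x * y := by rw [← h4]
      _ = _ := by group
  exact w.not_Nm F C.toCfg hc hd hcd hQc hQd hA (cen_Nm F hd hM hwM hw2 hw1 h3)

/-- **(A6)** -/
theorem not_prod [Finite G] (F : Fam2 𝓒) (C : NF 𝓒 Q) {c d : Set (Subgroup G)} (hc : c ∈ 𝓒) (hd : d ∈ 𝓒)
    (hQc : Q ≤ Nm c) (hQd : Q ≤ Nm d) {A A' M : Subgroup G} (hA : A ∈ c) (hA' : A' ∈ c) (hne : A' ≠ A)
    (hM : M ∈ d) {s1 s2 q : G} (w1 : Wit Q A s1) (w2 : Wit Q A' s2) (hq : q ∈ Q) (h : s1 * s2 * q ∈ M) : False := by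
  obtain ⟨e, he, hQe, hec⟩ := C.other c
  obtain ⟨N, hN, -⟩ := F.two e he ⊥
  obtain ⟨x, hxN, hxQ, hx1, hx2, hxc⟩ := exists_w C.toCfg he hQe hN
  have h1 := r_mem (fun q hq => hQc hq A hA) w1 (le_refl Q) hxQ
  have h2 := r_mem (fun q hq => hQc hq A' hA') w2 (le_refl Q) hxQ
  have n1 : s1 * x * s1⁻¹ ≠ x := fun h3 => hx1 ((rp_both F C.toCfg hc he (Ne.symm hec) hQc hQe hA hN w1).inj x
    (Subgroup.mem_inf.mpr ⟨hxQ, hxN⟩) h3)
  have n2 : s2 * x * s2⁻¹ ≠ x := fun h3 => hx1 ((rp_both F C.toCfg hc he (Ne.symm hec) hQc hQe hA' hN w2).inj x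
    (Subgroup.mem_inf.mpr ⟨hxQ, hxN⟩) h3)
  set r1 := x⁻¹ * (s1 * x * s1⁻¹) with hr1
  set r2 := x⁻¹ * (s2 * x * s2⁻¹) with hr2
  have hr1' : r1 ≠ 1 := fun h3 => n1 (inv_mul_eq_one.mp h3).symm
  have hr2' : r2 ≠ 1 := fun h3 => n2 (inv_mul_eq_one.mp h3).symm
  have hprod : r1 * r2 ∈ M := by
    have e1 : x⁻¹ * ((s1 * s2 * q) * x * (s1 * s2 * q)⁻¹) = r1 * r2 := by
      have h3 := F.comm c hc A hA A' hA' (Ne.symm hne) s1 w1.mem r2 (Subgroup.mem_inf.mp h2).2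
      have h4 := hxc q hq
      calc x⁻¹ * ((s1 * s2 * q) * x * (s1 * s2 * q)⁻¹) = x⁻¹ * (s1 * s2 * (q * x) * q⁻¹ * s2⁻¹ * s1⁻¹) := by group
        _ = x⁻¹ * (s1 * s2 * (x * q) * q⁻¹ * s2⁻¹ * s1⁻¹) := by rw [h4]
        _ = x⁻¹ * (s1 * x * r2 * s1⁻¹) := by rw [hr2]; group
        _ = x⁻¹ * (s1 * x * s1⁻¹ * (s1 * r2) * s1⁻¹) := by group
        _ = x⁻¹ * (s1 * x * s1⁻¹ * (r2 * s1) * s1⁻¹) := by rw [h3]
        _ = r1 * r2 := by rw [hr1]; group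
    rw [← e1]
    have h5 : x⁻¹ * (s1 * s2 * q) * x⁻¹⁻¹ ∈ M := conj_mem_of_cj (hQd (inv_mem hxQ) M hM) h
    have e2 : x⁻¹ * ((s1 * s2 * q) * x * (s1 * s2 * q)⁻¹) = x⁻¹ * (s1 * s2 * q) * x⁻¹⁻¹ * (s1 * s2 * q)⁻¹ := by group
    rw [e2]
    exact mul_mem h5 (inv_mem h)
  have hQ1 := (Subgroup.mem_inf.mp h1)
  have hQ2 := (Subgroup.mem_inf.mp h2)
  by_cases hcd : c = d
  · subst hcd
    rcases F.le2 c hc A hA A' hA' M hM with h3 | h3 | h3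
    · exact hne h3.symm
    · subst h3
      refine hr2' (eq_one_of_same F.toFam C.pg hc hA hA' hne hQ2.1 ?_ hQ2.2)
      have : r2 = r1⁻¹ * (r1 * r2) := by group
      rw [this]
      exact mul_mem (inv_mem hQ1.2) hprod
    · subst h3
      refine hr1' (eq_one_of_same F.toFam C.pg hc hA hA' hne hQ1.1 hQ1.2 ?_)
      have : r1 = (r1 * r2) * r2⁻¹ := by group
      rw [this]
      exact mul_mem hprod (inv_mem hQ2.2)
  · have h3 := eq_one_of_prod F C hc hd hcd hQc hQd hA hA' hne hM h1 h2 hprod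
    refine hr1' (eq_one_of_same F.toFam C.pg hc hA hA' hne hQ1.1 hQ1.2 ?_)
    rw [eq_inv_of_mul_eq_one_left h3]
    exact inv_mem hQ2.2

end

end Cfsg.Agent.OddHalf.D3.TwoKey
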