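import Cfsg.Agent.OddHalf.D3.TwoCfg

/-!
# ODD D3 (iii), `n = 2`: the elements `s` and the maps `r_s` (text of helper133, bb ODD 9195, (2), (4)-(6))
-/

set_option autoImplicit false

namespace Cfsg.Agent.OddHalf.D3.TwoNF

open Cfsg.Agent.OddHalf.D3.ThreeDefs Cfsg.Agent.OddHalf.D3.ThreeFam Cfsg.Agent.OddHalf.D3.ThreeMain
open Cfsg.Agent.OddHalf.D3.Swap Cfsg.Agent.OddHalf.D3.TwoCfg
open scoped commutatorElement

universe u

variable {G : Type u} [Group G]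

/-- the subgroup `Q ∩ C(A)` -/
def QC (Q A : Subgroup G) : Subgroup G := Q ⊓ Subgroup.centralizer (A : Set G)

theorem mem_QC {Q A : Subgroup G} {x : G} : x ∈ QC Q A ↔ x ∈ Q ∧ ∀ a ∈ A, x * a = a * x := by
  unfold QC
  rw [Subgroup.mem_inf, Subgroup.mem_centralizer_iff]
  exact and_congr_right fun _ => forall₂_congr fun _ _ => eq_comm

theorem QC_le {Q A : Subgroup G} : QC Q A ≤ Q := inf_le_left

theorem cj_QC {Q A : Subgroup G} {s : G} (hs : cj s Q = Q) : cj s (QC Q A) = QC Q (cj s A) := by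
  ext x
  rw [mem_cj, mem_QC, mem_QC, ← mem_cj, hs]
  refine and_congr_right fun _ => ⟨fun h a ha => ?_, fun h a ha => ?_⟩
  · rw [mem_cj] at ha
    have := h _ ha
    calc x * a = s * ((s⁻¹ * x * s) * (s⁻¹ * a * s)) * s⁻¹ := by group
      _ = s * ((s⁻¹ * a * s) * (s⁻¹ * x * s)) * s⁻¹ := by rw [this]
      _ = a * x := by group
  · have := h _ (conj_mem_cj ha)
    calc s⁻¹ * x * s * a = s⁻¹ * (x * (s * a * s⁻¹)) * s := by group
      _ = s⁻¹ * ((s * a * s⁻¹) * x) * s := by rw [this]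
      _ = a * (s⁻¹ * x * s) := by group

theorem cj_inf (s : G) (A B : Subgroup G) : cj s (A ⊓ B) = cj s A ⊓ cj s B := by
  ext x
  rw [mem_cj, Subgroup.mem_inf, Subgroup.mem_inf, mem_cj, mem_cj]

/-- a witness: a 2-element of `A` normalising `Q`, not in `Q` -/
structure Wit (Q A : Subgroup G) (s : G) : Prop where
  mem : s ∈ A
  norm : cj s Q = Q
  not : s ∉ Q
  sq : s * s ∈ Q

theorem sq_pgroup {Q : Subgroup G} (hQ : IsPGroup 2 Q) {s : G} (hs : s * s ∈ Q) : IsPGroup 2 (Subgroup.zpowers s) := by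
  obtain ⟨k, hk⟩ := hQ ⟨s * s, hs⟩
  have hk' : (s * s) ^ 2 ^ k = 1 := congrArg Subtype.val hk
  have h1 : s ^ 2 ^ (k + 1) = 1 := by
    rw [pow_succ', pow_mul, pow_two]; exact hk'
  rintro ⟨x, hx⟩
  obtain ⟨m, rfl⟩ := Subgroup.mem_zpowers_iff.mp hx
  refine ⟨k + 1, Subtype.ext ?_⟩
  change (s ^ m) ^ 2 ^ (k + 1) = 1
  rw [← zpow_natCast, ← zpow_mul, mul_comm, zpow_mul, zpow_natCast, h1, one_zpow]

section
variable {𝓒 : Set (Set (Subgroup G))} {Q : Subgroup G}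

/-- no element of the 2-group `Q` centralises members of two different classes -/
theorem eq_one_of_two (F : Fam 𝓒) (hQ : IsPGroup 2 Q) {c d : Set (Subgroup G)} (hc : c ∈ 𝓒) (hd : d ∈ 𝓒)
    (hcd : c ≠ d) {A M : Subgroup G} (hA : A ∈ c) (hM : M ∈ d) {x : G} (hx : x ∈ QC Q A) (hx' : x ∈ QC Q M) : x = 1 := by
  by_contra h1
  obtain ⟨n, hn2, hn1⟩ := exists_pow_inv hQ (mem_QC.mp hx).1 h1
  refine hcd (F.uniq c hc d hd (x ^ n) ⟨hn2, hn1, A, hA, ?_⟩ ⟨hn2, hn1, M, hM, ?_⟩)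
  · intro a ha
    have : Commute x a := (mem_QC.mp hx).2 a ha
    exact (this.pow_left n).eq
  · intro a ha
    have : Commute x a := (mem_QC.mp hx').2 a ha
    exact (this.pow_left n).eq

/-- **C1** -/
theorem comm_of_two (F : Fam 𝓒) (hQ : IsPGroup 2 Q) {c d : Set (Subgroup G)} (hc : c ∈ 𝓒) (hd : d ∈ 𝓒)
    (hcd : c ≠ d) (hQc : Q ≤ Nm c) (hQd : Q ≤ Nm d) {A M : Subgroup G} (hA : A ∈ c) (hM : M ∈ d) {x y : G}
    (hx : x ∈ QC Q A) (hy : y ∈ QC Q M) : x * y = y * x := by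
  have hxQ := (mem_QC.mp hx).1
  have hyQ := (mem_QC.mp hy).1
  have h1 : cj y⁻¹ (QC Q A) = QC Q A := by
    rw [cj_QC (cj_eq_of_mem (inv_mem hyQ)), cj_inv_eq (hQc hyQ A hA)]
  have h2 : cj x (QC Q M) = QC Q M := by
    rw [cj_QC (cj_eq_of_mem hxQ), hQd hxQ M hM]
  have h3 : ⁅x, y⁆ ∈ QC Q A := by
    have e : ⁅x, y⁆ = x * (y * x⁻¹ * y⁻¹) := by rw [commutatorElement_def]; group
    rw [e]
    have h1' : cj y (QC Q A) = QC Q A := by
      have := cj_inv_eq h1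
      rwa [inv_inv] at this
    exact mul_mem hx (conj_mem_of_cj h1' (inv_mem hx))
  have h4 : ⁅x, y⁆ ∈ QC Q M := by
    rw [commutatorElement_def]
    exact mul_mem (conj_mem_of_cj h2 hy) (inv_mem hy)
  have h5 := eq_one_of_two F hQ hc hd hcd hA hM h3 h4
  rw [commutatorElement_def] at h5
  calc x * y = (x * y * x⁻¹ * y⁻¹) * (y * x) := by group
    _ = y * x := by rw [h5, one_mul]

/-- `Q ∩ A' ≤ Q ∩ C(A)` -/
theorem inf_le_QC (F : Fam 𝓒) {c : Set (Subgroup G)} (hc : c ∈ 𝓒) {A A' : Subgroup G} (hA : A ∈ c) (hA' : A' ∈ c)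
    (hne : A' ≠ A) : Q ⊓ A' ≤ QC Q A := by
  intro x hx
  rw [Subgroup.mem_inf] at hx
  exact mem_QC.mpr ⟨hx.1, F.comm c hc A' hA' A hA hne x hx.2⟩

/-- no nontrivial element of `Q ∩ A` centralises `A` -/
theorem eq_one_of_center (F : Fam 𝓒) (hQ : IsPGroup 2 Q) {c : Set (Subgroup G)} (hc : c ∈ 𝓒) {A : Subgroup G}
    (hA : A ∈ c) {x : G} (hx : x ∈ QC Q A) (hxA : x ∈ A) : x = 1 := by
  by_contra h1
  obtain ⟨n, hn2, hn1⟩ := exists_pow_inv hQ (mem_QC.mp hx).1 h1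
  refine hn1 (F.cent c hc A hA (x ^ n) (pow_mem hxA n) hn2 ?_)
  intro a ha
  have : Commute x a := (mem_QC.mp hx).2 a ha
  exact (this.pow_left n).eq

/-- different members of a class meet trivially in `Q` -/
theorem eq_one_of_same (F : Fam 𝓒) (hQ : IsPGroup 2 Q) {c : Set (Subgroup G)} (hc : c ∈ 𝓒) {A A' : Subgroup G}
    (hA : A ∈ c) (hA' : A' ∈ c) (hne : A' ≠ A) {x : G} (hx : x ∈ Q) (hxA : x ∈ A) (hxA' : x ∈ A') : x = 1 :=
  eq_one_of_center F hQ hc hA (mem_QC.mpr ⟨hx, F.comm c hc A' hA' A hA hne x hxA'⟩) hxA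

/-- the conditions on `P` under which `r_s` is an injective homomorphism -/
structure RP (Q A P : Subgroup G) (s : G) : Prop where
  le : P ≤ Q
  tri : ∀ x ∈ P, x ∈ A → x = 1
  comm : ∀ b ∈ P, ∀ b' ∈ P, b * (s * b' * s⁻¹) = (s * b' * s⁻¹) * b
  inj : ∀ b ∈ P, s * b * s⁻¹ = b → b = 1

theorem r_mem {A P : Subgroup G} {s : G} (hQA : ∀ x ∈ Q, cj x A = A) (w : Wit Q A s) (h : P ≤ Q) {b : G} (hb : b ∈ P) :
    b⁻¹ * (s * b * s⁻¹) ∈ Q ⊓ A := by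
  rw [Subgroup.mem_inf]
  constructor
  · exact mul_mem (inv_mem (h hb)) (conj_mem_of_cj w.norm (h hb))
  · have h1 : b⁻¹ * s * (b⁻¹)⁻¹ ∈ A := conj_mem_of_cj (hQA _ (inv_mem (h hb))) w.mem
    have e : b⁻¹ * (s * b * s⁻¹) = b⁻¹ * s * (b⁻¹)⁻¹ * s⁻¹ := by group
    rw [e]
    exact mul_mem h1 (inv_mem w.mem)

/-- **C2**: `P` is abelian -/
theorem RP.abelian {A P : Subgroup G} {s : G} (hQA : ∀ x ∈ Q, cj x A = A) (w : Wit Q A s) (h : RP Q A P s) :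
    ∀ b ∈ P, ∀ b' ∈ P, b * b' = b' * b := by
  intro b hb b' hb'
  have h1 := h.comm b' hb' b hb
  -- `s b s⁻¹ = b r`
  have hr := (Subgroup.mem_inf.mp (r_mem hQA w h.le hb)).2
  set r := b⁻¹ * (s * b * s⁻¹) with hrdef
  have e : s * b * s⁻¹ = b * r := by rw [hrdef]; group
  rw [e] at h1
  have h2 : b⁻¹ * b'⁻¹ * b * b' = r * (b'⁻¹ * r⁻¹ * b') := by
    have h3 : b' * (b * r) * b'⁻¹ = b * r := by rw [h1]; group
    calc b⁻¹ * b'⁻¹ * b * b' = b⁻¹ * b'⁻¹ * ((b * r)) * r⁻¹ * b' := by group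
      _ = b⁻¹ * b'⁻¹ * (b' * (b * r) * b'⁻¹) * r⁻¹ * b' := by rw [h3]
      _ = r * (b'⁻¹ * r⁻¹ * b') := by group
  have h4 : b'⁻¹ * r⁻¹ * b' ∈ A := by
    have := conj_mem_of_cj (hQA _ (inv_mem (h.le hb'))) (inv_mem hr)
    rwa [inv_inv] at this
  have h5 := h.tri (b⁻¹ * b'⁻¹ * b * b') (mul_mem (mul_mem (mul_mem (inv_mem hb) (inv_mem hb')) hb) hb')
    (by rw [h2]; exact mul_mem hr h4)
  calc b * b' = b' * b * (b⁻¹ * b'⁻¹ * b * b') := by group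
    _ = b' * b := by rw [h5, mul_one]

/-- **C2**: the homomorphism `r_s` -/
noncomputable def RP.hom {A P : Subgroup G} {s : G} (hQA : ∀ x ∈ Q, cj x A = A) (w : Wit Q A s) (h : RP Q A P s) :
    P →* (Q ⊓ A : Subgroup G) :=
  MonoidHom.mk' (fun b => ⟨(b : G)⁻¹ * (s * b * s⁻¹), r_mem hQA w h.le b.2⟩) (by
    intro b b'
    apply Subtype.ext
    change ((b : G) * b')⁻¹ * (s * (b * b') * s⁻¹) = (b : G)⁻¹ * (s * b * s⁻¹) * ((b' : G)⁻¹ * (s * b' * s⁻¹))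
    have h1 := h.comm (b' : G)⁻¹ (inv_mem b'.2) b b.2
    have h2 := h.abelian hQA w b b.2 b' b'.2
    calc ((b : G) * b')⁻¹ * (s * (b * b') * s⁻¹) = ((b : G) * b')⁻¹ * (s * b * s⁻¹) * (s * b' * s⁻¹) := by group
      _ = ((b' : G) * b)⁻¹ * (s * b * s⁻¹) * (s * b' * s⁻¹) := by rw [h2]
      _ = (b : G)⁻¹ * ((b' : G)⁻¹ * (s * b * s⁻¹)) * (s * b' * s⁻¹) := by group
      _ = (b : G)⁻¹ * ((s * b * s⁻¹) * (b' : G)⁻¹) * (s * b' * s⁻¹) := by rw [h1]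
      _ = _ := by group)

theorem RP.hom_apply {A P : Subgroup G} {s : G} (hQA : ∀ x ∈ Q, cj x A = A) (w : Wit Q A s) (h : RP Q A P s) (b : P) :
    ((h.hom hQA w b : (Q ⊓ A : Subgroup G)) : G) = (b : G)⁻¹ * (s * b * s⁻¹) := rfl

theorem RP.hom_injective {A P : Subgroup G} {s : G} (hQA : ∀ x ∈ Q, cj x A = A) (w : Wit Q A s) (h : RP Q A P s) :
    Function.Injective (h.hom hQA w) := by
  rw [injective_iff_map_eq_one]
  intro b hb
  have h1 : (b : G)⁻¹ * (s * b * s⁻¹) = 1 := congrArg Subtype.val hb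
  refine Subtype.ext (h.inj b b.2 ?_)
  exact (inv_mul_eq_one.mp h1).symm

theorem RP.card_le [Finite G] {A P : Subgroup G} {s : G} (hQA : ∀ x ∈ Q, cj x A = A) (w : Wit Q A s) (h : RP Q A P s) :
    Nat.card P ≤ Nat.card (Q ⊓ A : Subgroup G) :=
  Nat.card_le_card_of_injective _ (h.hom_injective hQA w)

theorem RP.surj [Finite G] {A P : Subgroup G} {s : G} (hQA : ∀ x ∈ Q, cj x A = A) (w : Wit Q A s) (h : RP Q A P s)
    (hcard : Nat.card (Q ⊓ A : Subgroup G) ≤ Nat.card P) {a : G} (ha : a ∈ Q) (haA : a ∈ A) :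
    ∃ b ∈ P, b⁻¹ * (s * b * s⁻¹) = a := by
  have h1 : Function.Bijective (h.hom hQA w) :=
    (Nat.bijective_iff_injective_and_card _).mpr ⟨h.hom_injective hQA w, le_antisymm (h.card_le hQA w) hcard⟩
  obtain ⟨b, hb⟩ := h1.2 ⟨a, Subgroup.mem_inf.mpr ⟨ha, haA⟩⟩
  exact ⟨b, b.2, congrArg Subtype.val hb⟩

/-! ### The dichotomy (mv) / (sw) -/

/-- **C3**: `s ∉ Nm d` -/
theorem Wit.not_Nm [Finite G] (F : Fam2 𝓒) (C : Cfg 𝓒 Q) {c d : Set (Subgroup G)} (hc : c ∈ 𝓒) (hd : d ∈ 𝓒)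
    (hcd : c ≠ d) (hQc : Q ≤ Nm c) (hQd : Q ≤ Nm d) {A : Subgroup G} (hA : A ∈ c) {s : G} (w : Wit Q A s) :
    s ∉ Nm d := by
  intro h
  exact w.not (C.mem_of_norm hc hd hcd hQc hQd (sq_pgroup C.pg w.sq) w.norm (mem_le_Nm F.toFam hc hA w.mem) h)

/-- `s d` is stabilised by `Q` -/
theorem le_Nm_cjs {d : Set (Subgroup G)} {s : G} (hsQ : cj s Q = Q) (hQd : Q ≤ Nm d) : Q ≤ Nm (cjs s d) := by
  intro q hq
  rw [mem_Nm_cjs]
  apply hQd
  have := conj_mem_of_cj (cj_inv_eq hsQ) hq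
  rwa [inv_inv] at this

theorem RP.mono {A P P' : Subgroup G} {s : G} (h : RP Q A P s) (hP : P' ≤ P) : RP Q A P' s where
  le := hP.trans h.le
  tri := fun x hx => h.tri x (hP hx)
  comm := fun b hb b' hb' => h.comm b (hP hb) b' (hP hb')
  inj := fun b hb => h.inj b (hP hb)

theorem tri_QC (F : Fam 𝓒) (hQ : IsPGroup 2 Q) {c d : Set (Subgroup G)} (hc : c ∈ 𝓒) (hd : d ∈ 𝓒) (hcd : c ≠ d)
    {A M : Subgroup G} (hA : A ∈ c) (hM : M ∈ d) : ∀ x ∈ QC Q M, x ∈ A → x = 1 := by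
  intro x hx hxA
  obtain ⟨A', hA', hne⟩ := F.two c hc A
  exact eq_one_of_two F hQ hc hd hcd hA' hM
    (mem_QC.mpr ⟨(mem_QC.mp hx).1, F.comm c hc A hA A' hA' (Ne.symm hne) x hxA⟩) hx

/-- (mv) -/
theorem rp_mv (F : Fam 𝓒) (hQ : IsPGroup 2 Q) {c d : Set (Subgroup G)} (hc : c ∈ 𝓒) (hd : d ∈ 𝓒)
    (hcd : c ≠ d) (hQd : Q ≤ Nm d) {A M : Subgroup G} (hA : A ∈ c) (hM : M ∈ d)
    {s : G} (hs : cj s Q = Q) (hmv : cjs s d ≠ d) : RP Q A (QC Q M) s where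
  le := QC_le
  tri := tri_QC F hQ hc hd hcd hA hM
  comm := by
    intro b hb b' hb'
    have h1 : s * b' * s⁻¹ ∈ QC Q (cj s M) := by
      rw [← cj_QC hs]; exact conj_mem_cj hb'
    exact comm_of_two F hQ hd (F.conj s d hd) (Ne.symm hmv) hQd (le_Nm_cjs hs hQd) hM (cj_mem_cjs hM) hb h1
  inj := by
    intro b hb h
    have h1 : s * b * s⁻¹ ∈ QC Q (cj s M) := by
      rw [← cj_QC hs]; exact conj_mem_cj hb
    rw [h] at h1
    exact eq_one_of_two F hQ hd (F.conj s d hd) (Ne.symm hmv) hM (cj_mem_cjs hM) hb h1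

/-- (sw), on `Q ∩ M` -/
theorem rp_sw (F : Fam 𝓒) (hQ : IsPGroup 2 Q) {c d : Set (Subgroup G)} (hc : c ∈ 𝓒) (hd : d ∈ 𝓒)
    (hcd : c ≠ d) {A M : Subgroup G} (hA : A ∈ c) (hM : M ∈ d)
    {s : G} (hsd : s ∈ St d) (hsw : cj s M ≠ M) : RP Q A (Q ⊓ M) s where
  le := inf_le_left
  tri := by
    intro x hx hxA
    rw [Subgroup.mem_inf] at hx
    exact F.inter_two hc hd hcd hA hM hQ hxA hx.2 hx.1
  comm := by
    intro b hb b' hb'
    exact F.comm d hd M hM (cj s M) (cj_mem_of_St hsd hM) (Ne.symm hsw) b (Subgroup.mem_inf.mp hb).2 _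
      (conj_mem_cj (Subgroup.mem_inf.mp hb').2)
  inj := by
    intro b hb h
    rw [Subgroup.mem_inf] at hb
    have h1 : s * b * s⁻¹ ∈ cj s M := conj_mem_cj hb.2
    rw [h] at h1
    exact eq_one_of_same F hQ hd hM (cj_mem_of_St hsd hM) hsw hb.1 hb.2 h1

/-- in both cases: on `Q ∩ M` -/
theorem rp_both [Finite G] (F : Fam2 𝓒) (C : Cfg 𝓒 Q) {c d : Set (Subgroup G)} (hc : c ∈ 𝓒) (hd : d ∈ 𝓒)
    (hcd : c ≠ d) (hQc : Q ≤ Nm c) (hQd : Q ≤ Nm d) {A M : Subgroup G} (hA : A ∈ c) (hM : M ∈ d) {s : G}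
    (w : Wit Q A s) : RP Q A (Q ⊓ M) s := by
  by_cases h : cjs s d = d
  · refine rp_sw F.toFam C.pg hc hd hcd hA hM h fun hsM => ?_
    exact w.not_Nm F C hc hd hcd hQc hQd hA (mem_Nm_of_cj F hd hM hsM)
  · obtain ⟨M', hM', hne⟩ := F.two d hd M
    exact (rp_mv F.toFam C.pg hc hd hcd hQd hA hM' w.norm h).mono (inf_le_QC F.toFam hd hM' hM (Ne.symm hne))

end

end Cfsg.Agent.OddHalf.D3.TwoNF
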